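import Cfsg.Agent.OddHalf.D6.SixU.Main
import Cfsg.Agent.OddHalf.D5.SixAut.Row
import Cfsg.Agent.CoThreeStd.Parity

/-!
# ODD D5 / D6, `n = 6`, `q = 9`: the row of C3a (helper680)
-/

set_option autoImplicit false

namespace Cfsg.Agent.OddHalf.D6.SixU

open Subgroup Equiv

universe u

/-- the row of C3a -/
theorem ssixRow : D5.SixAut.SSixRow.{u} := by
  intro G _ C x φ S
  have := C.fin
  have := C.simple
  refine ssix_false (CoThreeStd.Parity.index_ne_two_of_noncomm ?_) C.sect5 S
  by_contra h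
  push Not at h
  exact C.na ⟨⟨h⟩⟩

end Cfsg.Agent.OddHalf.D6.SixU
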