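import Cfsg.Agent.OddHalf.D6.SixU.EndFin3

/-!
# Finite facts on permutations for the ends of case (B), 4 (ODD D6, `q = 9`, helper751)
-/

set_option autoImplicit false

namespace Cfsg.Agent.OddHalf.D6.SixU.EndFin

open Equiv
open EndPerm EndTw

set_option Elab.async false

/-- `⟨z, e⟩` -/
def PV : Finset (Perm (Fin 6)) := {1, pz, pe, pz * pe}

theorem PV_P2 : ∀ u ∈ PV, u ∈ P2 := by decide +kernel
theorem PV_mul : ∀ u ∈ PV, ∀ w ∈ PV, u * w ∈ PV := by decide +kernel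
theorem P2_sq : ∀ u ∈ P2, u * u = 1 := by decide +kernel
theorem P2_one : (1 : Perm (Fin 6)) ∈ P2 := by decide +kernel
theorem PV_one : (1 : Perm (Fin 6)) ∈ PV := by decide +kernel
/-- the elements of `P2` outside `PV` -/
theorem P2_out : ∀ u ∈ P2, u ∉ PV → u = pf ∨ u = pf * pz ∨ u = pf * pz * pe ∨ u = pf * pe := by decide +kernel
theorem P2_fV' : ∀ u ∈ PV, pf * u ∉ PV := by decide +kernel
theorem P2_fV : ∀ u ∈ P2, u ∉ PV → pf * u ∈ PV := by decide +kernel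
theorem PU_P2 : ∀ p ∈ PU, ∀ u ∈ P2, p * u * p⁻¹ ∈ P2 := by decide +kernel
theorem PU_PV : ∀ p ∈ PU, ∀ u ∈ PV, p * u * p⁻¹ ∈ PV := by decide +kernel
theorem PU_z : ∀ p ∈ PU, p * pz = pz * p := by decide +kernel
theorem comm_fze : ∀ p ∈ PU, p * (pf * pz * pe) = (pf * pz * pe) * p → p ∈ P2 := by decide +kernel
theorem comm_fe : ∀ p ∈ PU, p * (pf * pe) = (pf * pe) * p → p ∈ P2 := by decide +kernel
theorem r_fz : pr * (pf * pz) * pr⁻¹ = pf * pz * pe := by decide +kernel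
theorem r_fz' : pr⁻¹ * (pf * pz) * pr = pf * pe := by decide +kernel
theorem PZ_a_P2 : ∀ u ∈ PZ, pa * u ∉ P2 := by decide +kernel
theorem PZ_a_PU : ∀ u ∈ PZ, pa * u ∈ PU := by decide +kernel

end Cfsg.Agent.OddHalf.D6.SixU.EndFin
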