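import Mathlib

/-!
# The permutations used in the ends of case (B) (ODD D6, `q = 9`, helper751)

`pa = (01)`, `pz = (01)(23)`, `pf = (45)`, `pe = (02)(13)`, `pr = (012)`, `ps = (402)(513)`.
-/

set_option autoImplicit false

namespace Cfsg.Agent.OddHalf.D6.SixU.EndPerm

open Equiv

def pa : Perm (Fin 6) := swap 0 1
def pz : Perm (Fin 6) := swap 0 1 * swap 2 3
def pf : Perm (Fin 6) := swap 4 5
def pe : Perm (Fin 6) := swap 0 2 * swap 1 3
def pr : Perm (Fin 6) := swap 0 1 * swap 1 2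
def ps : Perm (Fin 6) := (swap 4 0 * swap 0 2) * (swap 5 1 * swap 1 3)

/-- `⟨f, z, a⟩` -/
def P1 : Finset (Perm (Fin 6)) := {1, pf, pz, pf * pz, pa, pf * pa, pz * pa, pf * pz * pa}

/-- `⟨f, z, e⟩` -/
def P2 : Finset (Perm (Fin 6)) := {1, pf, pz, pf * pz, pe, pf * pe, pz * pe, pf * pz * pe}

/-- `⟨a, e, f⟩` -/
def PU : Finset (Perm (Fin 6)) :=
  {1, pf, pz, pf * pz, pa, pf * pa, pz * pa, pf * pz * pa,
    pe, pf * pe, pz * pe, pf * pz * pe, pa * pe, pf * pa * pe, pz * pa * pe, pf * pz * pa * pe}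

def PS : Finset (Perm (Fin 6)) := {1, ps, ps * ps, pe, ps * pe, ps * ps * pe}

set_option Elab.async false

theorem ff : pf * pf = 1 := by decide +kernel
theorem zz : pz * pz = 1 := by decide +kernel
theorem aa : pa * pa = 1 := by decide +kernel
theorem ee : pe * pe = 1 := by decide +kernel
theorem fz : pf * pz = pz * pf := by decide +kernel
theorem fa : pf * pa = pa * pf := by decide +kernel
theorem fe : pf * pe = pe * pf := by decide +kernel
theorem za : pz * pa = pa * pz := by decide +kernel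
theorem ze : pz * pe = pe * pz := by decide +kernel
theorem ea : pe * pa = pa * pe * pz := by decide +kernel
theorem rf : pr * pf * pr⁻¹ = pf := by decide +kernel
theorem rz : pr * pz * pr⁻¹ = pz * pe := by decide +kernel
theorem re : pr * pe * pr⁻¹ = pz := by decide +kernel
theorem rrr : pr * pr * pr = 1 := by decide +kernel
theorem sf : ps * pf * ps⁻¹ = pa := by decide +kernel
theorem sa : ps * pa * ps⁻¹ = pa * pz := by decide +kernel
theorem sz : ps * pz * ps⁻¹ = pf * pa * pz := by decide +kernel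
theorem sss : ps * ps * ps = 1 := by decide +kernel
theorem es : pe * ps * pe⁻¹ = ps⁻¹ := by decide +kernel

/-- the normaliser of `⟨f, z, a⟩` -/
theorem norm_P1 : ∀ p : Perm (Fin 6), p * pf * p⁻¹ ∈ P1 → p * pz * p⁻¹ ∈ P1 → p * pa * p⁻¹ ∈ P1 →
    ∃ q ∈ P1, ∃ s ∈ PS, p = q * s := by decide +kernel

/-- the centraliser of `⟨f, z, a⟩` -/
theorem cent_P1 : ∀ p : Perm (Fin 6), p * pf = pf * p → p * pz = pz * p → p * pa = pa * p →
    p ∈ P1 := by decide +kernel

/-- the normaliser of `⟨f, z, e⟩` -/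
theorem norm_P2 : ∀ p : Perm (Fin 6), p * pf * p⁻¹ ∈ P2 → p * pz * p⁻¹ ∈ P2 → p * pe * p⁻¹ ∈ P2 →
    p * pz * p⁻¹ ∈ ({1, pf, pz, pf * pz} : Finset (Perm (Fin 6))) → p ∈ PU := by decide +kernel

/-- the centraliser of `⟨f, z, e⟩` -/
theorem cent_P2 : ∀ p : Perm (Fin 6), p * pf = pf * p → p * pz = pz * p → p * pe = pe * p →
    p ∈ P2 := by decide +kernel

end Cfsg.Agent.OddHalf.D6.SixU.EndPerm
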