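import Cfsg.Agent.OddHalf.D6.Six.Defs
import Cfsg.Agent.OddHalf.D6.SixU.EndPerm

/-!
# The subgroups `⟨w⟩ × φ(⟨a, e, f⟩)` of order `32` and Sylow in `C(w)` (ODD D6, `q = 9`, helper751)
-/

set_option autoImplicit false

namespace Cfsg.Agent.OddHalf.D6.SixU.EndTw

open Subgroup Equiv
open Cfsg.Agent.OddHalf.D6.Six EndPerm

variable {G : Type*} [Group G]

/-- two subgroups of order `32` of a group of order `1440` are conjugate -/
theorem conj_of_card [Finite G] {C P Q : Subgroup G} (hP : P ≤ C) (hQ : Q ≤ C)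
    (cP : Nat.card P = 32) (cQ : Nat.card Q = 32) (cC : Nat.card C = 1440) :
    ∃ c ∈ C, ∀ t, t ∈ P ↔ c * t * c⁻¹ ∈ Q := by
  have : Fact (Nat.Prime 2) := ⟨Nat.prime_two⟩
  have key : ∀ R : Subgroup G, R ≤ C → Nat.card R = 32 → ∃ S : Sylow 2 C, (S : Subgroup C) = R.subgroupOf C := by
    intro R hR cR
    have c1 : Nat.card (R.subgroupOf C) = 32 := by
      rw [Nat.card_congr (subgroupOfEquivOfLe hR).toEquiv, cR]
    have p1 : IsPGroup 2 (R.subgroupOf C) := IsPGroup.of_card (n := 5) (by rw [c1]; norm_num)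
    obtain ⟨S, hS⟩ := p1.exists_le_sylow
    refine ⟨S, ?_⟩
    obtain ⟨n, hn⟩ := IsPGroup.iff_card.1 S.isPGroup'
    have h1 : Nat.card (S : Subgroup C) ∣ 1440 := cC ▸ card_subgroup_dvd_card _
    have h2 : n ≤ 5 := by
      by_contra h
      have h3 : 2 ^ 6 ∣ 1440 := (pow_dvd_pow 2 (by omega : 6 ≤ n)).trans (hn ▸ h1)
      revert h3; decide
    symm
    apply eq_of_le_of_card_ge hS
    rw [c1, hn]
    calc 2 ^ n ≤ 2 ^ 5 := Nat.pow_le_pow_right (by decide) h2
      _ = 32 := by norm_num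
  obtain ⟨S, hS⟩ := key P hP cP
  obtain ⟨S', hS'⟩ := key Q hQ cQ
  obtain ⟨c, hc⟩ := MulAction.exists_smul_eq C S S'
  refine ⟨c, c.2, fun t => ?_⟩
  have h1 : ∀ t : C, t ∈ (S : Subgroup C) ↔ c * t * c⁻¹ ∈ (S' : Subgroup C) := by
    intro t
    rw [← hc, Sylow.coe_subgroup_smul]
    constructor
    · intro ht
      exact ⟨t, ht, rfl⟩
    · rintro ⟨s, hs, h⟩
      have h' : c * s * c⁻¹ = c * t * c⁻¹ := h
      have : s = t := mul_left_cancel (mul_right_cancel h')
      rwa [← this]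
  rw [hS, hS'] at h1
  constructor
  · intro ht
    exact (h1 ⟨t, hP ht⟩).1 ht
  · intro ht
    have h2 : c * t * (c : G)⁻¹ ∈ C := hQ ht
    have h3 : t ∈ C := by
      have := C.mul_mem (C.mul_mem (C.inv_mem c.2) h2) c.2
      have e : (c : G)⁻¹ * (c * t * (c : G)⁻¹) * c = t := by group
      rwa [e] at this
    exact (h1 ⟨t, h3⟩).2 ht

set_option Elab.async false in
theorem PU_mul : ∀ u ∈ PU, ∀ v ∈ PU, u * v ∈ PU := by decide +kernel

set_option Elab.async false in
theorem PU_inv : ∀ u ∈ PU, u⁻¹ ∈ PU := by decide +kernel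

theorem PU_one : (1 : Perm (Fin 6)) ∈ PU := by decide +kernel

theorem PU_card : PU.card = 16 := by decide +kernel

/-- `⟨w⟩ × φ(⟨a, e, f⟩)` -/
def Tw (φ : Perm (Fin 6) →* G) (w : G) (hw : w * w = 1) (hc : ∀ u ∈ PU, w * φ u = φ u * w) :
    Subgroup G where
  carrier := {g | ∃ u ∈ PU, g = φ u ∨ g = w * φ u}
  one_mem' := ⟨1, PU_one, Or.inl (map_one φ).symm⟩
  mul_mem' := by
    rintro g g' ⟨u, hu, h⟩ ⟨v, hv, h'⟩
    refine ⟨u * v, PU_mul u hu v hv, ?_⟩
    rw [map_mul]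
    rcases h with rfl | rfl <;> rcases h' with rfl | rfl
    · exact Or.inl rfl
    · right; rw [← mul_assoc, ← hc u hu, mul_assoc]
    · right; rw [mul_assoc]
    · left
      calc w * φ u * (w * φ v) = w * (φ u * w) * φ v := by group
        _ = (w * w) * φ u * φ v := by rw [← hc u hu]; group
        _ = φ u * φ v := by rw [hw, one_mul]
  inv_mem' := by
    rintro g ⟨u, hu, h⟩
    refine ⟨u⁻¹, PU_inv u hu, ?_⟩
    have hwi : w⁻¹ = w := inv_eq_of_mul_eq_one_left hw
    rcases h with rfl | rfl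
    · left; rw [map_inv]
    · right; rw [mul_inv_rev, hwi, ← map_inv, hc _ (PU_inv u hu)]

theorem mem_Tw {φ : Perm (Fin 6) →* G} {w : G} {hw : w * w = 1} {hc : ∀ u ∈ PU, w * φ u = φ u * w}
    {g : G} : g ∈ Tw φ w hw hc ↔ ∃ u ∈ PU, g = φ u ∨ g = w * φ u := Iff.rfl

theorem card_Tw {φ : Perm (Fin 6) →* G} (hφ : Function.Injective φ) {w : G} {hw : w * w = 1}
    {hc : ∀ u ∈ PU, w * φ u = φ u * w} (hn : ∀ u ∈ PU, φ u ≠ w) : Nat.card (Tw φ w hw hc) = 32 := by
  classical
  have hne : ∀ u ∈ PU, ∀ v ∈ PU, φ u ≠ w * φ v := by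
    intro u hu v hv h
    apply hn (u * v⁻¹) (PU_mul u hu _ (PU_inv v hv))
    rw [map_mul, map_inv, h, mul_assoc, mul_inv_cancel, mul_one]
  let e : Bool × PU ≃ Tw φ w hw hc := Equiv.ofBijective
    (fun b => ⟨(if b.1 then w else 1) * φ b.2, ⟨b.2, b.2.2, by cases b.1 <;> simp⟩⟩) (by
    constructor
    · rintro ⟨b, u, hu⟩ ⟨c, v, hv⟩ h
      have h1 : (if b then w else 1) * φ u = (if c then w else 1) * φ v := congrArg Subtype.val h
      cases b <;> cases c
      · simp only [Bool.false_eq_true, if_false, one_mul] at h1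
        have := hφ h1
        subst this; rfl
      · simp only [Bool.false_eq_true, if_false, one_mul, if_true] at h1
        exact absurd h1 (hne u hu v hv)
      · simp only [Bool.false_eq_true, if_false, one_mul, if_true] at h1
        exact absurd h1.symm (hne v hv u hu)
      · simp only [if_true] at h1
        have := hφ (mul_left_cancel h1)
        subst this; rfl
    · rintro ⟨g, u, hu, h | h⟩
      · exact ⟨(false, ⟨u, hu⟩), Subtype.ext (by simp [h])⟩
      · exact ⟨(true, ⟨u, hu⟩), Subtype.ext (by simp [h])⟩)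
  rw [← Nat.card_congr e, Nat.card_prod, Nat.card_eq_fintype_card, Nat.card_eq_fintype_card]
  simp [PU_card]

/-- if `y` is a conjugate of `x`, commuting with `φ(⟨a, e, f⟩)`, some `g` maps `x` to `y` and `⟨x⟩ φ(U)` to
`⟨y⟩ φ(U)` -/
theorem exists_grow [Finite G] {x y : G} {φ : Perm (Fin 6) →* G} (S : SSix x φ) (hxy : IsConj x y)
    (hyy : y * y = 1) (hc : ∀ u ∈ PU, y * φ u = φ u * y) (hn : ∀ u ∈ PU, φ u ≠ y) :
    ∃ g, g * x * g⁻¹ = y ∧ ∀ t, t ∈ Tw φ x S.xx (fun u _ => S.comm u) ↔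
      g * t * g⁻¹ ∈ Tw φ y hyy hc := by
  obtain ⟨g, hg⟩ := isConj_iff.1 hxy
  have hcard : Nat.card (centralizer ({y} : Set G)) = 1440 := by
    rw [← S.card]
    refine (Nat.card_congr ?_).symm
    refine { toFun := fun c => ⟨g * c * g⁻¹, ?_⟩, invFun := fun c => ⟨g⁻¹ * c * g, ?_⟩, left_inv := ?_, right_inv := ?_ }
    · have := mem_centralizer_singleton_iff.1 c.2
      rw [mem_centralizer_singleton_iff, ← hg]
      calc g * c * g⁻¹ * (g * x * g⁻¹) = g * (c * x) * g⁻¹ := by group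
        _ = g * (x * c) * g⁻¹ := by rw [this]
        _ = g * x * g⁻¹ * (g * c * g⁻¹) := by group
    · have := mem_centralizer_singleton_iff.1 c.2
      have h2 : (c : G) * (g * x * g⁻¹) = g * x * g⁻¹ * c := by rw [hg]; exact this
      rw [mem_centralizer_singleton_iff]
      calc g⁻¹ * c * g * x = g⁻¹ * (c * (g * x * g⁻¹)) * g := by group
        _ = g⁻¹ * (g * x * g⁻¹ * c) * g := by rw [h2]
        _ = x * (g⁻¹ * c * g) := by group
    · intro c; apply Subtype.ext; show g⁻¹ * (g * c * g⁻¹) * g = c; group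
    · intro c; apply Subtype.ext; show g * (g⁻¹ * c * g) * g⁻¹ = c; group
  let T := Tw φ x S.xx (fun u _ => S.comm u)
  have cT : Nat.card T = 32 := card_Tw S.inj (fun u _ => S.nx u)
  have cT' : Nat.card (Tw φ y hyy hc) = 32 := card_Tw S.inj hn
  let P : Subgroup G := T.map (MulAut.conj g).toMonoidHom
  have cP : Nat.card P = 32 := by
    rw [← cT]
    exact (Nat.card_congr (T.equivMapOfInjective _ (MulAut.conj g).injective).toEquiv).symm
  have hP : P ≤ centralizer ({y} : Set G) := by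
    rintro _ ⟨t, ht, rfl⟩
    show g * t * g⁻¹ ∈ _
    have h1 : t * x = x * t := by
      obtain ⟨u, hu, h | h⟩ := ht
      · rw [h, S.comm]
      · rw [h, mul_assoc, ← S.comm u]
    rw [mem_centralizer_singleton_iff, ← hg]
    calc g * t * g⁻¹ * (g * x * g⁻¹) = g * (t * x) * g⁻¹ := by group
      _ = g * (x * t) * g⁻¹ := by rw [h1]
      _ = g * x * g⁻¹ * (g * t * g⁻¹) := by group
  have hQ : Tw φ y hyy hc ≤ centralizer ({y} : Set G) := by
    rintro t ⟨u, hu, h | h⟩
    · rw [mem_centralizer_singleton_iff, h, hc u hu]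
    · rw [mem_centralizer_singleton_iff, h, mul_assoc, ← hc u hu]
  obtain ⟨c, hcC, hct⟩ := conj_of_card hP hQ cP cT' hcard
  refine ⟨c * g, ?_, fun t => ?_⟩
  · rw [mem_centralizer_singleton_iff] at hcC
    calc c * g * x * (c * g)⁻¹ = c * (g * x * g⁻¹) * c⁻¹ := by group
      _ = c * y * c⁻¹ := by rw [hg]
      _ = y := by rw [hcC]; group
  · have h1 := hct (g * t * g⁻¹)
    have h2 : c * (g * t * g⁻¹) * c⁻¹ = c * g * t * (c * g)⁻¹ := by group
    rw [h2] at h1
    rw [← h1]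
    constructor
    · intro ht
      exact ⟨t, ht, rfl⟩
    · rintro ⟨s, hs, h⟩
      have h' : g * s * g⁻¹ = g * t * g⁻¹ := h
      have : s = t := mul_left_cancel (mul_right_cancel h')
      rwa [← this]

end Cfsg.Agent.OddHalf.D6.SixU.EndTw
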