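import Cfsg.Agent.OddHalf.D6.Six.TF

/-!
# Counting forms of the T-formula for the ends of case (B) (ODD D6, `q = 9`, helper751)
-/

set_option autoImplicit false

namespace Cfsg.Agent.OddHalf.D6.SixU.Ends0

open Subgroup Equiv
open Cfsg.Agent.OddHalf.D6.Six

variable {G : Type*} [Group G]

/-- a subgroup `K` with `H = (H ∩ K) ∪ y (H ∩ K)` gives a sign on `H` -/
theorem exists_sign (H K : Subgroup G) {y : G} (hy : y ∈ H) (hyK : y ∉ K)
    (h : ∀ n ∈ H, n ∈ K ∨ y⁻¹ * n ∈ K) :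
    ∃ lam : H →* ℤˣ, ∀ (n : G) (hn : n ∈ H), lam ⟨n, hn⟩ = -1 ↔ n ∉ K := by
  classical
  have hidx : (K.subgroupOf H).index = 2 := by
    rw [index_eq_two_iff]
    refine ⟨⟨y⁻¹, H.inv_mem hy⟩, ?_⟩
    rintro ⟨b, hb⟩
    rw [mem_subgroupOf, mem_subgroupOf]
    show Xor (b * y⁻¹ ∈ K) (b ∈ K)
    rcases h b⁻¹ (H.inv_mem hb) with h1 | h1
    · have h2 : b ∈ K := by simpa using K.inv_mem h1
      right
      refine ⟨h2, fun h3 => hyK ?_⟩
      have := K.mul_mem (K.inv_mem h3) h2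
      simpa [mul_assoc] using this
    · have h2 : b * y ∈ K := by simpa using K.inv_mem h1
      left
      have h4 : b ∉ K := fun h3 => hyK (by simpa using K.mul_mem (K.inv_mem h3) h2)
      refine ⟨?_, h4⟩
      rcases h (b * y⁻¹)⁻¹ (H.inv_mem (H.mul_mem hb (H.inv_mem hy))) with h5 | h5
      · simpa using K.inv_mem h5
      · exfalso
        apply h4
        have := K.inv_mem h5
        simpa [mul_assoc] using this
  refine ⟨{ toFun := fun n => if (n : G) ∈ K then 1 else -1, map_one' := by simp, map_mul' := ?_ }, ?_⟩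
  · rintro ⟨n, hn⟩ ⟨m, hm⟩
    have h1 := mul_mem_iff_of_index_two hidx (a := (⟨n, hn⟩ : H)) (b := ⟨m, hm⟩)
    rw [mem_subgroupOf, mem_subgroupOf, mem_subgroupOf] at h1
    simp only [MulMemClass.mk_mul_mk] at h1 ⊢
    by_cases h2 : n ∈ K <;> by_cases h3 : m ∈ K <;> simp [h1, h2, h3]
  · intro n hn
    show (if n ∈ K then (1 : ℤˣ) else -1) = -1 ↔ _
    by_cases h2 : n ∈ K
    · simp only [h2, if_true, not_true_eq_false, iff_false]; decide
    · simp [h2]

/-- T-formula for an index `2` situation -/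
theorem even_of_swap [Finite G] (hG : ∀ (φ : G →* ℤˣ) (u : G), φ u = 1) {x : G} (hx : x * x = 1)
    (H K : Subgroup G) {y : G} (hy : y ∈ H) (hyK : y ∉ K) (h : ∀ n ∈ H, n ∈ K ∨ y⁻¹ * n ∈ K)
    {k : ℕ} (hk : {d : G | IsConj x d ∧ d ∈ H ∧ d ∉ K}.ncard * Nat.card (centralizer ({x} : Set G)) =
      k * Nat.card H) : Even k := by
  obtain ⟨lam, hlam⟩ := exists_sign H K hy hyK h
  apply TF.even_of_eq hG hx H lam (k := k)
  rw [← hk]
  congr 2
  ext d
  constructor
  · rintro ⟨h1, h2, h3⟩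
    exact ⟨h1, h2, (hlam d h2).1 h3⟩
  · rintro ⟨h1, h2, h3⟩
    exact ⟨h1, h2, (hlam d h2).2 h3⟩

/-- T-formula for an action on four points: `N` conjugates act as a given transposition -/
theorem even_of_four [Finite G] (hG : ∀ (φ : G →* ℤˣ) (u : G), φ u = 1) {x : G} (hx : x * x = 1)
    (H : Subgroup G) (psi : H →* Perm (Fin 4)) (hpsi : Function.Surjective psi) {N : ℕ}
    (hN : {d : G | IsConj x d ∧ ∃ h : d ∈ H, psi ⟨d, h⟩ = swap 2 3}.ncard = N)
    {k : ℕ} (hk : 6 * N * Nat.card (centralizer ({x} : Set G)) = k * Nat.card H) : Even k := by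
  classical
  apply TF.even_of_eq hG hx H (Perm.sign.comp psi) (k := k)
  rw [← hk]
  congr 1
  -- the fibre over a permutation
  let S : Perm (Fin 4) → Set G := fun p => {d : G | IsConj x d ∧ ∃ h : d ∈ H, psi ⟨d, h⟩ = p}
  have hS : ∀ p q : Perm (Fin 4), (S (q * p * q⁻¹)).ncard = (S p).ncard := by
    intro p q
    obtain ⟨⟨n, hn⟩, rfl⟩ := hpsi q
    have : S (psi ⟨n, hn⟩ * p * (psi ⟨n, hn⟩)⁻¹) = (fun g => n * g * n⁻¹) '' S p := by
      ext d
      constructor
      · rintro ⟨h1, h2, h3⟩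
        refine ⟨n⁻¹ * d * n, ⟨?_, H.mul_mem (H.mul_mem (H.inv_mem hn) h2) hn, ?_⟩, by group⟩
        · exact h1.trans (isConj_iff.2 ⟨n⁻¹, by group⟩)
        · have : (⟨n⁻¹ * d * n, H.mul_mem (H.mul_mem (H.inv_mem hn) h2) hn⟩ : H) =
            (⟨n, hn⟩ : H)⁻¹ * ⟨d, h2⟩ * ⟨n, hn⟩ := rfl
          rw [this, map_mul, map_mul, h3, map_inv]; group
      · rintro ⟨d, ⟨h1, h2, h3⟩, rfl⟩
        refine ⟨h1.trans (isConj_iff.2 ⟨n, rfl⟩), H.mul_mem (H.mul_mem hn h2) (H.inv_mem hn), ?_⟩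
        have : (⟨n * d * n⁻¹, H.mul_mem (H.mul_mem hn h2) (H.inv_mem hn)⟩ : H) =
            (⟨n, hn⟩ : H) * ⟨d, h2⟩ * (⟨n, hn⟩ : H)⁻¹ := rfl
        rw [this, map_mul, map_mul, h3, map_inv]
    rw [this, Set.ncard_image_of_injective]
    intro g g' hg
    exact mul_left_cancel (mul_right_cancel hg)
  have hd : ∀ (d : G) (h : d ∈ H), IsConj x d → (psi ⟨d, h⟩) * psi ⟨d, h⟩ = 1 := by
    intro d h h1
    rw [← map_mul]
    have : (⟨d, h⟩ : H) * ⟨d, h⟩ = 1 := by
      apply Subtype.ext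
      obtain ⟨c, hc⟩ := isConj_iff.1 h1
      show d * d = 1
      rw [← hc]
      calc c * x * c⁻¹ * (c * x * c⁻¹) = c * (x * x) * c⁻¹ := by group
        _ = 1 := by rw [hx]; group
    rw [this, map_one]
  have hodd : ∀ p : Perm (Fin 4), p * p = 1 → Perm.sign p = -1 →
      p ∈ ({swap 0 1, swap 0 2, swap 0 3, swap 1 2, swap 1 3, swap 2 3} : Finset (Perm (Fin 4))) := by
    decide +kernel
  have hodd' : ∀ p ∈ ({swap 0 1, swap 0 2, swap 0 3, swap 1 2, swap 1 3, swap 2 3} :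
      Finset (Perm (Fin 4))), Perm.sign p = -1 := by
    decide +kernel
  have hunion : TF.Neg x H (Perm.sign.comp psi) =
      ⋃ p ∈ ({swap 0 1, swap 0 2, swap 0 3, swap 1 2, swap 1 3, swap 2 3} :
        Finset (Perm (Fin 4))), S p := by
    ext d
    rw [Set.mem_iUnion₂]
    constructor
    · rintro ⟨h1, h2, h3⟩
      exact ⟨psi ⟨d, h2⟩, hodd _ (hd d h2 h1) h3, h1, h2, rfl⟩
    · rintro ⟨p, hp, h1, h2, h3⟩
      refine ⟨h1, h2, ?_⟩
      show Perm.sign (psi ⟨d, h2⟩) = -1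
      rw [h3]
      exact hodd' p hp
  have hconj : ∀ p ∈ ({swap 0 1, swap 0 2, swap 0 3, swap 1 2, swap 1 3, swap 2 3} :
      Finset (Perm (Fin 4))), ∃ q : Perm (Fin 4), q * swap 2 3 * q⁻¹ = p := by
    decide +kernel
  have hfin : ∀ p, (S p).Finite := fun p => Set.toFinite _
  rw [hunion]
  have hcardS : ∀ p ∈ ({swap 0 1, swap 0 2, swap 0 3, swap 1 2, swap 1 3, swap 2 3} :
      Finset (Perm (Fin 4))), (S p).ncard = N := by
    intro p hp
    obtain ⟨q, rfl⟩ := hconj p hp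
    rw [hS]; exact hN
  have h6 : ({swap 0 1, swap 0 2, swap 0 3, swap 1 2, swap 1 3, swap 2 3} :
      Finset (Perm (Fin 4))).card = 6 := by decide +kernel
  have hdis : ∀ p q : Perm (Fin 4), p ≠ q → Disjoint (S p) (S q) := by
    intro p q hpq
    rw [Set.disjoint_left]
    rintro d ⟨-, h2, h3⟩ ⟨-, h5, h6⟩
    exact hpq (h3.symm.trans h6)
  have key : ∀ F : Finset (Perm (Fin 4)), (∀ p ∈ F, (S p).ncard = N) →
      (⋃ p ∈ F, S p).ncard = F.card * N := by
    intro F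
    induction F using Finset.induction_on with
    | empty => intro _; simp
    | insert p F hp ih =>
      intro hF
      rw [Finset.set_biUnion_insert, Set.ncard_union_eq, ih (fun q hq => hF q (Finset.mem_insert_of_mem hq)),
        hF p (Finset.mem_insert_self _ _), Finset.card_insert_of_notMem hp]
      · ring
      · rw [Set.disjoint_iUnion₂_right]
        intro q hq
        exact hdis p q (fun h => hp (h ▸ hq))
  rw [key _ hcardS, h6]

end Cfsg.Agent.OddHalf.D6.SixU.Ends0
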