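import Cfsg.Agent.OddHalf.D6.Six.Parity
import Cfsg.Agent.OddHalf.D6.SixU.Ends0
import Cfsg.Agent.OddHalf.D6.SixU.EndTw
import Cfsg.Agent.OddHalf.D6.SixU.EndFin4

/-!
# Case (B), the end of pattern alpha (ODD D6, `q = 9`, helper751)

`H = N(x A₂) ∩ N(V) ∩ C(z)` of order `256` permutes the blocks `x V`, `x f V`; the conjugates of `x` in `H` which
exchange them are the `40` elements of `{y, Y, Y^ρ, Y^ρ²} A₂ ∪ {y, Y} a Z`, and `40 · 1440 = 225 · 256`.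
-/

set_option autoImplicit false

namespace Cfsg.Agent.OddHalf.D6.SixU.AlphaEnd

open Subgroup Equiv
open Cfsg.Agent.OddHalf.D6.Six EndPerm EndFin EndTw Ends0

/-- the data of pattern alpha -/
structure AlphaIn {G : Type*} [Group G] (x : G) (φ : Perm (Fin 6) →* G) (y Y : G) : Prop
    extends Uni x φ where
  yy : y * y = 1
  yx : y * x * y⁻¹ = x * φ pf
  yu : ∀ u ∈ PU, y * φ u = φ u * y
  Yx : Y * x * Y⁻¹ = x * φ (pf * pz)
  Yu : ∀ u ∈ PU, Y * φ u = φ u * Y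
  t1 : ∀ u ∈ PU, IsConj x (y * φ u) ↔ (u ∈ P2 ∨ ∃ t ∈ PZ, u = pa * t)
  t2 : ∀ u ∈ PU, ¬ IsConj x (y * (x * φ u))
  t3 : ∀ u ∈ PU, IsConj x (Y * φ u) ↔ (u ∈ P2 ∨ ∃ t ∈ PZ, u = pa * t)
  t4 : ∀ u ∈ PU, ¬ IsConj x (Y * (x * φ u))

theorem mem_set_norm {G : Type*} [Group G] [Finite G] {S : Set G} {n : G} (h : ∀ s ∈ S, n * s * n⁻¹ ∈ S) :
    n ∈ normalizer S := by
  have h1 : (fun s => n * s * n⁻¹) '' S = S := by
    apply Set.eq_of_subset_of_ncard_le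
    · rintro _ ⟨s, hs, rfl⟩
      exact h s hs
    · rw [Set.ncard_image_of_injective]
      intro a b hab
      exact mul_left_cancel (mul_right_cancel hab)
    · exact Set.toFinite _
  rw [mem_set_normalizer_iff]
  intro k
  constructor
  · exact h k
  · intro hk
    rw [← h1] at hk
    obtain ⟨s, hs, h2⟩ := hk
    have h3 : s = k := mul_left_cancel (mul_right_cancel h2)
    rwa [← h3]

variable {G : Type*} [Group G] {x : G} {φ : Perm (Fin 6) →* G} {y Y : G}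

/-- `x A₂` -/
def XA (x : G) (φ : Perm (Fin 6) →* G) : Set G := {g | ∃ u ∈ P2, g = x * φ u}

/-- `V` -/
def VV (φ : Perm (Fin 6) →* G) : Set G := {g | ∃ u ∈ PV, g = φ u}

/-- `x V` -/
def XV (x : G) (φ : Perm (Fin 6) →* G) : Set G := {g | ∃ u ∈ PV, g = x * φ u}

/-- `H` -/
def HA (x : G) (φ : Perm (Fin 6) →* G) : Subgroup G :=
  normalizer (XA x φ) ⊓ (normalizer (VV φ) ⊓ centralizer {φ pz})

theorem HA_x {n : G} (hn : n ∈ HA x φ) : ∃ u ∈ P2, n * x * n⁻¹ = x * φ u :=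
  (mem_set_normalizer_iff.1 hn.1 x).1 ⟨1, P2_one, by rw [map_one, mul_one]⟩

theorem HA_V {n : G} (hn : n ∈ HA x φ) {u : Perm (Fin 6)} (hu : u ∈ PV) : ∃ w ∈ PV, n * φ u * n⁻¹ = φ w :=
  (mem_set_normalizer_iff.1 hn.2.1 _).1 ⟨u, hu, rfl⟩

theorem HA_z {n : G} (hn : n ∈ HA x φ) : n * φ pz = φ pz * n := mem_centralizer_singleton_iff.1 hn.2.2

theorem HA_A {n : G} (hn : n ∈ HA x φ) {u : Perm (Fin 6)} (hu : u ∈ P2) : ∃ w ∈ P2, n * φ u * n⁻¹ = φ w := by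
  obtain ⟨t, ht, h1⟩ := HA_x hn
  obtain ⟨w, hw, h2⟩ := (mem_set_normalizer_iff.1 hn.1 (x * φ u)).1 ⟨u, hu, rfl⟩
  refine ⟨t * w, P2_mul t ht w hw, ?_⟩
  have h3 : (x * φ t)⁻¹ * (x * φ w) = φ (t * w) := by
    have h4 : (φ t)⁻¹ = φ t := inv_eq_of_mul_eq_one_left (by rw [← map_mul, P2_sq t ht, map_one])
    rw [mul_inv_rev, h4, map_mul]; group
  rw [← h3, ← h1, ← h2]; group

namespace AlphaIn

theorem conj_x_phi (B : AlphaIn x φ y Y) {u : Perm (Fin 6)} (h : u * u = 1) : IsConj x (x * φ u) := by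
  by_cases h1 : u = 1
  · rw [h1, map_one, mul_one]
  · obtain ⟨g, hg⟩ := B.uni u h h1
    exact isConj_iff.2 ⟨g, hg⟩

theorem mem_of_act [Finite G] (B : AlphaIn x φ y Y) {n : G} (hn : ∀ u ∈ P2, n * φ u = φ u * n)
    {u : Perm (Fin 6)} (hu : u ∈ P2) (h : n * x * n⁻¹ = x * φ u) : n ∈ HA x φ := by
  refine ⟨?_, ?_, ?_⟩
  · apply mem_set_norm
    rintro _ ⟨w, hw, rfl⟩
    refine ⟨u * w, P2_mul u hu w hw, ?_⟩
    calc n * (x * φ w) * n⁻¹ = n * x * n⁻¹ * (n * φ w) * n⁻¹ := by group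
      _ = x * φ (u * w) := by rw [h, hn w hw, map_mul]; group
  · apply mem_set_norm
    rintro _ ⟨w, hw, rfl⟩
    exact ⟨w, hw, by rw [hn w (PV_P2 w hw)]; group⟩
  · show n ∈ centralizer ({φ pz} : Set G)
    rw [mem_centralizer_singleton_iff]
    exact hn pz (by decide +kernel)

theorem phi_mem [Finite G] (B : AlphaIn x φ y Y) {p : Perm (Fin 6)} (hp : p ∈ PU) : φ p ∈ HA x φ := by
  refine ⟨?_, ?_, ?_⟩
  · apply mem_set_norm
    rintro _ ⟨w, hw, rfl⟩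
    exact ⟨_, PU_P2 p hp w hw, by
      rw [map_mul, map_mul, map_inv, ← mul_assoc, ← mul_assoc, ← mul_assoc, B.comm]⟩
  · apply mem_set_norm
    rintro _ ⟨w, hw, rfl⟩
    exact ⟨_, PU_PV p hp w hw, by rw [map_mul, map_mul, map_inv]⟩
  · show φ p ∈ centralizer ({φ pz} : Set G)
    rw [mem_centralizer_singleton_iff, ← map_mul, ← map_mul, PU_z p hp]

theorem x_mem [Finite G] (B : AlphaIn x φ y Y) : x ∈ HA x φ :=
  B.mem_of_act (fun u _ => B.comm u) P2_one (by rw [map_one]; group)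

/-- `v_j`: `y, Y, Y^ρ, Y^ρ⁻¹` -/
def wv (φ : Perm (Fin 6) →* G) (y Y : G) : Fin 4 → G :=
  ![y, Y, φ pr * Y * (φ pr)⁻¹, (φ pr)⁻¹ * Y * φ pr]

def cv : Fin 4 → Perm (Fin 6) := ![pf, pf * pz, pf * pz * pe, pf * pe]

theorem cv_inj : Function.Injective cv := by decide +kernel
theorem cv_mem : ∀ j, cv j ∈ P2 := by decide +kernel
theorem cv_not : ∀ j, cv j ∉ PV := by decide +kernel

theorem wv_comm (B : AlphaIn x φ y Y) (j : Fin 4) : ∀ u ∈ P2, wv φ y Y j * φ u = φ u * wv φ y Y j := by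
  intro u hu
  have h1 : ∀ s : Perm (Fin 6), s⁻¹ * u * s ∈ P2 → (φ s * Y * (φ s)⁻¹) * φ u = φ u * (φ s * Y * (φ s)⁻¹) := by
    intro s hs
    have h2 := B.Yu _ (P2_PU _ hs)
    rw [map_mul, map_mul, map_inv] at h2
    calc φ s * Y * (φ s)⁻¹ * φ u = φ s * (Y * ((φ s)⁻¹ * φ u * φ s)) * (φ s)⁻¹ := by group
      _ = φ u * (φ s * Y * (φ s)⁻¹) := by rw [h2]; group
  fin_cases j
  · exact B.yu u (P2_PU u hu)
  · exact B.Yu u (P2_PU u hu)
  · exact h1 pr (P2_r' u hu)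
  · have := h1 pr⁻¹ (by rw [inv_inv]; exact P2_r u hu)
    rwa [map_inv, inv_inv] at this

theorem wv_act (B : AlphaIn x φ y Y) (j : Fin 4) : wv φ y Y j * x * (wv φ y Y j)⁻¹ = x * φ (cv j) := by
  have h1 : ∀ s : Perm (Fin 6), (φ s * Y * (φ s)⁻¹) * x * (φ s * Y * (φ s)⁻¹)⁻¹ = x * φ (s * (pf * pz) * s⁻¹) := by
    intro s
    have hx : (φ s)⁻¹ * x = x * (φ s)⁻¹ := by rw [← map_inv, B.comm]
    rw [map_mul, map_mul, map_inv]
    calc φ s * Y * (φ s)⁻¹ * x * (φ s * Y * (φ s)⁻¹)⁻¹ = φ s * Y * ((φ s)⁻¹ * x) * φ s * Y⁻¹ * (φ s)⁻¹ := by group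
      _ = φ s * (Y * x * Y⁻¹) * (φ s)⁻¹ := by rw [hx]; group
      _ = (φ s * x) * φ (pf * pz) * (φ s)⁻¹ := by rw [B.Yx]; group
      _ = x * (φ s * φ (pf * pz) * (φ s)⁻¹) := by rw [← B.comm]; group
  fin_cases j
  · exact B.yx
  · exact B.Yx
  · have := h1 pr
    rwa [r_fz] at this
  · have := h1 pr⁻¹
    rwa [inv_inv, r_fz', map_inv, inv_inv] at this

theorem wv_mem [Finite G] (B : AlphaIn x φ y Y) (j : Fin 4) : wv φ y Y j ∈ HA x φ :=
  B.mem_of_act (B.wv_comm j) (cv_mem j) (B.wv_act j)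

/-- the elements of `H ∩ C(x)` -/
theorem stab_mem (B : AlphaIn x φ y Y) {n : G} (hn : n ∈ HA x φ) (hx : n * x = x * n) :
    ∃ p ∈ PU, n = φ p ∨ n = x * φ p := by
  obtain ⟨p, hp⟩ := B.cx n hx
  have hconj : ∀ u : Perm (Fin 6), n * φ u * n⁻¹ = φ (p * u * p⁻¹) := by
    intro u
    rw [map_mul, map_mul, map_inv]
    rcases hp with rfl | rfl
    · rfl
    · have h2 : x * (φ p * φ u * (φ p)⁻¹) = (φ p * φ u * (φ p)⁻¹) * x := by
        rw [← map_inv, ← map_mul, ← map_mul, B.comm]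
      calc x * φ p * φ u * (x * φ p)⁻¹ = x * (φ p * φ u * (φ p)⁻¹) * x⁻¹ := by group
        _ = φ p * φ u * (φ p)⁻¹ := by rw [h2]; group
  have key : ∀ u ∈ P2, p * u * p⁻¹ ∈ P2 := by
    intro u hu
    obtain ⟨w, hw, h⟩ := HA_A hn hu
    rw [hconj] at h
    rw [B.inj h]; exact hw
  refine ⟨p, norm_P2 p (key pf (by decide +kernel)) (key pz (by decide +kernel)) (key pe (by decide +kernel)) ?_, hp⟩
  have h1 := hconj pz
  rw [HA_z hn, mul_inv_cancel_right] at h1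
  rw [← B.inj h1]; decide +kernel

theorem HA_stab [Finite G] (B : AlphaIn x φ y Y) :
    HA x φ ⊓ centralizer {x} = Tw φ x B.xx (fun u _ => B.comm u) := by
  ext n
  constructor
  · rintro ⟨hn, hx⟩
    obtain ⟨p, hp, h⟩ := B.stab_mem hn (mem_centralizer_singleton_iff.1 hx)
    exact ⟨p, hp, h⟩
  · rintro ⟨p, hp, rfl | rfl⟩
    · exact ⟨B.phi_mem hp, mem_centralizer_singleton_iff.2 (B.comm p).symm⟩
    · refine ⟨(HA x φ).mul_mem B.x_mem (B.phi_mem hp), mem_centralizer_singleton_iff.2 ?_⟩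
      rw [mul_assoc, ← B.comm]

/-- all translations are induced -/
theorem exists_rep [Finite G] (B : AlphaIn x φ y Y) {u : Perm (Fin 6)} (hu : u ∈ P2) :
    ∃ h ∈ HA x φ, h * x * h⁻¹ = x * φ u := by
  have h1 : ∀ j, ∃ h ∈ HA x φ, h * x * h⁻¹ = x * φ (cv j) := fun j => ⟨_, B.wv_mem j, B.wv_act j⟩
  by_cases hV : u ∈ PV
  · -- `y` times an element moving `x` to `x f u`
    have h2 : pf * u ∈ P2 := P2_mul pf (by decide +kernel) u hu
    have h3 : pf * u ∉ PV := P2_fV' u hV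
    have h4 : ∃ j, pf * u = cv j := by
      rcases P2_out _ h2 h3 with h | h | h | h
      · exact ⟨0, h⟩
      · exact ⟨1, h⟩
      · exact ⟨2, h⟩
      · exact ⟨3, h⟩
    obtain ⟨j, hj⟩ := h4
    refine ⟨y * wv φ y Y j, (HA x φ).mul_mem (B.wv_mem 0) (B.wv_mem j), ?_⟩
    calc y * wv φ y Y j * x * (y * wv φ y Y j)⁻¹ = y * (wv φ y Y j * x * (wv φ y Y j)⁻¹) * y⁻¹ := by group
      _ = y * x * (φ (cv j) * y⁻¹) := by rw [B.wv_act j]; group
      _ = (y * x * y⁻¹) * (y * φ (cv j)) * y⁻¹ := by group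
      _ = x * φ (pf * cv j) := by rw [B.yx, B.yu _ (P2_PU _ (cv_mem j)), map_mul]; group
      _ = x * φ u := by rw [← hj, ← mul_assoc, ff, one_mul]
  · rcases P2_out u hu hV with h | h | h | h
    · rw [h]; exact h1 0
    · rw [h]; exact h1 1
    · rw [h]; exact h1 2
    · rw [h]; exact h1 3

theorem ncard_XA (B : AlphaIn x φ y Y) : (XA x φ).ncard = 8 := by
  classical
  let f : P2 → G := fun p => x * φ p
  have hf : Function.Injective f := by
    rintro ⟨u, hu⟩ ⟨w, hw⟩ h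
    have := B.inj (mul_left_cancel h)
    subst this; rfl
  have h1 : XA x φ = Set.range f := by
    ext d
    constructor
    · rintro ⟨u, hu, rfl⟩
      exact ⟨⟨u, hu⟩, rfl⟩
    · rintro ⟨⟨u, hu⟩, rfl⟩
      exact ⟨u, hu, rfl⟩
  rw [h1, ← Nat.card_coe_set_eq, ← Nat.card_congr (Equiv.ofInjective f hf), Nat.card_eq_fintype_card]
  simp [P2_card]

theorem card_HA [Finite G] (B : AlphaIn x φ y Y) : Nat.card (HA x φ) = 256 := by
  rw [Parity.card_orbit x (HA x φ), B.HA_stab, card_Tw B.inj (fun u _ => B.nx u)]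
  have : {d : G | ∃ h ∈ HA x φ, h * x * h⁻¹ = d} = XA x φ := by
    ext d
    constructor
    · rintro ⟨h, hh, rfl⟩
      exact HA_x hh
    · rintro ⟨u, hu, rfl⟩
      exact B.exists_rep hu
  rw [this, B.ncard_XA]

/-- elements of `H` which move `x` into `x V` normalise `x V` -/
theorem mem_K [Finite G] (B : AlphaIn x φ y Y) {n : G} (hn : n ∈ HA x φ) {u : Perm (Fin 6)} (hu : u ∈ PV)
    (h : n * x * n⁻¹ = x * φ u) : n ∈ normalizer (XV x φ) := by
  apply mem_set_norm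
  rintro _ ⟨w, hw, rfl⟩
  obtain ⟨t, ht, h1⟩ := HA_V hn hw
  refine ⟨u * t, PV_mul u hu t ht, ?_⟩
  calc n * (x * φ w) * n⁻¹ = n * x * n⁻¹ * (n * φ w * n⁻¹) := by group
    _ = x * φ (u * t) := by rw [h, h1, map_mul]; group

theorem act_of_K (B : AlphaIn x φ y Y) {n : G} (hn : n ∈ normalizer (XV x φ)) :
    ∃ u ∈ PV, n * x * n⁻¹ = x * φ u :=
  (mem_set_normalizer_iff.1 hn x).1 ⟨1, PV_one, by rw [map_one, mul_one]⟩

theorem not_mem_K (B : AlphaIn x φ y Y) {n : G} {u : Perm (Fin 6)} (hu : u ∉ PV)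
    (h : n * x * n⁻¹ = x * φ u) : n ∉ normalizer (XV x φ) := by
  intro hn
  obtain ⟨w, hw, h1⟩ := B.act_of_K hn
  rw [h] at h1
  exact hu (B.inj (mul_left_cancel h1) ▸ hw)

/-- the index of the parameter -/
abbrev Idx : Type := (Fin 4 × P2) ⊕ (Fin 2 × PZ)

/-- the conjugates of `x` exchanging the blocks -/
def fd (φ : Perm (Fin 6) →* G) (y Y : G) : Idx → G
  | Sum.inl p => wv φ y Y p.1 * φ p.2
  | Sum.inr p => wv φ y Y (if p.1 = 0 then 0 else 1) * φ (pa * p.2)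

theorem wv_phi_act (B : AlphaIn x φ y Y) (j : Fin 4) (u : Perm (Fin 6)) :
    (wv φ y Y j * φ u) * x * (wv φ y Y j * φ u)⁻¹ = x * φ (cv j) := by
  rw [← B.wv_act j]
  calc wv φ y Y j * φ u * x * (wv φ y Y j * φ u)⁻¹ = wv φ y Y j * (φ u * x) * (φ u)⁻¹ * (wv φ y Y j)⁻¹ := by group
    _ = wv φ y Y j * x * (wv φ y Y j)⁻¹ := by rw [← B.comm]; group

theorem wv_phi_inj (B : AlphaIn x φ y Y) {i j : Fin 4} {u w : Perm (Fin 6)}
    (h : wv φ y Y i * φ u = wv φ y Y j * φ w) : i = j ∧ u = w := by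
  have h1 := B.wv_phi_act i u
  rw [h, B.wv_phi_act j] at h1
  have hij := cv_inj (B.inj (mul_left_cancel h1))
  subst hij
  exact ⟨rfl, B.inj (mul_left_cancel h)⟩

theorem fin2_aux : ∀ i j : Fin 2, (if i = 0 then (0 : Fin 4) else 1) = (if j = 0 then 0 else 1) → i = j := by
  decide

theorem fd_inj (B : AlphaIn x φ y Y) : Function.Injective (fd φ y Y) := by
  rintro (⟨i, u, hu⟩ | ⟨i, u, hu⟩) (⟨j, w, hw⟩ | ⟨j, w, hw⟩) h
  · obtain ⟨h1, h2⟩ := B.wv_phi_inj h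
    subst h1; subst h2; rfl
  · obtain ⟨h1, h2⟩ := B.wv_phi_inj h
    exact absurd (h2 ▸ hu) (PZ_a_P2 w hw)
  · obtain ⟨h1, h2⟩ := B.wv_phi_inj h
    exact absurd (h2 ▸ hw) (PZ_a_P2 u hu)
  · obtain ⟨h1, h2⟩ := B.wv_phi_inj h
    have h3 := mul_left_cancel h2
    subst h3
    have h4 : i = j := fin2_aux i j h1
    subst h4; rfl

theorem dset_eq [Finite G] (B : AlphaIn x φ y Y) :
    {d : G | IsConj x d ∧ d ∈ HA x φ ∧ d ∉ normalizer (XV x φ)} = Set.range (fd φ y Y) := by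
  -- conjugates of the table by `r`
  have tab : ∀ (s : Perm (Fin 6)) (u : Perm (Fin 6)), s⁻¹ * u * s ∈ P2 →
      IsConj x (φ s * Y * (φ s)⁻¹ * φ u) ∧ ¬ IsConj x (φ s * Y * (φ s)⁻¹ * (x * φ u)) := by
    intro s u hu
    constructor
    · have h1 := (B.t3 _ (P2_PU _ hu)).2 (Or.inl hu)
      refine h1.trans (isConj_iff.2 ⟨φ s, ?_⟩)
      rw [map_mul, map_mul, map_inv]; group
    · intro h
      apply B.t4 _ (P2_PU _ hu)
      refine h.trans (isConj_iff.2 ⟨(φ s)⁻¹, ?_⟩)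
      have hx : (φ s)⁻¹ * x = x * (φ s)⁻¹ := by rw [← map_inv, B.comm]
      rw [map_mul, map_mul, map_inv]
      calc (φ s)⁻¹ * (φ s * Y * (φ s)⁻¹ * (x * φ u)) * ((φ s)⁻¹)⁻¹ = Y * ((φ s)⁻¹ * x) * φ u * φ s := by group
        _ = Y * (x * ((φ s)⁻¹ * φ u * φ s)) := by rw [hx]; group
  ext d
  constructor
  · rintro ⟨hc, hd, hK⟩
    obtain ⟨u, hu, hux⟩ := HA_x hd
    have huV : u ∉ PV := fun h => hK (B.mem_K hd h hux)
    have hdd : d * d = 1 := by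
      obtain ⟨c, hc⟩ := isConj_iff.1 hc
      rw [← hc]
      calc c * x * c⁻¹ * (c * x * c⁻¹) = c * (x * x) * c⁻¹ := by group
        _ = 1 := by rw [B.xx]; group
    -- `d` commutes with `φ u`
    have hdu : d * φ u = φ u * d := by
      have h5 : d * (d * x * d⁻¹) * d⁻¹ = x := by
        calc d * (d * x * d⁻¹) * d⁻¹ = (d * d) * x * (d * d)⁻¹ := by group
          _ = x := by rw [hdd]; group
      rw [hux] at h5
      have h6 : (x * φ u) * (d * φ u * d⁻¹) = x := by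
        calc (x * φ u) * (d * φ u * d⁻¹) = (d * x * d⁻¹) * (d * φ u * d⁻¹) := by rw [hux]
          _ = d * (x * φ u) * d⁻¹ := by group
          _ = x := h5
      have h7 : φ u * (d * φ u * d⁻¹) = 1 := mul_eq_left.1 (by rw [← mul_assoc]; exact h6)
      have h8 : φ u * φ u = 1 := by rw [← map_mul, P2_sq u hu, map_one]
      have h9 : d * φ u * d⁻¹ = φ u := by
        calc d * φ u * d⁻¹ = (φ u * φ u) * (d * φ u * d⁻¹) := by rw [h8, one_mul]
          _ = φ u * (φ u * (d * φ u * d⁻¹)) := by group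
          _ = φ u := by rw [h7, mul_one]
      rwa [mul_inv_eq_iff_eq_mul] at h9
    have fin : ∀ j, u = cv j → ∃ p ∈ PU, d = wv φ y Y j * φ p ∨ d = wv φ y Y j * (x * φ p) := by
      intro j hj
      have h1 : (wv φ y Y j)⁻¹ * d * x = x * ((wv φ y Y j)⁻¹ * d) := by
        have h2 : d * x * d⁻¹ = wv φ y Y j * x * (wv φ y Y j)⁻¹ := by rw [hux, B.wv_act, hj]
        calc (wv φ y Y j)⁻¹ * d * x = (wv φ y Y j)⁻¹ * (d * x * d⁻¹) * d := by group
          _ = x * ((wv φ y Y j)⁻¹ * d) := by rw [h2]; group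
      obtain ⟨p, hp, h3 | h3⟩ := B.stab_mem ((HA x φ).mul_mem ((HA x φ).inv_mem (B.wv_mem j)) hd) h1
      · exact ⟨p, hp, Or.inl (by rw [← h3]; group)⟩
      · exact ⟨p, hp, Or.inr (by rw [← h3]; group)⟩
    have comm : ∀ j p, (d = wv φ y Y j * φ p ∨ d = wv φ y Y j * (x * φ p)) → p * u = u * p := by
      intro j p h
      have h0 := B.wv_comm j u hu
      apply B.inj
      rw [map_mul, map_mul]
      rcases h with h | h
      · have h1 : wv φ y Y j * (φ p * φ u) = wv φ y Y j * (φ u * φ p) := by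
          calc wv φ y Y j * (φ p * φ u) = d * φ u := by rw [h]; group
            _ = φ u * d := hdu
            _ = (φ u * wv φ y Y j) * φ p := by rw [h]; group
            _ = wv φ y Y j * (φ u * φ p) := by rw [← h0]; group
        exact mul_left_cancel h1
      · have h1 : wv φ y Y j * (x * (φ p * φ u)) = wv φ y Y j * (x * (φ u * φ p)) := by
          calc wv φ y Y j * (x * (φ p * φ u)) = d * φ u := by rw [h]; group
            _ = φ u * d := hdu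
            _ = (φ u * wv φ y Y j) * x * φ p := by rw [h]; group
            _ = wv φ y Y j * (φ u * x) * φ p := by rw [← h0]; group
            _ = wv φ y Y j * (x * (φ u * φ p)) := by rw [← B.comm]; group
        exact mul_left_cancel (mul_left_cancel h1)
    rcases P2_out u hu huV with h | h | h | h
    · obtain ⟨p, hp, h1 | h1⟩ := fin 0 h
      · rcases (B.t1 p hp).1 (h1 ▸ hc) with h2 | ⟨t, ht, rfl⟩
        · exact ⟨Sum.inl (0, ⟨p, h2⟩), h1.symm⟩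
        · exact ⟨Sum.inr (0, ⟨t, ht⟩), h1.symm⟩
      · exact absurd (h1 ▸ hc) (B.t2 p hp)
    · obtain ⟨p, hp, h1 | h1⟩ := fin 1 h
      · rcases (B.t3 p hp).1 (h1 ▸ hc) with h2 | ⟨t, ht, rfl⟩
        · exact ⟨Sum.inl (1, ⟨p, h2⟩), h1.symm⟩
        · exact ⟨Sum.inr (1, ⟨t, ht⟩), h1.symm⟩
      · exact absurd (h1 ▸ hc) (B.t4 p hp)
    · obtain ⟨p, hp, h1⟩ := fin 2 h
      have h2 : p ∈ P2 := comm_fze p hp (h ▸ comm 2 p h1)
      rcases h1 with h1 | h1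
      · exact ⟨Sum.inl (2, ⟨p, h2⟩), h1.symm⟩
      · exact absurd (h1 ▸ hc) (tab pr p (P2_r' p h2)).2
    · obtain ⟨p, hp, h1⟩ := fin 3 h
      have h2 : p ∈ P2 := comm_fe p hp (h ▸ comm 3 p h1)
      rcases h1 with h1 | h1
      · exact ⟨Sum.inl (3, ⟨p, h2⟩), h1.symm⟩
      · have h3 := (tab pr⁻¹ p (by rw [inv_inv]; exact P2_r p h2)).2
        rw [map_inv, inv_inv] at h3
        exact absurd (h1 ▸ hc) h3
  · rintro ⟨(⟨j, u, hu⟩ | ⟨j, u, hu⟩), rfl⟩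
    · refine ⟨?_, (HA x φ).mul_mem (B.wv_mem j) (B.phi_mem (P2_PU u hu)),
        B.not_mem_K (cv_not j) (B.wv_phi_act j u)⟩
      show IsConj x (wv φ y Y j * φ u)
      fin_cases j
      · exact (B.t1 u (P2_PU u hu)).2 (Or.inl hu)
      · exact (B.t3 u (P2_PU u hu)).2 (Or.inl hu)
      · exact (tab pr u (P2_r' u hu)).1
      · have h3 := (tab pr⁻¹ u (by rw [inv_inv]; exact P2_r u hu)).1
        rw [map_inv, inv_inv] at h3
        exact h3
    · refine ⟨?_, (HA x φ).mul_mem (B.wv_mem _) (B.phi_mem (PZ_a_PU u hu)),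
        B.not_mem_K (cv_not _) (B.wv_phi_act _ _)⟩
      fin_cases j
      · exact (B.t1 _ (PZ_a_PU u hu)).2 (Or.inr ⟨u, hu, rfl⟩)
      · exact (B.t3 _ (PZ_a_PU u hu)).2 (Or.inr ⟨u, hu, rfl⟩)

/-- **pattern alpha is impossible** -/
theorem false [Finite G] (hG : ∀ (m : G →* ℤˣ) (g : G), m g = 1) (B : AlphaIn x φ y Y) : False := by
  have hcard : {d : G | IsConj x d ∧ d ∈ HA x φ ∧ d ∉ normalizer (XV x φ)}.ncard = 40 := by
    rw [B.dset_eq, ← Nat.card_coe_set_eq, ← Nat.card_congr (Equiv.ofInjective _ B.fd_inj),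
      Nat.card_eq_fintype_card]
    simp [P2_card, PZ_card]
  have h := even_of_swap hG B.xx (HA x φ) (normalizer (XV x φ)) (y := y) (B.wv_mem 0)
    (B.not_mem_K (cv_not 0) B.yx) (by
      intro n hn
      obtain ⟨u, hu, hux⟩ := HA_x hn
      by_cases hV : u ∈ PV
      · exact Or.inl (B.mem_K hn hV hux)
      · right
        have hy : y⁻¹ = y := inv_eq_of_mul_eq_one_left B.yy
        refine B.mem_K ((HA x φ).mul_mem ((HA x φ).inv_mem (B.wv_mem 0)) hn) (P2_fV u hu hV) ?_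
        show (y⁻¹ * n) * x * (y⁻¹ * n)⁻¹ = _
        calc (y⁻¹ * n) * x * (y⁻¹ * n)⁻¹ = y⁻¹ * (n * x * n⁻¹) * y := by group
          _ = y * (x * φ u) * y⁻¹ := by rw [hux, hy]
          _ = (y * x * y⁻¹) * (y * φ u) * y⁻¹ := by group
          _ = x * φ (pf * u) := by rw [B.yx, B.yu u (P2_PU u hu), map_mul]; group)
    (k := 225) (by rw [hcard, B.card, B.card_HA])
  revert h; decide

end AlphaIn

end Cfsg.Agent.OddHalf.D6.SixU.AlphaEnd
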