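import Cfsg.Agent.OddHalf.D6.SixU.TLevel

/-!
# ODD D6, `q = 9`, case C3a (B): the elements `y`, `Y` and the table of `D = x^G` on `T₁ = ⟨x, y, Y, φ(U)⟩`
(helper680)
-/

set_option autoImplicit false

namespace Cfsg.Agent.OddHalf.D6.SixU

open Subgroup Equiv

variable {G : Type*} [Group G]

/-- the elements `y`, `Y` of case 3a, and the parameters `[pa, y] = f^c`, `[pe, Y] = h^d`, `[y, Y] = f^r z^s` -/
structure SixY (x : G) (φ : P6 →* G) (y Y : G) (c d r s : ZMod 2) : Prop extends SixB x φ where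
  yy : y * y = 1
  YY : Y * Y = 1
  yx : y * x * y⁻¹ = x * φ pf
  Yx : Y * x * Y⁻¹ = x * φ ph
  yf : y * φ pf = φ pf * y
  yz : y * φ pz = φ pz * y
  ye : y * φ pe = φ pe * y
  yr : y * φ pr = φ pr * y
  ya : y * φ pa * y⁻¹ = φ (pa * pw pf c)
  Yf : Y * φ pf = φ pf * Y
  Yz : Y * φ pz = φ pz * Y
  Ya : Y * φ pa = φ pa * Y
  Ys : Y * φ ps = φ ps * Y
  Ye : Y * φ pe * Y⁻¹ = φ (pe * pw ph d)
  yY : y * Y = Y * y * φ (zz r s)

/-- codes for the elements of `T₁/Z`: exponents of `x, y, Y, pa, pe` -/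
abbrev Code := ZMod 2 × ZMod 2 × ZMod 2 × ZMod 2 × ZMod 2

/-- the elements of `T₁` -/
def elt (x : G) (φ : P6 →* G) (y Y : G) (v : Code) (f z : ZMod 2) : G :=
  pw x v.1 * pw y v.2.1 * pw Y v.2.2.1 * φ (pu v.2.2.2.1 v.2.2.2.2 f z)

/-- `D ∩ T₁` is the full preimage of the list `L` -/
def Table (x : G) (φ : P6 →* G) (y Y : G) (L : List Code) : Prop :=
  ∀ v f z, IsConj x (elt x φ y Y v f z) ↔ v ∈ L

/-- `x, x+a, x+e, y, y+a, y+e, Y, Y+a, Y+e, x+y+Y, x+y+Y+a, x+y+Y+e` -/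
def listA : List Code :=
  [(1, 0, 0, 0, 0), (1, 0, 0, 1, 0), (1, 0, 0, 0, 1),
   (0, 1, 0, 0, 0), (0, 1, 0, 1, 0), (0, 1, 0, 0, 1),
   (0, 0, 1, 0, 0), (0, 0, 1, 1, 0), (0, 0, 1, 0, 1),
   (1, 1, 1, 0, 0), (1, 1, 1, 1, 0), (1, 1, 1, 0, 1)]

/-- `x, x+a, x+e, y, y+a, y+e, x+Y+e, y+Y+e` -/
def listB : List Code :=
  [(1, 0, 0, 0, 0), (1, 0, 0, 1, 0), (1, 0, 0, 0, 1),
   (0, 1, 0, 0, 0), (0, 1, 0, 1, 0), (0, 1, 0, 0, 1),
   (1, 0, 1, 0, 1), (0, 1, 1, 0, 1)]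

/-- `x, x+a, x+e, x+y+a, x+Y+e, x+y+Y` -/
def listC : List Code :=
  [(1, 0, 0, 0, 0), (1, 0, 0, 1, 0), (1, 0, 0, 0, 1),
   (1, 1, 0, 1, 0), (1, 0, 1, 0, 1), (1, 1, 1, 0, 0)]

/-- the survivor alpha -/
structure Alpha (x : G) (φ : P6 →* G) (y Y : G) : Prop extends SixY x φ y Y 0 0 0 1 where
  tab : Table x φ y Y listA

/-- the survivor beta -/
structure Beta (x : G) (φ : P6 →* G) (y Y : G) : Prop extends SixY x φ y Y 0 1 1 1 where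
  tab : Table x φ y Y listB

/-- the survivor gamma -/
structure Gamma (x : G) (φ : P6 →* G) (y Y : G) : Prop extends SixY x φ y Y 1 1 0 1 where
  tab : Table x φ y Y listC

end Cfsg.Agent.OddHalf.D6.SixU
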