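import Cfsg.Agent.OddHalf.D6.SixU.BetaEnd4
import Cfsg.Agent.OddHalf.D6.SixU.YDefs

/-!
# Case (B), pattern beta: `Beta.false` (ODD D6, `q = 9`, helper751)
-/

set_option autoImplicit false

namespace Cfsg.Agent.OddHalf.D6.SixU

open Subgroup Equiv

section perms
set_option Elab.async false

theorem epa : EndPerm.pa = pa := rfl
theorem epz : EndPerm.pz = pz := rfl
theorem epf : EndPerm.pf = pf := rfl
theorem epe : EndPerm.pe = pe := rfl
theorem epr : EndPerm.pr = pr := rfl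
theorem eph : EndPerm.pf * EndPerm.pz = ph := by decide +kernel
theorem eps : EndPerm.ps = ps := by decide +kernel

theorem P1_pu : ∀ u ∈ EndPerm.P1, ∃ a f z : ZMod 2, u = pu a 0 f z ∧ u * EndPerm.pe = pu a 1 f z ∧
    (u ∈ EndFin.PZ ↔ a = 0) := by decide +kernel

theorem PU_pu : ∀ u ∈ EndPerm.PU, ∃ a e f z : ZMod 2, u = pu a e f z := by decide +kernel

theorem zz_pu : ∀ i j a e f z : ZMod 2, zz i j * pu a e f z = pu a e (i + f) (j + z) := by decide +kernel

theorem pf_zz : pf = zz 1 0 := by decide +kernel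
theorem pz_zz : pz = zz 0 1 := by decide +kernel
theorem ph_zz : ph = zz 1 1 := by decide +kernel
theorem zz_10_11 : zz 1 0 * zz 1 1 = zz 0 1 := by decide +kernel
end perms

variable {G : Type*} [Group G] {x : G} {φ : P6 →* G} {y Y : G} {c d r s : ZMod 2}

/-- `SixB` gives `Uni` -/
theorem SixB.toUniB (H : SixB x φ) : Six.Uni x φ where
  xx := H.xx
  inj := H.inj
  comm := H.comm
  nx := H.ne
  cx := fun g hg => H.cases hg
  uni := by
    intro p h1 h2
    obtain ⟨g, hg⟩ := isConj_iff.1 (H.fus p h1 h2)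
    exact ⟨g, hg⟩
  disj := by
    intro p g hg
    have h1 : p * p = 1 := by
      apply H.phi_eq_one
      rw [map_mul, ← hg]
      calc g * x * g⁻¹ * (g * x * g⁻¹) = g * (x * x) * g⁻¹ := by group
        _ = 1 := by rw [H.xx]; group
    by_cases h2 : p = 1
    · apply H.x1
      rw [h2, map_one] at hg
      calc x = g⁻¹ * (g * x * g⁻¹) * g := by group
        _ = 1 := by rw [hg]; group
    · exact H.nfus p h1 h2 (isConj_iff.2 ⟨g, hg⟩)

namespace SixY

theorem y_pw (S : SixY x φ y Y c d r s) {g : P6} (hg : y * φ g = φ g * y) (i : ZMod 2) :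
    y * φ (pw g i) = φ (pw g i) * y := by
  rcases zmod2 i with rfl | rfl
  · simp
  · simpa using hg

theorem Y_pw (S : SixY x φ y Y c d r s) {g : P6} (hg : Y * φ g = φ g * Y) (i : ZMod 2) :
    Y * φ (pw g i) = φ (pw g i) * Y := by
  rcases zmod2 i with rfl | rfl
  · simp
  · simpa using hg

/-- `y` commutes with `φ(U)` if `c = 0` -/
theorem y_pu (S : SixY x φ y Y 0 d r s) (a e f z : ZMod 2) : y * φ (pu a e f z) = φ (pu a e f z) * y := by
  have ha : y * φ pa = φ pa * y := by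
    have := S.ya
    rw [pw_zero, mul_one] at this
    exact mul_inv_eq_iff_eq_mul.1 this
  have h1 := S.y_pw ha a
  have h2 := S.y_pw S.ye e
  have h3 := S.y_pw S.yf f
  have h4 := S.y_pw S.yz z
  rw [pu, map_mul, map_mul, map_mul]
  calc y * (φ (pw pa a) * φ (pw pe e) * φ (pw pf f) * φ (pw pz z))
      = (y * φ (pw pa a)) * φ (pw pe e) * φ (pw pf f) * φ (pw pz z) := by group
    _ = φ (pw pa a) * (y * φ (pw pe e)) * φ (pw pf f) * φ (pw pz z) := by rw [h1]; group
    _ = φ (pw pa a) * φ (pw pe e) * (y * φ (pw pf f)) * φ (pw pz z) := by rw [h2]; group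
    _ = φ (pw pa a) * φ (pw pe e) * φ (pw pf f) * (y * φ (pw pz z)) := by rw [h3]; group
    _ = _ := by rw [h4]; group

/-- `Y` commutes with `φ⟨a, f, z⟩` -/
theorem Y_pu (S : SixY x φ y Y c d r s) (a f z : ZMod 2) : Y * φ (pu a 0 f z) = φ (pu a 0 f z) * Y := by
  have h1 := S.Y_pw S.Ya a
  have h3 := S.Y_pw S.Yf f
  have h4 := S.Y_pw S.Yz z
  rw [pu, pw_zero, mul_one, map_mul, map_mul]
  calc Y * (φ (pw pa a) * φ (pw pf f) * φ (pw pz z))
      = (Y * φ (pw pa a)) * φ (pw pf f) * φ (pw pz z) := by group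
    _ = φ (pw pa a) * (Y * φ (pw pf f)) * φ (pw pz z) := by rw [h1]; group
    _ = φ (pw pa a) * φ (pw pf f) * (Y * φ (pw pz z)) := by rw [h3]; group
    _ = _ := by rw [h4]; group

theorem zz_y (S : SixY x φ y Y c d r s) (i j : ZMod 2) : y * φ (zz i j) = φ (zz i j) * y := by
  have h3 := S.y_pw S.yf i
  have h4 := S.y_pw S.yz j
  rw [zz, map_mul, ← mul_assoc, h3, mul_assoc, h4, mul_assoc]

theorem zz_Y (S : SixY x φ y Y c d r s) (i j : ZMod 2) : Y * φ (zz i j) = φ (zz i j) * Y := by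
  have h3 := S.Y_pw S.Yf i
  have h4 := S.Y_pw S.Yz j
  rw [zz, map_mul, ← mul_assoc, h3, mul_assoc, h4, mul_assoc]

theorem zz_inv (i j : ZMod 2) : (φ (zz i j))⁻¹ = φ (zz i j) :=
  inv_eq_of_mul_eq_one_left (by rw [← map_mul, zz_sq, map_one])

/-- `y x = x y f` -/
theorem yx' (S : SixY x φ y Y c d r s) : y * x = x * y * φ (zz 1 0) := by
  have h := S.yx
  rw [mul_inv_eq_iff_eq_mul] at h
  rw [h, ← pf_zz, mul_assoc, mul_assoc, S.yf]

theorem Yx' (S : SixY x φ y Y c d r s) : Y * x = x * Y * φ (zz 1 1) := by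
  have h := S.Yx
  rw [mul_inv_eq_iff_eq_mul, ph_zz] at h
  rw [h, mul_assoc, mul_assoc, S.zz_Y]

theorem yYx' (S : SixY x φ y Y c d r s) : y * Y * x = x * y * Y * φ (zz 0 1) := by
  have h1 : φ (zz 1 0) * φ (zz 1 1) = φ (zz 0 1) := by
    rw [← map_mul, zz_10_11]
  calc y * Y * x = y * (Y * x) := by group
    _ = (y * x) * Y * φ (zz 1 1) := by rw [S.Yx']; group
    _ = x * y * (φ (zz 1 0) * Y) * φ (zz 1 1) := by rw [S.yx']; group
    _ = x * y * Y * (φ (zz 1 0) * φ (zz 1 1)) := by rw [← S.zz_Y]; group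
    _ = _ := by rw [h1]

theorem Yy' (S : SixY x φ y Y c d r s) : Y * y * Y⁻¹ = y * φ (zz r s) := by
  have h := S.yY
  have h1 : Y * y = y * Y * φ (zz r s) := by
    rw [h]
    calc Y * y = Y * y * (φ (zz r s) * (φ (zz r s))⁻¹) := by group
      _ = Y * y * φ (zz r s) * φ (zz r s) := by rw [zz_inv]; group
  rw [mul_inv_eq_iff_eq_mul, h1, mul_assoc, mul_assoc, S.zz_Y]

end SixY

/-- the codes of the products used in the ends -/
theorem tab_iff {L : List Code} (T : Table x φ y Y L) (i j k a e f z : ZMod 2) :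
    IsConj x (pw x i * pw y j * pw Y k * φ (pu a e f z)) ↔ ((i, j, k, a, e) : Code) ∈ L :=
  T (i, j, k, a, e) f z

namespace Beta

theorem toIn (B : Beta x φ y Y) : BetaEnd.BetaIn x φ y Y where
  toUni := B.toSixB.toUniB
  yy := B.yy
  yx := B.yx
  yu := by
    intro u hu
    obtain ⟨a, e, f, z, rfl⟩ := PU_pu u hu
    exact B.toSixY.y_pu a e f z
  Yx := by rw [eph]; exact B.Yx
  Yu := by
    intro u hu
    obtain ⟨a, f, z, rfl, -, -⟩ := P1_pu u hu
    exact B.toSixY.Y_pu a f z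
  Ye := by rw [eph]; exact B.Ye
  Yy := by rw [eph, ph_zz]; exact B.toSixY.Yy'
  t1 := by
    intro u hu
    obtain ⟨a, f, z, rfl, -, -⟩ := P1_pu u hu
    have h := tab_iff B.tab 0 1 0 a 0 f z
    rw [pw_zero, pw_one, pw_zero, one_mul, mul_one] at h
    rw [h]
    rcases zmod2 a with rfl | rfl <;> decide
  t2 := by
    intro u hu
    obtain ⟨a, f, z, rfl, -, -⟩ := P1_pu u hu
    have h := tab_iff B.tab 1 1 0 a 0 (1 + f) (0 + z)
    rw [pw_zero, pw_one, pw_one, mul_one, ← zz_pu, map_mul, ← mul_assoc, ← B.toSixY.yx'] at h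
    rw [← mul_assoc, h]
    rcases zmod2 a with rfl | rfl <;> decide
  t3 := by
    intro u hu
    obtain ⟨a, f, z, rfl, -, -⟩ := P1_pu u hu
    have h := tab_iff B.tab 0 0 1 a 0 f z
    rw [pw_zero, pw_one, pw_zero, one_mul, one_mul] at h
    rw [h]
    rcases zmod2 a with rfl | rfl <;> decide
  t4 := by
    intro u hu
    obtain ⟨a, f, z, rfl, -, -⟩ := P1_pu u hu
    have h := tab_iff B.tab 1 0 1 a 0 (1 + f) (1 + z)
    rw [pw_zero, pw_one, pw_one, mul_one, ← zz_pu, map_mul, ← mul_assoc, ← B.toSixY.Yx'] at h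
    rw [← mul_assoc, h]
    rcases zmod2 a with rfl | rfl <;> decide
  t5 := by
    intro u hu
    obtain ⟨a, f, z, rfl, -, -⟩ := P1_pu u hu
    have h := tab_iff B.tab 0 1 1 a 0 f z
    rw [pw_zero, pw_one, pw_one, one_mul] at h
    rw [h]
    rcases zmod2 a with rfl | rfl <;> decide
  t6 := by
    intro u hu
    obtain ⟨a, f, z, rfl, -, -⟩ := P1_pu u hu
    have h := tab_iff B.tab 1 1 1 a 0 (0 + f) (1 + z)
    rw [pw_one, pw_one, pw_one, ← zz_pu, map_mul, ← mul_assoc, ← B.toSixY.yYx'] at h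
    rw [← mul_assoc, h]
    rcases zmod2 a with rfl | rfl <;> decide
  t7 := by
    intro u hu
    obtain ⟨a, f, z, -, h1, h2⟩ := P1_pu u hu
    have h := tab_iff B.tab 0 1 0 a 1 f z
    rw [pw_zero, pw_one, pw_zero, one_mul, mul_one] at h
    rw [h1, h, h2]
    rcases zmod2 a with rfl | rfl <;> decide
  t8 := by
    intro u hu
    obtain ⟨a, f, z, -, h1, h2⟩ := P1_pu u hu
    have h := tab_iff B.tab 1 1 0 a 1 (1 + f) (0 + z)
    rw [pw_zero, pw_one, pw_one, mul_one, ← zz_pu, map_mul, ← mul_assoc, ← B.toSixY.yx'] at h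
    rw [h1, ← mul_assoc, h]
    rcases zmod2 a with rfl | rfl <;> decide
  t9 := by
    intro u hu
    obtain ⟨a, f, z, -, h1, h2⟩ := P1_pu u hu
    have h := tab_iff B.tab 0 0 1 a 1 f z
    rw [pw_zero, pw_one, pw_zero, one_mul, one_mul] at h
    rw [h1, h]
    rcases zmod2 a with rfl | rfl <;> decide
  t10 := by
    intro u hu
    obtain ⟨a, f, z, -, h1, h2⟩ := P1_pu u hu
    have h := tab_iff B.tab 1 0 1 a 1 (1 + f) (1 + z)
    rw [pw_zero, pw_one, pw_one, mul_one, ← zz_pu, map_mul, ← mul_assoc, ← B.toSixY.Yx'] at h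
    rw [h1, ← mul_assoc, h, h2]
    rcases zmod2 a with rfl | rfl <;> decide
  t11 := by
    intro u hu
    obtain ⟨a, f, z, -, h1, h2⟩ := P1_pu u hu
    have h := tab_iff B.tab 0 1 1 a 1 f z
    rw [pw_zero, pw_one, pw_one, one_mul] at h
    rw [h1, h, h2]
    rcases zmod2 a with rfl | rfl <;> decide
  t12 := by
    intro u hu
    obtain ⟨a, f, z, -, h1, h2⟩ := P1_pu u hu
    have h := tab_iff B.tab 1 1 1 a 1 (0 + f) (1 + z)
    rw [pw_one, pw_one, pw_one, ← zz_pu, map_mul, ← mul_assoc, ← B.toSixY.yYx'] at h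
    rw [h1, ← mul_assoc, h]
    rcases zmod2 a with rfl | rfl <;> decide

/-- **pattern beta is impossible** -/
theorem false [Finite G] (hG : ∀ H : Subgroup G, H.index ≠ 2) (B : Beta x φ y Y) : False :=
  BetaEnd.BetaIn.false (fun m g => hom_trivial hG m g) B.toIn

end Beta

end Cfsg.Agent.OddHalf.D6.SixU
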