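import Cfsg.Agent.OddHalf.D6.SixU.AlphaEnd
import Cfsg.Agent.OddHalf.D6.SixU.BetaFalse

/-!
# Case (B), pattern alpha: `Alpha.false` (ODD D6, `q = 9`, helper751)
-/

set_option autoImplicit false

namespace Cfsg.Agent.OddHalf.D6.SixU

open Subgroup Equiv

section perms
set_option Elab.async false

theorem alpha_pu : ∀ a e f z : ZMod 2, (pu a e f z ∈ EndPerm.P2 ∨ ∃ t ∈ EndFin.PZ, pu a e f z = EndPerm.pa * t) ↔
    a * e = 0 := by decide +kernel

theorem listA_y : ∀ a e : ZMod 2, ((0, 1, 0, a, e) : Code) ∈ listA ↔ a * e = 0 := by decide +kernel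
theorem listA_Y : ∀ a e : ZMod 2, ((0, 0, 1, a, e) : Code) ∈ listA ↔ a * e = 0 := by decide +kernel
theorem listA_xy : ∀ a e : ZMod 2, ((1, 1, 0, a, e) : Code) ∉ listA := by decide +kernel
theorem listA_xY : ∀ a e : ZMod 2, ((1, 0, 1, a, e) : Code) ∉ listA := by decide +kernel
end perms

variable {G : Type*} [Group G] {x : G} {φ : P6 →* G} {y Y : G} {c d r s : ZMod 2}

/-- `Y` commutes with `φ(U)` if `d = 0` -/
theorem SixY.Y_pu0 (S : SixY x φ y Y c 0 r s) (a e f z : ZMod 2) : Y * φ (pu a e f z) = φ (pu a e f z) * Y := by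
  have he : Y * φ pe = φ pe * Y := by
    have := S.Ye
    rw [pw_zero, mul_one] at this
    exact mul_inv_eq_iff_eq_mul.1 this
  have h1 := S.Y_pw S.Ya a
  have h2 := S.Y_pw he e
  have h3 := S.Y_pw S.Yf f
  have h4 := S.Y_pw S.Yz z
  rw [pu, map_mul, map_mul, map_mul]
  calc Y * (φ (pw pa a) * φ (pw pe e) * φ (pw pf f) * φ (pw pz z))
      = (Y * φ (pw pa a)) * φ (pw pe e) * φ (pw pf f) * φ (pw pz z) := by group
    _ = φ (pw pa a) * (Y * φ (pw pe e)) * φ (pw pf f) * φ (pw pz z) := by rw [h1]; group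
    _ = φ (pw pa a) * φ (pw pe e) * (Y * φ (pw pf f)) * φ (pw pz z) := by rw [h2]; group
    _ = φ (pw pa a) * φ (pw pe e) * φ (pw pf f) * (Y * φ (pw pz z)) := by rw [h3]; group
    _ = _ := by rw [h4]; group

namespace Alpha

theorem toIn (B : Alpha x φ y Y) : AlphaEnd.AlphaIn x φ y Y where
  toUni := B.toSixB.toUniB
  yy := B.yy
  yx := B.yx
  yu := by
    intro u hu
    obtain ⟨a, e, f, z, rfl⟩ := PU_pu u hu
    exact B.toSixY.y_pu a e f z
  Yx := by rw [eph]; exact B.Yx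
  Yu := by
    intro u hu
    obtain ⟨a, e, f, z, rfl⟩ := PU_pu u hu
    exact B.toSixY.Y_pu0 a e f z
  t1 := by
    intro u hu
    obtain ⟨a, e, f, z, rfl⟩ := PU_pu u hu
    have h := tab_iff B.tab 0 1 0 a e f z
    rw [pw_zero, pw_one, pw_zero, one_mul, mul_one] at h
    rw [h, alpha_pu, listA_y]
  t2 := by
    intro u hu
    obtain ⟨a, e, f, z, rfl⟩ := PU_pu u hu
    have h := tab_iff B.tab 1 1 0 a e (1 + f) (0 + z)
    rw [pw_zero, pw_one, pw_one, mul_one, ← zz_pu, map_mul, ← mul_assoc, ← B.toSixY.yx'] at h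
    rw [← mul_assoc, h]
    exact listA_xy a e
  t3 := by
    intro u hu
    obtain ⟨a, e, f, z, rfl⟩ := PU_pu u hu
    have h := tab_iff B.tab 0 0 1 a e f z
    rw [pw_zero, pw_one, pw_zero, one_mul, one_mul] at h
    rw [h, alpha_pu, listA_Y]
  t4 := by
    intro u hu
    obtain ⟨a, e, f, z, rfl⟩ := PU_pu u hu
    have h := tab_iff B.tab 1 0 1 a e (1 + f) (1 + z)
    rw [pw_zero, pw_one, pw_one, mul_one, ← zz_pu, map_mul, ← mul_assoc, ← B.toSixY.Yx'] at h
    rw [← mul_assoc, h]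
    exact listA_xY a e

/-- **pattern alpha is impossible** -/
theorem false [Finite G] (hG : ∀ H : Subgroup G, H.index ≠ 2) (B : Alpha x φ y Y) : False :=
  AlphaEnd.AlphaIn.false (fun m g => hom_trivial hG m g) B.toIn

end Alpha

end Cfsg.Agent.OddHalf.D6.SixU
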