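import Cfsg.Agent.OddHalf.D6.SixU.EndFin

/-!
# Finite facts on permutations for the ends of case (B), 2 (ODD D6, `q = 9`, helper751)
-/

set_option autoImplicit false

namespace Cfsg.Agent.OddHalf.D6.SixU.EndFin

open Equiv
open EndPerm EndTw

set_option Elab.async false

theorem P1_list : ∀ u ∈ P1, u = 1 ∨ u = pf ∨ u = pz ∨ u = pf * pz ∨ u = pa ∨ u = pf * pa ∨ u = pz * pa ∨
    u = pf * pz * pa := by
  intro u hu
  simpa [P1] using hu

theorem PU_pf : ∀ v ∈ PU, pf * v = v * pf := by decide +kernel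

end Cfsg.Agent.OddHalf.D6.SixU.EndFin
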