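import Cfsg.Agent.OddHalf.D6.Six.Parity
import Cfsg.Agent.OddHalf.D6.SixU.Ends0
import Cfsg.Agent.OddHalf.D6.SixU.EndTw
import Cfsg.Agent.OddHalf.D6.SixU.EndFin2

/-!
# Case (B), the end of pattern beta (ODD D6, `q = 9`, helper751)

`R = {r ∈ C(A₁) : r x r⁻¹ ∈ x A₁}`, `A₁ = φ⟨f, z, a⟩`; the conjugates of `x` in `R` form four cosets `v_i A₁`;
`N_G(R) ∩ N(A₁)` has order `3072` and acts on the four cosets as `S₄`; the `T`-formula for the sign gives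
`96 · 1440 = 45 · 3072`.
-/

set_option autoImplicit false

namespace Cfsg.Agent.OddHalf.D6.SixU.BetaEnd

open Subgroup Equiv
open Cfsg.Agent.OddHalf.D6.Six EndPerm EndFin EndTw Ends0


/-- the data of pattern beta; `t_i` = the table of the conjugates of `x` in `T₁` -/
structure BetaIn {G : Type*} [Group G] (x : G) (φ : Perm (Fin 6) →* G) (y Y : G) : Prop
    extends Uni x φ where
  yy : y * y = 1
  yx : y * x * y⁻¹ = x * φ pf
  yu : ∀ u ∈ PU, y * φ u = φ u * y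
  Yx : Y * x * Y⁻¹ = x * φ (pf * pz)
  Yu : ∀ u ∈ P1, Y * φ u = φ u * Y
  Ye : Y * φ pe * Y⁻¹ = φ (pe * (pf * pz))
  Yy : Y * y * Y⁻¹ = y * φ (pf * pz)
  t1 : ∀ u ∈ P1, IsConj x (y * φ u)
  t2 : ∀ u ∈ P1, ¬ IsConj x (y * (x * φ u))
  t3 : ∀ u ∈ P1, ¬ IsConj x (Y * φ u)
  t4 : ∀ u ∈ P1, ¬ IsConj x (Y * (x * φ u))
  t5 : ∀ u ∈ P1, ¬ IsConj x (y * Y * φ u)
  t6 : ∀ u ∈ P1, ¬ IsConj x (y * Y * (x * φ u))
  t7 : ∀ u ∈ P1, IsConj x (y * φ (u * pe)) ↔ u ∈ PZ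
  t8 : ∀ u ∈ P1, ¬ IsConj x (y * (x * φ (u * pe)))
  t9 : ∀ u ∈ P1, ¬ IsConj x (Y * φ (u * pe))
  t10 : ∀ u ∈ P1, IsConj x (Y * (x * φ (u * pe))) ↔ u ∈ PZ
  t11 : ∀ u ∈ P1, IsConj x (y * Y * φ (u * pe)) ↔ u ∈ PZ
  t12 : ∀ u ∈ P1, ¬ IsConj x (y * Y * (x * φ (u * pe)))

variable {G : Type*} [Group G] {x : G} {φ : Perm (Fin 6) →* G} {y Y : G}

theorem conj_eq {a b c : G} (h : a * b * a⁻¹ = c) : a⁻¹ * c * a = b := by rw [← h]; group

/-- `v_i` -/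
def v (x : G) (φ : Perm (Fin 6) →* G) (y : G) : Fin 4 → G :=
  ![x, y, φ ps * y * φ ps⁻¹, φ ps⁻¹ * y * φ ps]

/-- `R` -/
def R {G : Type*} [Group G] (x : G) (φ : Perm (Fin 6) →* G) : Subgroup G where
  carrier := {r | (∀ u ∈ P1, r * φ u = φ u * r) ∧ ∃ u ∈ P1, r * x * r⁻¹ = x * φ u}
  one_mem' := ⟨fun u _ => by simp, 1, P1_one, by simp⟩
  mul_mem' := by
    rintro r s ⟨h1, u, hu, h2⟩ ⟨h3, w, hw, h4⟩
    refine ⟨fun t ht => by rw [mul_assoc, h3 t ht, ← mul_assoc, h1 t ht, mul_assoc], u * w,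
      P1_mul u hu w hw, ?_⟩
    calc r * s * x * (r * s)⁻¹ = r * (s * x * s⁻¹) * r⁻¹ := by group
      _ = r * x * (φ w * r⁻¹) := by rw [h4]; group
      _ = r * x * r⁻¹ * (r * φ w) * r⁻¹ := by group
      _ = x * φ (u * w) := by rw [h2, h1 w hw, map_mul]; group
  inv_mem' := by
    rintro r ⟨h1, u, hu, h2⟩
    have h3 : ∀ u ∈ P1, r⁻¹ * φ u = φ u * r⁻¹ := by
      intro u hu
      rw [inv_mul_eq_iff_eq_mul, ← mul_assoc, h1 u hu, mul_inv_cancel_right]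
    refine ⟨h3, u, hu, ?_⟩
    have h4 : x = r⁻¹ * (x * φ u) * r := by rw [← h2]; group
    have h5 : φ u * φ u = 1 := by rw [← map_mul, P1_sq u hu, map_one]
    calc r⁻¹ * x * r⁻¹⁻¹ = r⁻¹ * (x * φ u) * (φ u)⁻¹ * r := by group
      _ = r⁻¹ * (x * φ u) * (r * r⁻¹) * (φ u)⁻¹ * r := by group
      _ = x * (r⁻¹ * (φ u)⁻¹ * r) := by rw [← mul_assoc, ← h4]; group
      _ = x * φ u := by
        rw [inv_eq_of_mul_eq_one_left h5, h3 u hu]; group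

theorem mem_R {r : G} : r ∈ R x φ ↔ (∀ u ∈ P1, r * φ u = φ u * r) ∧ ∃ u ∈ P1, r * x * r⁻¹ = x * φ u := Iff.rfl

/-- `d` lies in the class number `i` -/
def cls (x : G) (φ : Perm (Fin 6) →* G) (y : G) (d : G) (i : Fin 4) : Prop := ∃ u ∈ P1, d = v x φ y i * φ u

namespace BetaIn

variable (B : BetaIn x φ y Y)

include B

theorem xmem : x ∈ R x φ := ⟨fun u _ => B.comm u, 1, P1_one, by simp⟩

theorem ymem : y ∈ R x φ := ⟨fun u hu => B.yu u (P1_PU u hu), pf, by decide +kernel, B.yx⟩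

theorem Ymem : Y ∈ R x φ := ⟨B.Yu, _, by decide +kernel, B.Yx⟩

theorem amem {u : Perm (Fin 6)} (hu : u ∈ P1) : φ u ∈ R x φ :=
  ⟨fun w hw => by rw [← map_mul, P1_comm u hu w hw, map_mul], 1, P1_one, by
    rw [← B.comm u]; simp⟩

/-- conjugation by `φ s` -/
theorem norm_R {s : Perm (Fin 6)} (hs : ∀ u ∈ P1, s * u * s⁻¹ ∈ P1) (hs' : ∀ u ∈ P1, s⁻¹ * u * s ∈ P1)
    {r : G} (hr : r ∈ R x φ) : φ s * r * (φ s)⁻¹ ∈ R x φ := by
  obtain ⟨h1, u, hu, h2⟩ := hr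
  refine ⟨fun w hw => ?_, _, hs u hu, ?_⟩
  · have h3 := h1 _ (hs' w hw)
    rw [map_mul, map_mul, map_inv] at h3
    calc φ s * r * (φ s)⁻¹ * φ w = φ s * (r * ((φ s)⁻¹ * φ w * φ s)) * (φ s)⁻¹ := by group
      _ = φ s * ((φ s)⁻¹ * φ w * φ s * r) * (φ s)⁻¹ := by rw [h3]
      _ = φ w * (φ s * r * (φ s)⁻¹) := by group
  · have hx : (φ s)⁻¹ * x = x * (φ s)⁻¹ := by rw [← map_inv, B.comm]
    rw [map_mul, map_mul, map_inv]
    calc φ s * r * (φ s)⁻¹ * x * (φ s * r * (φ s)⁻¹)⁻¹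
        = φ s * r * ((φ s)⁻¹ * x) * φ s * r⁻¹ * (φ s)⁻¹ := by group
      _ = φ s * (r * x * r⁻¹) * (φ s)⁻¹ := by rw [hx]; group
      _ = (φ s * x) * φ u * (φ s)⁻¹ := by rw [h2]; group
      _ = x * (φ s * φ u * (φ s)⁻¹) := by rw [← B.comm]; group

theorem smem {r : G} (hr : r ∈ R x φ) : φ ps * r * φ ps⁻¹ ∈ R x φ := by
  rw [map_inv]; exact B.norm_R P1_s P1_s' hr

theorem smem' {r : G} (hr : r ∈ R x φ) : φ ps⁻¹ * r * φ ps ∈ R x φ := by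
  have h := B.norm_R (s := ps⁻¹) (by simpa using P1_s') (by simpa using P1_s) hr
  rwa [map_inv, inv_inv, ← map_inv] at h

theorem vmem (i : Fin 4) : v x φ y i ∈ R x φ := by
  fin_cases i
  · exact B.xmem
  · exact B.ymem
  · exact B.smem B.ymem
  · exact B.smem' B.ymem

/-- conjugation of the action on `x` -/
theorem act_conj {r : G} {u s : Perm (Fin 6)} (h2 : r * x * r⁻¹ = x * φ u) :
    (φ s * r * (φ s)⁻¹) * x * (φ s * r * (φ s)⁻¹)⁻¹ = x * φ (s * u * s⁻¹) := by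
  have hx : (φ s)⁻¹ * x = x * (φ s)⁻¹ := by rw [← map_inv, B.comm]
  rw [map_mul, map_mul, map_inv]
  calc φ s * r * (φ s)⁻¹ * x * (φ s * r * (φ s)⁻¹)⁻¹
      = φ s * r * ((φ s)⁻¹ * x) * φ s * r⁻¹ * (φ s)⁻¹ := by group
    _ = φ s * (r * x * r⁻¹) * (φ s)⁻¹ := by rw [hx]; group
    _ = (φ s * x) * φ u * (φ s)⁻¹ := by rw [h2]; group
    _ = x * (φ s * φ u * (φ s)⁻¹) := by rw [← B.comm]; group

theorem v_act (i : Fin 4) : v x φ y i * x * (v x φ y i)⁻¹ = x * φ (fi i) := by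
  fin_cases i
  · show x * x * x⁻¹ = x * φ 1
    simp
  · exact B.yx
  · show (φ ps * y * φ ps⁻¹) * x * (φ ps * y * φ ps⁻¹)⁻¹ = x * φ (ps * pf * ps⁻¹)
    rw [map_inv]; exact B.act_conj B.yx
  · show (φ ps⁻¹ * y * φ ps) * x * (φ ps⁻¹ * y * φ ps)⁻¹ = x * φ (ps⁻¹ * pf * ps)
    have := B.act_conj (s := ps⁻¹) B.yx
    rwa [inv_inv, map_inv, inv_inv, ← map_inv] at this

theorem act_mul {r s : G} {u w : Perm (Fin 6)} (hr : ∀ u ∈ P1, r * φ u = φ u * r) (hw : w ∈ P1)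
    (h1 : r * x * r⁻¹ = x * φ u) (h2 : s * x * s⁻¹ = x * φ w) :
    r * s * x * (r * s)⁻¹ = x * φ (u * w) := by
  calc r * s * x * (r * s)⁻¹ = r * (s * x * s⁻¹) * r⁻¹ := by group
    _ = r * x * (φ w * r⁻¹) := by rw [h2]; group
    _ = r * x * r⁻¹ * (r * φ w) * r⁻¹ := by group
    _ = x * φ (u * w) := by rw [h1, hr w hw, map_mul]; group

theorem cls_act {d : G} {i : Fin 4} (h : cls x φ y d i) : d * x * d⁻¹ = x * φ (fi i) := by
  obtain ⟨u, hu, rfl⟩ := h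
  have h1 : φ u * x * (φ u)⁻¹ = x * φ 1 := by rw [← B.comm u]; simp
  have := B.act_mul (B.vmem i).1 P1_one (B.v_act i) h1
  rwa [mul_one] at this

theorem cls_unique {d : G} {i j : Fin 4} (h : cls x φ y d i) (h' : cls x φ y d j) : i = j := by
  have h1 := B.cls_act h
  rw [B.cls_act h'] at h1
  exact (fi_inj (B.inj (mul_left_cancel h1))).symm

theorem cls_mem {d : G} {i : Fin 4} (h : cls x φ y d i) : d ∈ R x φ := by
  obtain ⟨u, hu, rfl⟩ := h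
  exact (R x φ).mul_mem (B.vmem i) (B.amem hu)

theorem cls_conj {d : G} {i : Fin 4} (h : cls x φ y d i) : IsConj x d := by
  obtain ⟨u, hu, rfl⟩ := h
  fin_cases i
  · show IsConj x (x * φ u)
    by_cases h1 : u = 1
    · rw [h1, map_one, mul_one]
    · have h2 : u * u = 1 := P1_sq u hu
      obtain ⟨g, hg⟩ := B.uni u h2 h1
      exact isConj_iff.2 ⟨g, hg⟩
  · exact B.t1 u hu
  · show IsConj x (φ ps * y * φ ps⁻¹ * φ u)
    have h1 := B.t1 _ (P1_s' u hu)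
    refine h1.trans (isConj_iff.2 ⟨φ ps, ?_⟩)
    rw [map_mul, map_mul, map_inv]; group
  · show IsConj x (φ ps⁻¹ * y * φ ps * φ u)
    have h1 := B.t1 _ (P1_s u hu)
    refine h1.trans (isConj_iff.2 ⟨φ ps⁻¹, ?_⟩)
    rw [map_mul, map_mul, map_inv]; group

/-- elements of `R` commuting with `x` -/
theorem cent_R {r : G} (h : ∀ u ∈ P1, r * φ u = φ u * r) (hx : r * x = x * r) :
    ∃ u ∈ P1, r = φ u ∨ r = x * φ u := by
  obtain ⟨p, hp⟩ := B.cx r hx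
  have key : ∀ u ∈ P1, p * u = u * p := by
    intro u hu
    apply B.inj
    rw [map_mul, map_mul]
    have h1 := h u hu
    rcases hp with rfl | rfl
    · exact h1
    · have h2 : x * (φ p * φ u) = x * (φ u * φ p) := by
        calc x * (φ p * φ u) = x * φ p * φ u := by group
          _ = φ u * (x * φ p) := h1
          _ = (φ u * x) * φ p := by group
          _ = x * (φ u * φ p) := by rw [← B.comm]; group
      exact mul_left_cancel h2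
  exact ⟨p, cent_P1 p (key pf (by decide +kernel)) (key pz (by decide +kernel)) (key pa (by decide +kernel)), hp⟩

/-- if `r, w ∈ R` act in the same way on `x` then `r ∈ w ⟨x⟩ A₁` -/
theorem eq_of_act {r w : G} {u : Perm (Fin 6)} (hr : r ∈ R x φ) (hw : w ∈ R x φ)
    (h1 : r * x * r⁻¹ = x * φ u) (h2 : w * x * w⁻¹ = x * φ u) :
    ∃ t ∈ P1, r = w * φ t ∨ r = w * (x * φ t) := by
  have h3 : w⁻¹ * r * x = x * (w⁻¹ * r) := by
    have h4 : r * x * r⁻¹ = w * x * w⁻¹ := by rw [h1, h2]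
    calc w⁻¹ * r * x = w⁻¹ * (r * x * r⁻¹) * r := by group
      _ = x * (w⁻¹ * r) := by rw [h4]; group
  obtain ⟨t, ht, h5 | h5⟩ := B.cent_R ((R x φ).mul_mem ((R x φ).inv_mem hw) hr).1 h3
  · exact ⟨t, ht, Or.inl (by rw [← h5]; group)⟩
  · exact ⟨t, ht, Or.inr (by rw [← h5]; group)⟩

theorem yY_act : (y * Y) * x * (y * Y)⁻¹ = x * φ pz := by
  have h := B.act_mul B.ymem.1 (by decide +kernel) B.yx B.Yx
  rw [h, ← mul_assoc, ff, one_mul]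

/-- the conjugates of `x` in `R`: the four classes -/
theorem exists_cls {d : G} (hd : d ∈ R x φ) (hc : IsConj x d) : ∃ i, cls x φ y d i := by
  obtain ⟨u, hu, h⟩ := hd.2
  have hP : ∀ s w : Perm (Fin 6), (∀ u ∈ P1, s * u * s⁻¹ ∈ P1) → (∀ u ∈ P1, s⁻¹ * u * s ∈ P1) →
      u = s * w * s⁻¹ → ∃ d', d' ∈ R x φ ∧ IsConj x d' ∧ d' * x * d'⁻¹ = x * φ w ∧ d = φ s * d' * (φ s)⁻¹ := by
    intro s w hs hs' hu
    refine ⟨φ s⁻¹ * d * (φ s⁻¹)⁻¹, B.norm_R (s := s⁻¹) (by simpa using hs') (by simpa using hs) hd,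
      hc.trans (isConj_iff.2 ⟨_, rfl⟩), ?_, ?_⟩
    · rw [B.act_conj h, hu]; congr 2; group
    · rw [map_inv]; group
  rcases P1_cases u hu with rfl | rfl | rfl | rfl | rfl | rfl | rfl | rfl
  · obtain ⟨t, ht, h1 | h1⟩ := B.eq_of_act (w := 1) hd (R x φ).one_mem h (by simp)
    · rw [one_mul] at h1
      obtain ⟨g, hg⟩ := isConj_iff.1 hc
      exact absurd (hg.trans h1) (B.disj t g)
    · rw [one_mul] at h1
      exact ⟨0, t, ht, h1⟩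
  · obtain ⟨t, ht, h1 | h1⟩ := B.eq_of_act hd B.ymem h B.yx
    · exact ⟨1, t, ht, h1⟩
    · exact absurd (h1 ▸ hc) (B.t2 t ht)
  · obtain ⟨d', h1, h2, h3, h4⟩ := hP ps pf P1_s P1_s' rfl
    obtain ⟨t, ht, h5 | h5⟩ := B.eq_of_act h1 B.ymem h3 B.yx
    · refine ⟨2, _, P1_s t ht, ?_⟩
      rw [h4, h5]
      show _ = φ ps * y * φ ps⁻¹ * φ (ps * t * ps⁻¹)
      rw [map_mul, map_mul, map_inv]; group
    · exact absurd (h5 ▸ h2) (B.t2 t ht)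
  · obtain ⟨d', h1, h2, h3, h4⟩ := hP ps⁻¹ pf (by simpa using P1_s') (by simpa using P1_s) (by rw [inv_inv])
    obtain ⟨t, ht, h5 | h5⟩ := B.eq_of_act h1 B.ymem h3 B.yx
    · refine ⟨3, _, P1_s' t ht, ?_⟩
      rw [h4, h5]
      show _ = φ ps⁻¹ * y * φ ps * φ (ps⁻¹ * t * ps)
      rw [map_mul, map_mul, map_inv]; group
    · exact absurd (h5 ▸ h2) (B.t2 t ht)
  · obtain ⟨t, ht, h1 | h1⟩ := B.eq_of_act hd B.Ymem h B.Yx
    · exact absurd (h1 ▸ hc) (B.t3 t ht)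
    · exact absurd (h1 ▸ hc) (B.t4 t ht)
  · obtain ⟨t, ht, h1 | h1⟩ := B.eq_of_act hd ((R x φ).mul_mem B.ymem B.Ymem) h B.yY_act
    · exact absurd (h1 ▸ hc) (B.t5 t ht)
    · exact absurd (h1 ▸ hc) (B.t6 t ht)
  · obtain ⟨d', h1, h2, h3, h4⟩ := hP ps pz P1_s P1_s' rfl
    obtain ⟨t, ht, h5 | h5⟩ := B.eq_of_act h1 ((R x φ).mul_mem B.ymem B.Ymem) h3 B.yY_act
    · exact absurd (h5 ▸ h2) (B.t5 t ht)
    · exact absurd (h5 ▸ h2) (B.t6 t ht)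
  · obtain ⟨d', h1, h2, h3, h4⟩ := hP ps⁻¹ pz (by simpa using P1_s') (by simpa using P1_s) (by rw [inv_inv])
    obtain ⟨t, ht, h5 | h5⟩ := B.eq_of_act h1 ((R x φ).mul_mem B.ymem B.Ymem) h3 B.yY_act
    · exact absurd (h5 ▸ h2) (B.t5 t ht)
    · exact absurd (h5 ▸ h2) (B.t6 t ht)

end BetaIn

end Cfsg.Agent.OddHalf.D6.SixU.BetaEnd
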