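import Cfsg.Agent.OddHalf.D6.SixU.BetaEnd

/-!
# Case (B), the end of pattern beta, part 2: some `g ∈ N(A₁)` maps `x` to `y` (ODD D6, `q = 9`, helper751)
-/

set_option autoImplicit false

namespace Cfsg.Agent.OddHalf.D6.SixU.BetaEnd.BetaIn

open Subgroup Equiv
open Cfsg.Agent.OddHalf.D6.Six EndPerm EndFin EndTw Ends0

variable {G : Type*} [Group G] {x : G} {φ : Perm (Fin 6) →* G} {y Y : G}

theorem conj_x_phi (B : BetaIn x φ y Y) {u : Perm (Fin 6)} (h : u * u = 1) : IsConj x (x * φ u) := by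
  by_cases h1 : u = 1
  · rw [h1, map_one, mul_one]
  · obtain ⟨g, hg⟩ := B.uni u h h1
    exact isConj_iff.2 ⟨g, hg⟩

theorem not_conj_phi (B : BetaIn x φ y Y) (u : Perm (Fin 6)) : ¬ IsConj x (φ u) := by
  intro h
  obtain ⟨g, hg⟩ := isConj_iff.1 h
  exact B.disj u g hg

/-- an element commuting with `A₂` which moves `x` to `x φ u`, `u ∈ P2`: `u = 1` or `u = f` -/
theorem act_P2 (B : BetaIn x φ y Y) {n : G} (hn : ∀ u ∈ P2, n * φ u = φ u * n) {u : Perm (Fin 6)}
    (hu : u ∈ P2) (h : n * x * n⁻¹ = x * φ u) : u = 1 ∨ u = pf := by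
  -- first the value `f z` is impossible
  have key : ∀ n : G, (∀ u ∈ P2, n * φ u = φ u * n) → n * x * n⁻¹ = x * φ (pf * pz) → False := by
    intro n hn h
    have h1 : n⁻¹ * Y * x = x * (n⁻¹ * Y) := by
      have h4 : Y * x * Y⁻¹ = n * x * n⁻¹ := by rw [B.Yx, h]
      calc n⁻¹ * Y * x = n⁻¹ * (Y * x * Y⁻¹) * Y := by group
        _ = x * (n⁻¹ * Y) := by rw [h4]; group
    obtain ⟨p, hp⟩ := B.cx _ h1
    have h2 : φ p * φ pe * (φ p)⁻¹ = φ (pe * (pf * pz)) := by
      have h3 : (n⁻¹ * Y) * φ pe * (n⁻¹ * Y)⁻¹ = φ (pe * (pf * pz)) := by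
        calc (n⁻¹ * Y) * φ pe * (n⁻¹ * Y)⁻¹ = n⁻¹ * (Y * φ pe * Y⁻¹) * n := by group
          _ = n⁻¹ * (φ (pe * (pf * pz)) * n) := by rw [B.Ye]; group
          _ = n⁻¹ * (n * φ (pe * (pf * pz))) := by rw [hn _ (by decide +kernel)]
          _ = φ (pe * (pf * pz)) := by group
      rcases hp with hp | hp
      · rw [← hp]; exact h3
      · rw [hp] at h3
        rw [← h3]
        calc φ p * φ pe * (φ p)⁻¹ = (x * x⁻¹) * (φ p * φ pe * (φ p)⁻¹) := by group
          _ = x * (φ (p * pe * p⁻¹)) * x⁻¹ := by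
            rw [map_mul, map_mul, map_inv, mul_assoc x x⁻¹]
            have : x⁻¹ * (φ p * φ pe * (φ p)⁻¹) = (φ p * φ pe * (φ p)⁻¹) * x⁻¹ := by
              rw [B.xinv, ← map_mul, ← map_inv, ← map_mul, B.comm]
            rw [this]; group
          _ = x * φ p * φ pe * (x * φ p)⁻¹ := by rw [map_mul, map_mul, map_inv]; group
    have h3 : p * pe * p⁻¹ = pe * (pf * pz) := B.inj (by rw [← h2, map_mul, map_mul, map_inv])
    have h4 : Perm.sign (p * pe * p⁻¹) = Perm.sign pe := by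
      rw [Perm.sign_mul, Perm.sign_mul, Perm.sign_inv, mul_comm, ← mul_assoc]
      simp
    rw [h3] at h4
    exact sign_ne h4.symm
  -- conjugates under `r`
  have key2 : ∀ n : G, (∀ u ∈ P2, n * φ u = φ u * n) → ∀ s : Perm (Fin 6),
      (∀ u ∈ P2, s * u * s⁻¹ ∈ P2) → (∀ u ∈ P2, s⁻¹ * u * s ∈ P2) →
      n * x * n⁻¹ = x * φ (s * (pf * pz) * s⁻¹) → False := by
    intro n hn s hs hs' h
    apply key (φ s⁻¹ * n * (φ s⁻¹)⁻¹)
    · intro u hu
      have h3 := hn _ (hs u hu)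
      rw [map_mul, map_mul, map_inv] at h3
      rw [map_inv, inv_inv]
      calc (φ s)⁻¹ * n * φ s * φ u = (φ s)⁻¹ * (n * (φ s * φ u * (φ s)⁻¹)) * φ s := by group
        _ = φ u * ((φ s)⁻¹ * n * φ s) := by rw [h3]; group
    · rw [B.act_conj h]; congr 2; group
  have hyn : ∀ u ∈ P2, (y * n) * φ u = φ u * (y * n) := by
    intro u hu
    rw [mul_assoc, hn u hu, ← mul_assoc, B.yu u (P2_PU u hu), mul_assoc]
  have hynx : (y * n) * x * (y * n)⁻¹ = x * φ (pf * u) := by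
    calc (y * n) * x * (y * n)⁻¹ = y * (n * x * n⁻¹) * y⁻¹ := by group
      _ = y * x * (φ u * y⁻¹) := by rw [h]; group
      _ = (y * x * y⁻¹) * (y * φ u) * y⁻¹ := by group
      _ = x * φ (pf * u) := by rw [B.yx, B.yu u (P2_PU u hu), map_mul]; group
  have r1 := P2_r
  have r2 := P2_r'
  rcases P2_cases u hu with h1 | h1 | h1 | h1 | h1 | h1 | h1 | h1
  · exact Or.inl h1
  · exact Or.inr h1
  · rw [h1] at h; exact (key n hn h).elim
  · rw [h1] at h; exact (key2 n hn pr r1 r2 h).elim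
  · rw [h1] at h
    exact (key2 n hn pr⁻¹ (by simpa using r2) (by simpa using r1) (by rwa [inv_inv])).elim
  · rw [h1] at hynx; exact (key _ hyn hynx).elim
  · rw [h1] at hynx; exact (key2 _ hyn pr r1 r2 hynx).elim
  · rw [h1] at hynx
    exact (key2 _ hyn pr⁻¹ (by simpa using r2) (by simpa using r1) (by rwa [inv_inv])).elim

/-- some `g` maps `x` to `y` and normalises `A₁` -/
theorem exists_g [Finite G] (B : BetaIn x φ y Y) :
    ∃ g, g * x * g⁻¹ = y ∧ ∀ u ∈ P1, ∃ w ∈ P1, g⁻¹ * φ u * g = φ w := by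
  have hxy : IsConj x y := by
    have := B.t1 1 P1_one
    rwa [map_one, mul_one] at this
  obtain ⟨g, hg, hT⟩ := exists_grow B.toSSix hxy B.yy B.yu (fun u _ h => B.not_conj_phi u (h ▸ hxy))
  refine ⟨g, hg, ?_⟩
  have hg' : ∀ t, g⁻¹ * (g * t * g⁻¹) * g = t := fun t => by group
  -- elements of `A₁, φ(U)` come back into `T`
  have hin : ∀ u ∈ PU, ∃ w ∈ PU, g⁻¹ * φ u * g = φ w ∨ g⁻¹ * φ u * g = x * φ w := by
    intro u hu
    have h1 : g * (g⁻¹ * φ u * g) * g⁻¹ ∈ Tw φ y B.yy B.yu := by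
      have : g * (g⁻¹ * φ u * g) * g⁻¹ = φ u := by group
      rw [this]
      exact ⟨u, hu, Or.inl rfl⟩
    exact (hT _).2 h1
  have hconj : ∀ u : Perm (Fin 6), ¬ IsConj x (g⁻¹ * φ u * g) := by
    intro u h
    exact B.not_conj_phi u (h.trans (isConj_iff.2 ⟨g, by group⟩))
  -- involutions
  have hinv : ∀ u ∈ PU, u * u = 1 → ∃ w ∈ PU, g⁻¹ * φ u * g = φ w ∧ w * w = 1 := by
    intro u hu hu2
    obtain ⟨w, hw, h1 | h1⟩ := hin u hu
    · refine ⟨w, hw, h1, B.inj ?_⟩
      rw [map_mul, ← h1, map_one]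
      calc g⁻¹ * φ u * g * (g⁻¹ * φ u * g) = g⁻¹ * φ (u * u) * g := by rw [map_mul]; group
        _ = 1 := by rw [hu2, map_one]; group
    · exfalso
      have h2 : w * w = 1 := by
        apply B.inj
        rw [map_mul, map_one]
        calc φ w * φ w = x * x * φ w * φ w := by rw [B.xx, one_mul]
          _ = x * (x * φ w) * φ w := by group
          _ = x * (φ w * x) * φ w := by rw [B.comm w]
          _ = (x * φ w) * (x * φ w) := by group
          _ = g⁻¹ * φ (u * u) * g := by rw [← h1, map_mul]; group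
          _ = 1 := by rw [hu2, map_one]; group
      exact hconj u (h1 ▸ B.conj_x_phi h2)
  -- `z` is fixed
  have hz : g⁻¹ * φ pz * g = φ pz := by
    obtain ⟨a, ha, ha1, -⟩ := hinv pa (by decide +kernel) aa
    obtain ⟨e, he, he1, -⟩ := hinv pe (by decide +kernel) ee
    have h1 : pz = pa * pe * pa⁻¹ * pe⁻¹ := by decide +kernel
    have h2 : g⁻¹ * φ pz * g = φ (a * e * a⁻¹ * e⁻¹) := by
      rw [map_mul, map_mul, map_mul, map_inv, map_inv, ← ha1, ← he1]
      nth_rewrite 1 [h1]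
      rw [map_mul, map_mul, map_mul, map_inv, map_inv]
      group
    rcases comm_PU a ha e he with h3 | h3
    · exfalso
      rw [h3, map_one] at h2
      have h4 : φ pz = 1 := by
        calc φ pz = g * (g⁻¹ * φ pz * g) * g⁻¹ := by group
          _ = 1 := by rw [h2]; group
      have h5 : pz = 1 := B.inj (h4.trans (map_one φ).symm)
      revert h5; decide +kernel
    · rw [h2, h3]
  -- the image of a central involution of `φ(U)` is central
  have hcen : ∀ u ∈ PU, (∀ v ∈ PU, u * v = v * u) → ∀ w ∈ PU, g⁻¹ * φ u * g = φ w → w ∈ PZ := by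
    intro u hu hc w hw h1
    have h2 : ∀ t ∈ Tw φ x B.xx (fun u _ => B.comm u), t * φ w = φ w * t := by
      intro t ht
      have h3 := (hT t).1 ht
      have h4 : (g * t * g⁻¹) * φ u = φ u * (g * t * g⁻¹) := by
        obtain ⟨v, hv, h5 | h5⟩ := h3
        · rw [h5, ← map_mul, ← map_mul, hc v hv]
        · rw [h5, mul_assoc, ← map_mul, ← hc v hv, map_mul, ← mul_assoc, B.yu u hu, mul_assoc]
      rw [← h1]
      calc t * (g⁻¹ * φ u * g) = g⁻¹ * ((g * t * g⁻¹) * φ u) * g := by group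
        _ = g⁻¹ * (φ u * (g * t * g⁻¹)) * g := by rw [h4]
        _ = g⁻¹ * φ u * g * t := by group
    apply cen_PU w hw
    · apply B.inj
      rw [map_mul, map_mul]
      exact (h2 _ ⟨pa, by decide +kernel, Or.inl rfl⟩).symm
    · apply B.inj
      rw [map_mul, map_mul]
      exact (h2 _ ⟨pe, by decide +kernel, Or.inl rfl⟩).symm
  -- the image of `f`
  obtain ⟨f', hf', hf1, -⟩ := hinv pf (by decide +kernel) ff
  have hfZ : f' ∈ PZ := hcen pf (by decide +kernel) PU_pf f' hf' hf1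
  -- the image of `a`
  obtain ⟨a', ha', ha1, ha2⟩ := hinv pa (by decide +kernel) aa
  have gen : ∀ (P : Finset (Perm (Fin 6))), (∀ u ∈ P, ∀ w ∈ P, u * w ∈ P) → f' ∈ P → pz ∈ P → a' ∈ P → 1 ∈ P →
      ∀ u ∈ P1, ∃ w ∈ P, g⁻¹ * φ u * g = φ w := by
    intro P hP h1 h2 h3 h4
    have hm : ∀ u w u' w' : Perm (Fin 6), g⁻¹ * φ u * g = φ u' → g⁻¹ * φ w * g = φ w' →
        g⁻¹ * φ (u * w) * g = φ (u' * w') := by
      intro u w u' w' h5 h6
      rw [map_mul, map_mul, ← h5, ← h6]; group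
    have h0 : g⁻¹ * φ 1 * g = φ 1 := by rw [map_one]; group
    intro u hu
    rcases P1_list u hu with rfl | rfl | rfl | rfl | rfl | rfl | rfl | rfl
    · exact ⟨1, h4, h0⟩
    · exact ⟨_, h1, hf1⟩
    · exact ⟨_, h2, hz⟩
    · exact ⟨_, hP _ h1 _ h2, hm _ _ _ _ hf1 hz⟩
    · exact ⟨_, h3, ha1⟩
    · exact ⟨_, hP _ h1 _ h3, hm _ _ _ _ hf1 ha1⟩
    · exact ⟨_, hP _ h2 _ h3, hm _ _ _ _ hz ha1⟩
    · exact ⟨_, hP _ (hP _ h1 _ h2) _ h3, hm _ _ _ _ (hm _ _ _ _ hf1 hz) ha1⟩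
  rcases inv_PU a' ha' ha2 with h1 | h1
  · exact gen P1 P1_mul (PZ_P1 _ hfZ) (by decide +kernel) h1 P1_one
  · exfalso
    have h2 := gen P2 P2_mul (PZ_P2 _ hfZ) (by decide +kernel) h1 (by decide +kernel)
    -- the inclusion is an equality
    have h3 : ∀ w ∈ P2, ∃ u ∈ P1, g⁻¹ * φ u * g = φ w := by
      choose! m hm hm1 using h2
      have h4 : P1.image m = P2 := by
        apply Finset.eq_of_subset_of_card_le
        · intro w hw
          obtain ⟨u, hu, rfl⟩ := Finset.mem_image.1 hw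
          exact hm u hu
        · rw [Finset.card_image_of_injOn, P1_card, P2_card]
          intro u hu w hw h5
          have h5' : m u = m w := h5
          have h6 : g⁻¹ * φ u * g = g⁻¹ * φ w * g := by rw [hm1 u hu, hm1 w hw, h5']
          exact B.inj (mul_left_cancel (mul_right_cancel h6))
      intro w hw
      rw [← h4] at hw
      obtain ⟨u, hu, rfl⟩ := Finset.mem_image.1 hw
      exact ⟨u, hu, hm1 u hu⟩
    have hcomm : ∀ r : G, (∀ u ∈ P1, r * φ u = φ u * r) → ∀ w ∈ P2, (g⁻¹ * r * g) * φ w = φ w * (g⁻¹ * r * g) := by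
      intro r hr w hw
      obtain ⟨u, hu, h5⟩ := h3 w hw
      rw [← h5]
      calc g⁻¹ * r * g * (g⁻¹ * φ u * g) = g⁻¹ * (r * φ u) * g := by group
        _ = g⁻¹ * φ u * g * (g⁻¹ * r * g) := by rw [hr u hu]; group
    -- the two translations
    have hx1 : x * y * x⁻¹ = y * φ pf := by
      have h5 := B.yx
      rw [mul_inv_eq_iff_eq_mul] at h5
      -- `y x = x φ f y`
      have h6 : φ pf * y = y * φ pf := (B.yu pf (by decide +kernel)).symm
      rw [mul_assoc, h6] at h5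
      rw [mul_inv_eq_iff_eq_mul]
      have h7 : φ pf * φ pf = 1 := by rw [← map_mul, ff, map_one]
      calc x * y = x * y * (φ pf * φ pf) := by rw [h7, mul_one]
        _ = (x * (y * φ pf)) * φ pf := by group
        _ = y * (x * φ pf) := by rw [← h5]; group
        _ = y * φ pf * x := by rw [B.comm]; group
    have tr : ∀ (r : G) (u : Perm (Fin 6)), u ∈ P1 → (∀ u ∈ P1, r * φ u = φ u * r) → r * y * r⁻¹ = y * φ u →
        ∃ w ∈ P2, g⁻¹ * φ u * g = φ w ∧ (w = 1 ∨ w = pf) := by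
      intro r u hu hr h5
      obtain ⟨w, hw, h6⟩ := h2 u hu
      refine ⟨w, hw, h6, B.act_P2 (n := g⁻¹ * r * g) (hcomm r hr) hw ?_⟩
      have h7 : g⁻¹ * y * g = x := by rw [← hg]; group
      calc g⁻¹ * r * g * x * (g⁻¹ * r * g)⁻¹ = g⁻¹ * (r * (g * x * g⁻¹) * r⁻¹) * g := by group
        _ = g⁻¹ * (y * φ u) * g := by rw [hg, h5]
        _ = (g⁻¹ * y * g) * (g⁻¹ * φ u * g) := by group
        _ = x * φ w := by rw [h7, h6]
    obtain ⟨w1, -, h5, h6⟩ := tr x pf (by decide +kernel) (fun u _ => B.comm u) hx1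
    obtain ⟨w2, -, h7, h8⟩ := tr Y (pf * pz) (by decide +kernel) B.Yu B.Yy
    have ne : ∀ u w : Perm (Fin 6), g⁻¹ * φ u * g = φ w → u ≠ 1 → w ≠ 1 := by
      intro u w h9 h10 h11
      apply h10
      apply B.inj
      rw [h11, map_one] at h9
      rw [map_one]
      calc φ u = g * (g⁻¹ * φ u * g) * g⁻¹ := by group
        _ = 1 := by rw [h9]; group
    have h9 := h6.resolve_left (ne _ _ h5 (by decide +kernel))
    have h10 := h8.resolve_left (ne _ _ h7 (by decide +kernel))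
    rw [h9] at h5
    rw [h10] at h7
    have h11 : φ pf = φ (pf * pz) := mul_left_cancel (mul_right_cancel (h5.trans h7.symm))
    have h12 := B.inj h11
    revert h12; decide +kernel

end Cfsg.Agent.OddHalf.D6.SixU.BetaEnd.BetaIn
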