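import Cfsg.Agent.OddHalf.D6.SixU.EndFin2

/-!
# Finite facts on permutations for the ends of case (B), 3 (ODD D6, `q = 9`, helper751)
-/

set_option autoImplicit false

namespace Cfsg.Agent.OddHalf.D6.SixU.EndFin

open Equiv
open EndPerm EndTw

set_option Elab.async false

theorem P1_e : ∀ u ∈ P1, pe * u * pe⁻¹ ∈ P1 := by decide +kernel
theorem P1_e' : ∀ u ∈ P1, pe⁻¹ * u * pe ∈ P1 := by decide +kernel
theorem pe_PU : pe ∈ PU := by decide +kernel
theorem P1_S' : ∀ s ∈ PS, ∀ u ∈ P1, s⁻¹ * u * s ∈ P1 := by decide +kernel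

/-- the stabiliser of `0` in `S₄` -/
def S3L : Finset (Perm (Fin 4)) :=
  {1, swap 1 2 * swap 2 3, swap 1 2 * swap 2 3 * (swap 1 2 * swap 2 3), swap 2 3,
    swap 1 2 * swap 2 3 * swap 2 3, swap 1 2 * swap 2 3 * (swap 1 2 * swap 2 3) * swap 2 3}

theorem S3L_cases (w : Perm (Fin 4)) (hw : w ∈ S3L) : w = 1 ∨ w = swap 1 2 * swap 2 3 ∨
    w = swap 1 2 * swap 2 3 * (swap 1 2 * swap 2 3) ∨ w = swap 2 3 ∨
    w = swap 1 2 * swap 2 3 * swap 2 3 ∨ w = swap 1 2 * swap 2 3 * (swap 1 2 * swap 2 3) * swap 2 3 := by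
  rw [S3L] at hw
  simpa only [Finset.mem_insert, Finset.mem_singleton] using hw

theorem S4_gen : ∀ g : Perm (Fin 4), g 0 = 1 → ∀ q : Perm (Fin 4), q ∈ S3L ∨
    ∃ w1 ∈ S3L, ∃ w2 ∈ S3L, q = w1 * g * w2 := by decide +kernel

/-- the normaliser of `P1` -/
def N48 : Finset (Perm (Fin 6)) := (P1 ×ˢ PS).image fun p => p.1 * p.2

theorem N48_card : N48.card = 48 := by decide +kernel

theorem PS_cases (w : Perm (Fin 6)) (hw : w ∈ PS) : w = 1 ∨ w = ps ∨ w = ps * ps ∨ w = pe ∨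
    w = ps * pe ∨ w = ps * ps * pe := by
  rw [PS] at hw
  simpa only [Finset.mem_insert, Finset.mem_singleton] using hw

theorem PZ_cases (w : Perm (Fin 6)) (hw : w ∈ PZ) : w = 1 ∨ w = pf ∨ w = pz ∨ w = pf * pz := by
  rw [PZ] at hw
  simpa only [Finset.mem_insert, Finset.mem_singleton] using hw

theorem PZ_card : PZ.card = 4 := by decide +kernel

end Cfsg.Agent.OddHalf.D6.SixU.EndFin
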