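import Cfsg.Agent.OddHalf.D6.SixU.BetaEnd2
import Cfsg.Agent.OddHalf.D6.SixU.EndFin3

/-!
# Case (B), the end of pattern beta, part 3: the group `H` of order `3072` and its action on four classes
(ODD D6, `q = 9`, helper751)
-/

set_option autoImplicit false

namespace Cfsg.Agent.OddHalf.D6.SixU.BetaEnd

open Subgroup Equiv
open Cfsg.Agent.OddHalf.D6.Six EndPerm EndFin EndTw Ends0

variable {G : Type*} [Group G] {x : G} {φ : Perm (Fin 6) →* G} {y Y : G}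

/-- `A₁` -/
def A1 {G : Type*} [Group G] (φ : Perm (Fin 6) →* G) : Subgroup G where
  carrier := {g | ∃ u ∈ P1, g = φ u}
  one_mem' := ⟨1, P1_one, (map_one φ).symm⟩
  mul_mem' := by
    rintro _ _ ⟨u, hu, rfl⟩ ⟨w, hw, rfl⟩
    exact ⟨u * w, P1_mul u hu w hw, (map_mul φ u w).symm⟩
  inv_mem' := by
    rintro _ ⟨u, hu, rfl⟩
    exact ⟨u, hu, by rw [← map_inv, P1_inv u hu]⟩

theorem mem_A1 {g : G} : g ∈ A1 φ ↔ ∃ u ∈ P1, g = φ u := Iff.rfl

/-- one inclusion is enough in a finite group -/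
theorem mem_norm_of [Finite G] {K : Subgroup G} {n : G} (h : ∀ k ∈ K, n * k * n⁻¹ ∈ K) :
    n ∈ normalizer (K : Set G) := by
  have h1 : K.map (MulAut.conj n).toMonoidHom = K := by
    apply eq_of_le_of_card_ge
    · rintro _ ⟨k, hk, rfl⟩
      exact h k hk
    · rw [Nat.card_congr (K.equivMapOfInjective (MulAut.conj n).toMonoidHom
        (MulAut.conj n).injective).toEquiv]
  rw [mem_normalizer_iff]
  intro k
  constructor
  · exact h k
  · intro hk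
    rw [← h1] at hk
    obtain ⟨k', hk', h2⟩ := hk
    have h3 : n * k' * n⁻¹ = n * k * n⁻¹ := h2
    have h4 : k' = k := mul_left_cancel (mul_right_cancel h3)
    rwa [← h4]

/-- `H` -/
def HH {G : Type*} [Group G] (x : G) (φ : Perm (Fin 6) →* G) : Subgroup G :=
  normalizer (R x φ : Set G) ⊓ normalizer (A1 φ : Set G)

theorem HH_R {n : G} (hn : n ∈ HH x φ) {r : G} (hr : r ∈ R x φ) : n * r * n⁻¹ ∈ R x φ :=
  (mem_normalizer_iff.1 hn.1 r).1 hr

theorem HH_A {n : G} (hn : n ∈ HH x φ) {u : Perm (Fin 6)} (hu : u ∈ P1) : ∃ w ∈ P1, n * φ u * n⁻¹ = φ w :=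
  (mem_normalizer_iff.1 hn.2 (φ u)).1 ⟨u, hu, rfl⟩

namespace BetaIn

theorem conj_cls (B : BetaIn x φ y Y) {n : G} (hn : n ∈ HH x φ) {d : G} {i : Fin 4} (h : cls x φ y d i) :
    ∃ j, cls x φ y (n * d * n⁻¹) j :=
  B.exists_cls (HH_R hn (B.cls_mem h)) ((B.cls_conj h).trans (isConj_iff.2 ⟨n, rfl⟩))

theorem cls_v (i : Fin 4) : cls x φ y (v x φ y i) i := ⟨1, P1_one, by rw [map_one, mul_one]⟩

theorem cls_same {n : G} (hn : n ∈ HH x φ) {d d' : G} {i j : Fin 4} (h : cls x φ y d i) (h' : cls x φ y d' i)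
    (hj : cls x φ y (n * d * n⁻¹) j) : cls x φ y (n * d' * n⁻¹) j := by
  obtain ⟨u, hu, rfl⟩ := h
  obtain ⟨u', hu', rfl⟩ := h'
  obtain ⟨w, hw, h1⟩ := hj
  obtain ⟨t, ht, h2⟩ := HH_A hn (P1_mul u hu u' hu')
  refine ⟨w * t, P1_mul w hw t ht, ?_⟩
  have h3 : φ u * φ (u * u') = φ u' := by rw [← map_mul, ← mul_assoc, P1_sq u hu, one_mul]
  calc n * (v x φ y i * φ u') * n⁻¹ = n * (v x φ y i * (φ u * φ (u * u'))) * n⁻¹ := by rw [h3]
    _ = n * (v x φ y i * φ u) * n⁻¹ * (n * φ (u * u') * n⁻¹) := by group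
    _ = v x φ y j * φ (w * t) := by rw [h1, h2, map_mul, mul_assoc]

open Classical in
/-- the action on the classes -/
noncomputable def tau (B : BetaIn x φ y Y) (n : HH x φ) (i : Fin 4) : Fin 4 :=
  (B.conj_cls n.2 (cls_v i)).choose

theorem tau_spec (B : BetaIn x φ y Y) (n : HH x φ) (i : Fin 4) :
    cls x φ y ((n : G) * v x φ y i * (n : G)⁻¹) (B.tau n i) :=
  (B.conj_cls n.2 (cls_v i)).choose_spec

theorem tau_eq (B : BetaIn x φ y Y) (n : HH x φ) {d : G} {i j : Fin 4} (hd : cls x φ y d i)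
    (h : cls x φ y ((n : G) * d * (n : G)⁻¹) j) : B.tau n i = j :=
  B.cls_unique (cls_same n.2 (cls_v i) hd (B.tau_spec n i)) h

theorem tau_spec' (B : BetaIn x φ y Y) (n : HH x φ) {d : G} {i : Fin 4} (hd : cls x φ y d i) :
    cls x φ y ((n : G) * d * (n : G)⁻¹) (B.tau n i) :=
  cls_same n.2 (cls_v i) hd (B.tau_spec n i)

/-- the action as a homomorphism -/
noncomputable def psi (B : BetaIn x φ y Y) : HH x φ →* Perm (Fin 4) :=
  MonoidHom.toHomPerm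
    { toFun := fun n => (B.tau n : Fin 4 → Fin 4)
      map_one' := by
        funext i
        apply B.tau_eq 1 (cls_v i)
        have : ((1 : HH x φ) : G) * v x φ y i * ((1 : HH x φ) : G)⁻¹ = v x φ y i := by simp
        rw [this]
        exact cls_v i
      map_mul' := by
        intro n m
        funext i
        apply B.tau_eq (n * m) (cls_v i)
        have : ((n * m : HH x φ) : G) * v x φ y i * ((n * m : HH x φ) : G)⁻¹ =
            (n : G) * ((m : G) * v x φ y i * (m : G)⁻¹) * (n : G)⁻¹ := by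
          show ((n : G) * (m : G)) * v x φ y i * ((n : G) * (m : G))⁻¹ = _
          group
        rw [this]
        exact B.tau_spec' n (B.tau_spec m i) }

theorem psi_apply (B : BetaIn x φ y Y) (n : HH x φ) (i : Fin 4) : B.psi n i = B.tau n i := rfl

/-- elements of `R` do not change the action on `x` -/
theorem act_R (B : BetaIn x φ y Y) {r d : G} (hr : r ∈ R x φ) (hd : d ∈ R x φ) {u : Perm (Fin 6)} (hu : u ∈ P1)
    (h : d * x * d⁻¹ = x * φ u) : (r * d * r⁻¹) * x * (r * d * r⁻¹)⁻¹ = x * φ u := by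
  obtain ⟨w, hw, h1⟩ := hr.2
  have h2 : r⁻¹ * x * r⁻¹⁻¹ = x * φ w := by
    obtain ⟨t, ht, h3⟩ := ((R x φ).inv_mem hr).2
    have h4 := B.act_mul hr.1 ht h1 h3
    have h5 : x * φ 1 = x * φ (w * t) := by
      rw [← h4, mul_inv_cancel, map_one]; simp
    have h6 : 1 = w * t := B.inj (mul_left_cancel h5)
    have h7 : w = t := by
      calc w = w * (w * t) := by rw [← h6, mul_one]
        _ = t := by rw [← mul_assoc, P1_sq w hw, one_mul]
    rw [h3, h7]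
  have h3 := B.act_mul hr.1 hu h1 h
  have h4 := B.act_mul ((R x φ).mul_mem hr hd).1 hw h3 h2
  rw [h4]
  congr 2
  rw [mul_assoc, P1_comm u hu w hw, ← mul_assoc, P1_sq w hw, one_mul]

theorem R_le (B : BetaIn x φ y Y) : R x φ ≤ HH x φ := by
  intro r hr
  refine ⟨le_normalizer hr, ?_⟩
  show r ∈ normalizer (A1 φ : Set G)
  rw [mem_normalizer_iff]
  intro g
  constructor
  · rintro ⟨u, hu, rfl⟩
    exact ⟨u, hu, by rw [hr.1 u hu]; group⟩
  · rintro ⟨u, hu, h⟩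
    refine ⟨u, hu, ?_⟩
    calc g = r⁻¹ * (r * g * r⁻¹) * r := by group
      _ = r⁻¹ * (φ u * r) := by rw [h]; group
      _ = φ u := by rw [← hr.1 u hu]; group

theorem psi_R (B : BetaIn x φ y Y) {r : G} (hr : r ∈ R x φ) (hrH : r ∈ HH x φ) : B.psi ⟨r, hrH⟩ = 1 := by
  ext1 i
  rw [psi_apply]
  have h1 := B.tau_spec ⟨r, hrH⟩ i
  have h2 := B.cls_act h1
  have h3 := B.act_R hr (B.vmem i) (fi_mem i) (B.v_act i)
  have h4 : x * φ (fi i) = x * φ (fi (B.tau ⟨r, hrH⟩ i)) := by rw [← h3, ← h2]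
  exact (fi_inj (B.inj (mul_left_cancel h4))).symm

/-- `φ s`, `s` normalising `P1`, lies in `H` -/
theorem phi_mem (B : BetaIn x φ y Y) {s : Perm (Fin 6)} (hs : ∀ u ∈ P1, s * u * s⁻¹ ∈ P1)
    (hs' : ∀ u ∈ P1, s⁻¹ * u * s ∈ P1) : φ s ∈ HH x φ := by
  refine ⟨?_, ?_⟩
  · show φ s ∈ normalizer (R x φ : Set G)
    rw [mem_normalizer_iff]
    intro r
    constructor
    · exact B.norm_R hs hs'
    · intro hr
      have h := B.norm_R (s := s⁻¹) (by simpa using hs') (by simpa using hs) hr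
      rw [map_inv] at h
      have e : (φ s)⁻¹ * (φ s * r * (φ s)⁻¹) * ((φ s)⁻¹)⁻¹ = r := by group
      rwa [e] at h
  · show φ s ∈ normalizer (A1 φ : Set G)
    rw [mem_normalizer_iff]
    intro g
    constructor
    · rintro ⟨u, hu, rfl⟩
      exact ⟨_, hs u hu, by rw [map_mul, map_mul, map_inv]⟩
    · rintro ⟨u, hu, h⟩
      refine ⟨_, hs' u hu, ?_⟩
      rw [map_mul, map_mul, map_inv, ← h]; group

theorem ps_mem (B : BetaIn x φ y Y) : φ ps ∈ HH x φ := B.phi_mem P1_s P1_s'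

theorem pe_mem (B : BetaIn x φ y Y) : φ pe ∈ HH x φ := B.phi_mem P1_e P1_e'

theorem y_pe (B : BetaIn x φ y Y) : φ pe * y * (φ pe)⁻¹ = y := by
  rw [← B.yu pe pe_PU]; group

/-- `σ` acts as `(1 2 3)` -/
theorem psi_ps (B : BetaIn x φ y Y) : B.psi ⟨φ ps, B.ps_mem⟩ = swap 1 2 * swap 2 3 := by
  have h3 : φ ps * φ ps * φ ps = 1 := by rw [← map_mul, ← map_mul, sss, map_one]
  have h4 : φ ps⁻¹ = φ ps * φ ps := by
    rw [map_inv]; exact inv_eq_of_mul_eq_one_right (by rw [← mul_assoc]; exact h3)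
  ext1 i
  rw [psi_apply]
  apply B.tau_eq _ (cls_v i)
  show cls x φ y (φ ps * v x φ y i * (φ ps)⁻¹) _
  rw [← map_inv]
  fin_cases i
  · show cls x φ y (φ ps * x * φ ps⁻¹) 0
    refine ⟨1, P1_one, ?_⟩
    rw [← B.comm, map_inv, map_one]
    show _ = x * 1
    group
  · show cls x φ y (φ ps * y * φ ps⁻¹) 2
    exact cls_v 2
  · show cls x φ y (φ ps * (φ ps * y * φ ps⁻¹) * φ ps⁻¹) 3
    refine ⟨1, P1_one, ?_⟩
    show _ = φ ps⁻¹ * y * φ ps * φ 1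
    rw [map_one, mul_one]
    have h5 : φ ps = φ ps⁻¹ * φ ps⁻¹ := by
      rw [← map_mul, ← mul_inv_rev, ← pow_two]
      congr 1
      rw [eq_inv_iff_mul_eq_one, pow_two, ← mul_assoc]; exact sss
    calc φ ps * (φ ps * y * φ ps⁻¹) * φ ps⁻¹ = (φ ps * φ ps) * y * (φ ps⁻¹ * φ ps⁻¹) := by group
      _ = φ ps⁻¹ * y * φ ps := by rw [← h4, ← h5]
  · show cls x φ y (φ ps * (φ ps⁻¹ * y * φ ps) * φ ps⁻¹) 1
    refine ⟨1, P1_one, ?_⟩
    show _ = y * φ 1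
    rw [map_one, map_inv]; group

/-- `e` acts as `(2 3)` -/
theorem psi_pe (B : BetaIn x φ y Y) : B.psi ⟨φ pe, B.pe_mem⟩ = swap 2 3 := by
  have h1 : φ pe * φ ps * (φ pe)⁻¹ = φ ps⁻¹ := by rw [← map_inv, ← map_mul, ← map_mul, es]
  have h1' : φ pe * φ ps⁻¹ * (φ pe)⁻¹ = φ ps := by
    rw [← map_inv, ← map_mul, ← map_mul]
    congr 1
    calc pe * ps⁻¹ * pe⁻¹ = (pe * ps * pe⁻¹)⁻¹ := by group
      _ = ps := by rw [es, inv_inv]
  ext1 i
  rw [psi_apply]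
  apply B.tau_eq _ (cls_v i)
  show cls x φ y (φ pe * v x φ y i * (φ pe)⁻¹) _
  fin_cases i
  · show cls x φ y (φ pe * x * (φ pe)⁻¹) 0
    refine ⟨1, P1_one, ?_⟩
    rw [← B.comm, map_one]
    show _ = x * 1
    group
  · show cls x φ y (φ pe * y * (φ pe)⁻¹) 1
    rw [B.y_pe]; exact cls_v 1
  · show cls x φ y (φ pe * (φ ps * y * φ ps⁻¹) * (φ pe)⁻¹) 3
    refine ⟨1, P1_one, ?_⟩
    show _ = φ ps⁻¹ * y * φ ps * φ 1
    rw [map_one, mul_one]
    calc φ pe * (φ ps * y * φ ps⁻¹) * (φ pe)⁻¹ = (φ pe * φ ps * (φ pe)⁻¹) * (φ pe * y * (φ pe)⁻¹) *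
          (φ pe * φ ps⁻¹ * (φ pe)⁻¹) := by group
      _ = φ ps⁻¹ * y * φ ps := by rw [h1, h1', B.y_pe]
  · show cls x φ y (φ pe * (φ ps⁻¹ * y * φ ps) * (φ pe)⁻¹) 2
    refine ⟨1, P1_one, ?_⟩
    show _ = φ ps * y * φ ps⁻¹ * φ 1
    rw [map_one, mul_one]
    calc φ pe * (φ ps⁻¹ * y * φ ps) * (φ pe)⁻¹ = (φ pe * φ ps⁻¹ * (φ pe)⁻¹) * (φ pe * y * (φ pe)⁻¹) *
          (φ pe * φ ps * (φ pe)⁻¹) := by group
      _ = φ ps * y * φ ps⁻¹ := by rw [h1, h1', B.y_pe]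

/-- the growth element lies in `H` -/
theorem exists_gH [Finite G] (B : BetaIn x φ y Y) : ∃ g ∈ HH x φ, g * x * g⁻¹ = y := by
  obtain ⟨g, hg, hA⟩ := B.exists_g
  have h1 : g⁻¹ ∈ normalizer (A1 φ : Set G) := by
    apply mem_norm_of
    rintro _ ⟨u, hu, rfl⟩
    obtain ⟨w, hw, h⟩ := hA u hu
    exact ⟨w, hw, by rw [← h]; group⟩
  have h1' : g ∈ normalizer (A1 φ : Set G) := by
    have := (normalizer (A1 φ : Set G)).inv_mem h1
    rwa [inv_inv] at this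
  have h2 : g⁻¹ ∈ normalizer (R x φ : Set G) := by
    apply mem_norm_of
    intro r hr
    refine ⟨?_, ?_⟩
    · intro u hu
      obtain ⟨w, hw, h3⟩ := (mem_normalizer_iff.1 h1' (φ u)).1 ⟨u, hu, rfl⟩
      calc g⁻¹ * r * g⁻¹⁻¹ * φ u = g⁻¹ * (r * (g * φ u * g⁻¹)) * g := by group
        _ = g⁻¹ * (φ w * r) * g := by rw [h3, hr.1 w hw]
        _ = g⁻¹ * (g * φ u * g⁻¹ * r) * g := by rw [← h3]
        _ = φ u * (g⁻¹ * r * g⁻¹⁻¹) := by group
    · have h3 := B.act_R hr B.ymem (by decide +kernel) B.yx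
      obtain ⟨j, hj⟩ := B.exists_cls (d := r * y * r⁻¹)
        ((R x φ).mul_mem ((R x φ).mul_mem hr B.ymem) ((R x φ).inv_mem hr))
        ((isConj_iff.2 ⟨g, hg⟩ : IsConj x y).trans (isConj_iff.2 ⟨r, rfl⟩))
      have h4 := B.cls_act hj
      rw [h3] at h4
      have h5 : fi 1 = fi j := B.inj (mul_left_cancel h4)
      obtain ⟨t, ht, h6⟩ := fi_inj h5 ▸ hj
      have h6' : r * y * r⁻¹ = y * φ t := h6
      obtain ⟨w, hw, h7⟩ := hA t ht
      refine ⟨w, hw, ?_⟩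
      calc g⁻¹ * r * g⁻¹⁻¹ * x * (g⁻¹ * r * g⁻¹⁻¹)⁻¹ = g⁻¹ * (r * (g * x * g⁻¹) * r⁻¹) * g := by group
        _ = g⁻¹ * (y * φ t) * g := by rw [hg, h6']
        _ = (g⁻¹ * (g * x * g⁻¹) * g) * (g⁻¹ * φ t * g) := by rw [hg]; group
        _ = x * φ w := by rw [h7]; group
  refine ⟨g, ⟨?_, h1'⟩, hg⟩
  have := (normalizer (R x φ : Set G)).inv_mem h2
  rwa [inv_inv] at this

theorem psi_surj [Finite G] (B : BetaIn x φ y Y) : Function.Surjective B.psi := by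
  obtain ⟨g, hg, hx⟩ := B.exists_gH
  have h0 : B.psi ⟨g, hg⟩ 0 = 1 := by
    rw [psi_apply]
    apply B.tau_eq _ (cls_v 0)
    show cls x φ y (g * x * g⁻¹) 1
    rw [hx]; exact cls_v 1
  rw [← MonoidHom.range_eq_top]
  have hs : swap 1 2 * swap 2 3 ∈ B.psi.range := ⟨_, B.psi_ps⟩
  have he : swap 2 3 ∈ B.psi.range := ⟨_, B.psi_pe⟩
  have hg' : B.psi ⟨g, hg⟩ ∈ B.psi.range := ⟨_, rfl⟩
  have h3 : ∀ w ∈ S3L, w ∈ B.psi.range := by
    intro w hw
    rcases S3L_cases w hw with rfl | rfl | rfl | rfl | rfl | rfl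
    · exact one_mem _
    · exact hs
    · exact mul_mem hs hs
    · exact he
    · exact mul_mem hs he
    · exact mul_mem (mul_mem hs hs) he
  rw [eq_top_iff]
  intro q _
  rcases S4_gen _ h0 q with h | ⟨w1, hw1, w2, hw2, h⟩
  · exact h3 q h
  · rw [h]
    exact mul_mem (mul_mem (h3 _ hw1) hg') (h3 _ hw2)

end BetaIn

end Cfsg.Agent.OddHalf.D6.SixU.BetaEnd
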