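import Cfsg.Agent.OddHalf.D6.SixU.BetaEnd3

/-!
# Case (B), the end of pattern beta, part 4: the count (ODD D6, `q = 9`, helper751)
-/

set_option autoImplicit false

namespace Cfsg.Agent.OddHalf.D6.SixU.BetaEnd.BetaIn

open Subgroup Equiv
open Cfsg.Agent.OddHalf.D6.Six EndPerm EndFin EndTw Ends0

variable {G : Type*} [Group G] {x : G} {φ : Perm (Fin 6) →* G} {y Y : G}

/-- the elements of `H ∩ C(x)` -/
theorem stab_mem (B : BetaIn x φ y Y) {n : G} (hn : n ∈ HH x φ) (hx : n * x = x * n) :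
    ∃ q ∈ P1, ∃ s ∈ PS, n = φ (q * s) ∨ n = x * φ (q * s) := by
  obtain ⟨p, hp⟩ := B.cx n hx
  have key : ∀ u ∈ P1, p * u * p⁻¹ ∈ P1 := by
    intro u hu
    obtain ⟨w, hw, h⟩ := HH_A hn hu
    have h1 : φ (p * u * p⁻¹) = φ w := by
      rw [← h, map_mul, map_mul, map_inv]
      rcases hp with rfl | rfl
      · rfl
      · have h2 : x * (φ p * φ u * (φ p)⁻¹) = (φ p * φ u * (φ p)⁻¹) * x := by
          rw [← map_inv, ← map_mul, ← map_mul, B.comm]
        calc φ p * φ u * (φ p)⁻¹ = (φ p * φ u * (φ p)⁻¹) * x * x⁻¹ := by group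
          _ = x * (φ p * φ u * (φ p)⁻¹) * x⁻¹ := by rw [h2]
          _ = x * φ p * φ u * (x * φ p)⁻¹ := by group
    rw [B.inj h1]; exact hw
  obtain ⟨q, hq, s, hs, rfl⟩ := norm_P1 p (key pf (by decide +kernel)) (key pz (by decide +kernel))
    (key pa (by decide +kernel))
  exact ⟨q, hq, s, hs, hp⟩

theorem S_mem (B : BetaIn x φ y Y) {s : Perm (Fin 6)} (hs : s ∈ PS) : φ s ∈ HH x φ :=
  B.phi_mem (P1_S s hs) (P1_S' s hs)

theorem card_stab [Finite G] (B : BetaIn x φ y Y) :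
    Nat.card (HH x φ ⊓ centralizer {x} : Subgroup G) = 96 := by
  classical
  have hmem : ∀ (b : Bool) (p : Perm (Fin 6)), p ∈ N48 →
      (if b then x else 1) * φ p ∈ HH x φ ⊓ centralizer {x} := by
    intro b p hp
    obtain ⟨⟨q, s⟩, hqs, rfl⟩ := Finset.mem_image.1 hp
    obtain ⟨hq, hs⟩ := Finset.mem_product.1 hqs
    have h1 : φ (q * s) ∈ HH x φ := by
      rw [map_mul]; exact (HH x φ).mul_mem (B.R_le (B.amem hq)) (B.S_mem hs)
    have h2 : φ (q * s) ∈ centralizer ({x} : Set G) := mem_centralizer_singleton_iff.2 (B.comm _).symm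
    refine mul_mem ?_ ⟨h1, h2⟩
    cases b
    · simp only [Bool.false_eq_true, if_false]; exact one_mem _
    · simp only [if_true]
      exact ⟨B.R_le B.xmem, mem_centralizer_singleton_iff.2 rfl⟩
  let e : Bool × N48 ≃ (HH x φ ⊓ centralizer {x} : Subgroup G) := Equiv.ofBijective
    (fun b => ⟨(if b.1 then x else 1) * φ b.2, hmem b.1 b.2 b.2.2⟩) (by
    constructor
    · rintro ⟨b, p, hp⟩ ⟨c, q, hq⟩ h
      have h1 : (if b then x else 1) * φ p = (if c then x else 1) * φ q := congrArg Subtype.val h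
      cases b <;> cases c
      · simp only [Bool.false_eq_true, if_false, one_mul] at h1
        have := B.inj h1
        subst this; rfl
      · simp only [Bool.false_eq_true, if_false, one_mul, if_true] at h1
        exact absurd h1 (B.ne p q)
      · simp only [Bool.false_eq_true, if_false, one_mul, if_true] at h1
        exact absurd h1.symm (B.ne q p)
      · simp only [if_true] at h1
        have := B.mul_inj h1
        subst this; rfl
    · rintro ⟨n, hn, hx⟩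
      obtain ⟨q, hq, s, hs, h | h⟩ := B.stab_mem hn (mem_centralizer_singleton_iff.1 hx)
      · exact ⟨(false, ⟨q * s, Finset.mem_image.2 ⟨(q, s), Finset.mem_product.2 ⟨hq, hs⟩, rfl⟩⟩),
          Subtype.ext (by simp [h])⟩
      · exact ⟨(true, ⟨q * s, Finset.mem_image.2 ⟨(q, s), Finset.mem_product.2 ⟨hq, hs⟩, rfl⟩⟩),
          Subtype.ext (by simp [h])⟩)
  rw [← Nat.card_congr e, Nat.card_prod, Nat.card_eq_fintype_card, Nat.card_eq_fintype_card]
  simp [N48_card]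

/-- every translation is induced in `R` -/
theorem exists_rep (B : BetaIn x φ y Y) {u : Perm (Fin 6)} (hu : u ∈ P1) :
    ∃ r ∈ R x φ, r * x * r⁻¹ = x * φ u := by
  have hc : ∀ s w : Perm (Fin 6), (∀ u ∈ P1, s * u * s⁻¹ ∈ P1) → (∀ u ∈ P1, s⁻¹ * u * s ∈ P1) →
      (∃ r ∈ R x φ, r * x * r⁻¹ = x * φ w) → ∃ r ∈ R x φ, r * x * r⁻¹ = x * φ (s * w * s⁻¹) := by
    rintro s w h1 h2 ⟨r, hr, h3⟩
    exact ⟨_, B.norm_R h1 h2 hr, B.act_conj h3⟩
  have hc' : ∀ w : Perm (Fin 6), (∃ r ∈ R x φ, r * x * r⁻¹ = x * φ w) →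
      ∃ r ∈ R x φ, r * x * r⁻¹ = x * φ (ps⁻¹ * w * ps) := by
    intro w h
    have := hc ps⁻¹ w (by simpa using P1_s') (by simpa using P1_s) h
    rwa [inv_inv] at this
  have h1 : ∃ r ∈ R x φ, r * x * r⁻¹ = x * φ pf := ⟨y, B.ymem, B.yx⟩
  have h2 : ∃ r ∈ R x φ, r * x * r⁻¹ = x * φ pz := ⟨_, (R x φ).mul_mem B.ymem B.Ymem, B.yY_act⟩
  rcases P1_cases u hu with rfl | rfl | rfl | rfl | rfl | rfl | rfl | rfl
  · exact ⟨1, (R x φ).one_mem, by simp⟩
  · exact h1
  · exact hc ps pf P1_s P1_s' h1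
  · exact hc' pf h1
  · exact ⟨Y, B.Ymem, B.Yx⟩
  · exact h2
  · exact hc ps pz P1_s P1_s' h2
  · exact hc' pz h2

theorem orbit_eq [Finite G] (B : BetaIn x φ y Y) :
    {d : G | ∃ h ∈ HH x φ, h * x * h⁻¹ = d} = {d : G | ∃ i, cls x φ y d i} := by
  ext d
  constructor
  · rintro ⟨h, hh, rfl⟩
    exact B.conj_cls hh (cls_v 0)
  · rintro ⟨i, u, hu, rfl⟩
    obtain ⟨g, hg, hx⟩ := B.exists_gH
    have h0 : ∀ u ∈ P1, ∃ h ∈ HH x φ, h * x * h⁻¹ = x * φ u := by
      intro u hu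
      obtain ⟨r, hr, h⟩ := B.exists_rep hu
      exact ⟨r, B.R_le hr, h⟩
    have h1 : ∀ u ∈ P1, ∃ h ∈ HH x φ, h * x * h⁻¹ = y * φ u := by
      intro u hu
      obtain ⟨w, hw, h2⟩ := HH_A ((HH x φ).inv_mem hg) hu
      obtain ⟨r, hr, h⟩ := h0 w hw
      refine ⟨g * r, (HH x φ).mul_mem hg hr, ?_⟩
      calc g * r * x * (g * r)⁻¹ = g * (r * x * r⁻¹) * g⁻¹ := by group
        _ = g * x * g⁻¹ * (g * φ w * g⁻¹) := by rw [h]; group
        _ = y * φ u := by rw [hx, ← h2]; group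
    have hc : ∀ s : Perm (Fin 6), (∀ u ∈ P1, s * u * s⁻¹ ∈ P1) → (∀ u ∈ P1, s⁻¹ * u * s ∈ P1) →
        ∃ h ∈ HH x φ, h * x * h⁻¹ = φ s * y * (φ s)⁻¹ * φ u := by
      intro s hs hs'
      obtain ⟨h, hh, h2⟩ := h1 _ (hs' u hu)
      refine ⟨φ s * h, (HH x φ).mul_mem (B.phi_mem hs hs') hh, ?_⟩
      calc φ s * h * x * (φ s * h)⁻¹ = φ s * (h * x * h⁻¹) * (φ s)⁻¹ := by group
        _ = φ s * y * (φ s)⁻¹ * φ u := by rw [h2, map_mul, map_mul, map_inv]; group
    fin_cases i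
    · exact h0 u hu
    · exact h1 u hu
    · have := hc ps P1_s P1_s'
      rwa [← map_inv] at this
    · have := hc ps⁻¹ (by simpa using P1_s') (by simpa using P1_s)
      rwa [map_inv, inv_inv, ← map_inv] at this

theorem ncard_cls [Finite G] (B : BetaIn x φ y Y) : {d : G | ∃ i, cls x φ y d i}.ncard = 32 := by
  classical
  let f : Fin 4 × P1 → G := fun p => v x φ y p.1 * φ p.2
  have hf : Function.Injective f := by
    rintro ⟨i, u, hu⟩ ⟨j, w, hw⟩ h
    have h' : v x φ y i * φ u = v x φ y j * φ w := h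
    have hij : i = j := B.cls_unique (d := v x φ y i * φ u) ⟨u, hu, rfl⟩ ⟨w, hw, h'⟩
    subst hij
    have := B.inj (mul_left_cancel h')
    subst this; rfl
  have h1 : {d : G | ∃ i, cls x φ y d i} = Set.range f := by
    ext d
    constructor
    · rintro ⟨i, u, hu, rfl⟩
      exact ⟨(i, ⟨u, hu⟩), rfl⟩
    · rintro ⟨⟨i, u, hu⟩, rfl⟩
      exact ⟨i, u, hu, rfl⟩
  rw [h1, ← Nat.card_coe_set_eq, ← Nat.card_congr (Equiv.ofInjective f hf), Nat.card_prod,
    Nat.card_eq_fintype_card, Nat.card_eq_fintype_card]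
  simp [P1_card]

theorem card_HH [Finite G] (B : BetaIn x φ y Y) : Nat.card (HH x φ) = 3072 := by
  rw [Parity.card_orbit x (HH x φ), B.card_stab, B.orbit_eq, B.ncard_cls]

theorem psi_mul_R (B : BetaIn x φ y Y) {r n : G} (hr : r ∈ R x φ) (hn : n ∈ HH x φ) (h : r * n ∈ HH x φ) :
    B.psi ⟨r * n, h⟩ = B.psi ⟨n, hn⟩ := by
  have : (⟨r * n, h⟩ : HH x φ) = ⟨r, B.R_le hr⟩ * ⟨n, hn⟩ := rfl
  rw [this, map_mul, B.psi_R hr, one_mul]

/-- the elements of `H` which act as `(2 3)` and in the same way as `r ∈ R` on `x` -/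
theorem fibre_mem (B : BetaIn x φ y Y) {d r : G} (hd : d ∈ HH x φ) (hpsi : B.psi ⟨d, hd⟩ = swap 2 3)
    (hr : r ∈ R x φ) (h : r * x * r⁻¹ = d * x * d⁻¹) :
    ∃ q ∈ P1, d = r * φ (q * pe) ∨ d = r * (x * φ (q * pe)) := by
  have h1 : r⁻¹ * d ∈ HH x φ := (HH x φ).mul_mem ((HH x φ).inv_mem (B.R_le hr)) hd
  have h2 : r⁻¹ * d * x = x * (r⁻¹ * d) := by
    calc r⁻¹ * d * x = r⁻¹ * (d * x * d⁻¹) * d := by group
      _ = x * (r⁻¹ * d) := by rw [← h]; group
  have h3 : B.psi ⟨r⁻¹ * d, h1⟩ = swap 2 3 := by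
    rw [B.psi_mul_R ((R x φ).inv_mem hr) hd h1, hpsi]
  obtain ⟨q, hq, s, hs, h4⟩ := B.stab_mem h1 h2
  have h5 : B.psi ⟨φ s, B.S_mem hs⟩ = swap 2 3 := by
    rw [← h3]
    rcases h4 with h4 | h4
    · have h6 : φ q * φ s ∈ HH x φ := by rw [← map_mul, ← h4]; exact h1
      have h7 : (⟨r⁻¹ * d, h1⟩ : HH x φ) = ⟨φ q * φ s, h6⟩ := Subtype.ext (by
        show r⁻¹ * d = φ q * φ s
        rw [h4, map_mul])
      rw [h7, B.psi_mul_R (B.amem hq) (B.S_mem hs) h6]
    · have h6 : (x * φ q) * φ s ∈ HH x φ := by rw [mul_assoc, ← map_mul, ← h4]; exact h1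
      have h7 : (⟨r⁻¹ * d, h1⟩ : HH x φ) = ⟨(x * φ q) * φ s, h6⟩ := Subtype.ext (by
        show r⁻¹ * d = (x * φ q) * φ s
        rw [h4, map_mul, mul_assoc])
      rw [h7, B.psi_mul_R ((R x φ).mul_mem B.xmem (B.amem hq)) (B.S_mem hs) h6]
  have h6 : s = pe := by
    have e1 : B.psi ⟨φ ps, B.ps_mem⟩ = swap 1 2 * swap 2 3 := B.psi_ps
    have e2 : B.psi ⟨φ pe, B.pe_mem⟩ = swap 2 3 := B.psi_pe
    have em : ∀ (a b : Perm (Fin 6)) (ha : φ a ∈ HH x φ) (hb : φ b ∈ HH x φ) (hab : φ (a * b) ∈ HH x φ),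
        B.psi ⟨φ (a * b), hab⟩ = B.psi ⟨φ a, ha⟩ * B.psi ⟨φ b, hb⟩ := by
      intro a b ha hb hab
      rw [← map_mul]
      congr 1
      exact Subtype.ext (map_mul φ a b)
    have e3 : B.psi ⟨φ 1, B.S_mem (by decide +kernel)⟩ = 1 := by
      have : (⟨φ 1, B.S_mem (by decide +kernel)⟩ : HH x φ) = 1 := Subtype.ext (map_one φ)
      rw [this, map_one]
    have e4 : B.psi ⟨φ (ps * ps), B.S_mem (by decide +kernel)⟩ =
        swap 1 2 * swap 2 3 * (swap 1 2 * swap 2 3) := by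
      rw [em ps ps B.ps_mem B.ps_mem, e1]
    rcases PS_cases s hs with rfl | rfl | rfl | rfl | rfl | rfl
    · rw [e3] at h5; exact absurd h5 (by decide +kernel)
    · rw [e1] at h5; exact absurd h5 (by decide +kernel)
    · rw [e4] at h5; exact absurd h5 (by decide +kernel)
    · rfl
    · rw [em ps pe B.ps_mem B.pe_mem, e1, e2] at h5; exact absurd h5 (by decide +kernel)
    · rw [em (ps * ps) pe (B.S_mem (by decide +kernel)) B.pe_mem, e4, e2] at h5
      exact absurd h5 (by decide +kernel)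
  rw [h6] at h4
  refine ⟨q, hq, ?_⟩
  rcases h4 with h4 | h4
  · left; rw [← h4]; group
  · right; rw [← h4]; group

/-- the representatives of the cosets containing the conjugates acting as `(2 3)` -/
def wk (x y Y : G) : Fin 4 → G := ![x, y, Y * x, y * Y]

def ck : Fin 4 → Perm (Fin 6) := ![1, pf, pf * pz, pz]

theorem ck_inj : Function.Injective ck := by decide +kernel

theorem wk_mem (B : BetaIn x φ y Y) (k : Fin 4) : wk x y Y k ∈ R x φ := by
  fin_cases k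
  · exact B.xmem
  · exact B.ymem
  · exact (R x φ).mul_mem B.Ymem B.xmem
  · exact (R x φ).mul_mem B.ymem B.Ymem

theorem wk_act (B : BetaIn x φ y Y) (k : Fin 4) : wk x y Y k * x * (wk x y Y k)⁻¹ = x * φ (ck k) := by
  fin_cases k
  · show x * x * x⁻¹ = x * φ 1
    simp
  · exact B.yx
  · show Y * x * x * (Y * x)⁻¹ = x * φ (pf * pz)
    rw [← B.Yx]; group
  · exact B.yY_act

theorem ncard_fibre [Finite G] (B : BetaIn x φ y Y) :
    {d : G | IsConj x d ∧ ∃ h : d ∈ HH x φ, B.psi ⟨d, h⟩ = swap 2 3}.ncard = 16 := by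
  classical
  let f : Fin 4 × PZ → G := fun p => wk x y Y p.1 * φ (p.2 * pe)
  have hact : ∀ (k : Fin 4) (u : Perm (Fin 6)), (wk x y Y k * φ u) * x * (wk x y Y k * φ u)⁻¹ = x * φ (ck k) := by
    intro k u
    rw [← B.wk_act k]
    calc wk x y Y k * φ u * x * (wk x y Y k * φ u)⁻¹ = wk x y Y k * (φ u * x) * (φ u)⁻¹ * (wk x y Y k)⁻¹ := by group
      _ = wk x y Y k * x * (wk x y Y k)⁻¹ := by rw [← B.comm]; group
  have hf : Function.Injective f := by
    rintro ⟨i, u, hu⟩ ⟨j, w, hw⟩ h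
    have h' : wk x y Y i * φ (u * pe) = wk x y Y j * φ (w * pe) := h
    have hij : i = j := by
      have h1 := hact i (u * pe)
      rw [h', hact j] at h1
      exact (ck_inj (B.inj (mul_left_cancel h1))).symm
    subst hij
    have := mul_right_cancel (B.inj (mul_left_cancel h'))
    subst this; rfl
  have h1 : {d : G | IsConj x d ∧ ∃ h : d ∈ HH x φ, B.psi ⟨d, h⟩ = swap 2 3} = Set.range f := by
    ext d
    constructor
    · rintro ⟨hc, hd, hpsi⟩
      -- the action on `x`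
      have h0 : B.tau ⟨d, hd⟩ 0 = 0 := by
        have : B.psi ⟨d, hd⟩ 0 = 0 := by rw [hpsi]; decide +kernel
        rwa [psi_apply] at this
      have h1 := B.tau_spec ⟨d, hd⟩ 0
      rw [h0] at h1
      obtain ⟨u, hu, h2⟩ := h1
      have h2' : d * x * d⁻¹ = x * φ u := h2
      obtain ⟨r, hr, hrx⟩ := B.exists_rep hu
      obtain ⟨q, hq, h3⟩ := B.fibre_mem hd hpsi hr (by rw [hrx, h2'])
      -- `u ∈ Z`
      have hdd : d * d = 1 := by
        obtain ⟨c, hc⟩ := isConj_iff.1 hc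
        rw [← hc]
        calc c * x * c⁻¹ * (c * x * c⁻¹) = c * (x * x) * c⁻¹ := by group
          _ = 1 := by rw [B.xx]; group
      have hdu : d * φ u * d⁻¹ = φ (pe * u * pe⁻¹) := by
        have h5 : φ (q * pe) * φ u * (φ (q * pe))⁻¹ = φ (pe * u * pe⁻¹) := by
          rw [← map_mul, ← map_inv, ← map_mul]
          congr 1
          have h6 := P1_comm q hq _ (P1_e u hu)
          calc q * pe * u * (q * pe)⁻¹ = q * (pe * u * pe⁻¹) * q⁻¹ := by group
            _ = pe * u * pe⁻¹ := by rw [h6]; group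
        have h7 : r * φ (pe * u * pe⁻¹) * r⁻¹ = φ (pe * u * pe⁻¹) := by
          rw [hr.1 _ (P1_e u hu)]; group
        rcases h3 with h3 | h3
        · rw [h3]
          calc r * φ (q * pe) * φ u * (r * φ (q * pe))⁻¹ = r * (φ (q * pe) * φ u * (φ (q * pe))⁻¹) * r⁻¹ := by group
            _ = φ (pe * u * pe⁻¹) := by rw [h5, h7]
        · rw [h3]
          calc r * (x * φ (q * pe)) * φ u * (r * (x * φ (q * pe)))⁻¹
              = r * (x * (φ (q * pe) * φ u * (φ (q * pe))⁻¹) * x⁻¹) * r⁻¹ := by group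
            _ = r * φ (pe * u * pe⁻¹) * r⁻¹ := by rw [h5, B.comm]; group
            _ = φ (pe * u * pe⁻¹) := h7
      have huZ : u ∈ PZ := by
        apply e_PZ u hu
        have h5 : d * (d * x * d⁻¹) * d⁻¹ = x := by
          calc d * (d * x * d⁻¹) * d⁻¹ = (d * d) * x * (d * d)⁻¹ := by group
            _ = x := by rw [hdd]; group
        have h6 : d * (d * x * d⁻¹) * d⁻¹ = x * φ (u * (pe * u * pe⁻¹)) := by
          rw [h2']
          calc d * (x * φ u) * d⁻¹ = (d * x * d⁻¹) * (d * φ u * d⁻¹) := by group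
            _ = x * φ (u * (pe * u * pe⁻¹)) := by
              rw [h2', hdu, map_mul φ u (pe * u * pe⁻¹), mul_assoc]
        rw [h5] at h6
        have h7 : φ (u * (pe * u * pe⁻¹)) = φ 1 := by
          rw [map_one]; exact (mul_eq_left.1 h6.symm)
        have h8 := B.inj h7
        calc pe * u * pe⁻¹ = (u * u) * (pe * u * pe⁻¹) := by rw [P1_sq u hu, one_mul]
          _ = u * (u * (pe * u * pe⁻¹)) := by group
          _ = u := by rw [h8, mul_one]
      have fin : ∀ r : G, r ∈ R x φ → r * x * r⁻¹ = x * φ u →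
          ∃ q ∈ P1, d = r * φ (q * pe) ∨ d = r * (x * φ (q * pe)) :=
        fun r hr h => B.fibre_mem hd hpsi hr (by rw [h, h2'])
      rcases PZ_cases u huZ with rfl | rfl | rfl | rfl
      · obtain ⟨q, hq, h4 | h4⟩ := fin 1 (R x φ).one_mem (by simp)
        · rw [one_mul] at h4
          exact absurd (h4 ▸ hc) (B.not_conj_phi _)
        · rw [one_mul] at h4
          refine ⟨(0, ⟨q, sq_PZ q hq ?_⟩), h4.symm⟩
          apply B.inj
          rw [map_mul, map_one]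
          calc φ (q * pe) * φ (q * pe) = x * x * φ (q * pe) * φ (q * pe) := by rw [B.xx, one_mul]
            _ = x * (x * φ (q * pe)) * φ (q * pe) := by group
            _ = x * (φ (q * pe) * x) * φ (q * pe) := by rw [B.comm]
            _ = (x * φ (q * pe)) * (x * φ (q * pe)) := by group
            _ = 1 := by rw [← h4, hdd]
      · obtain ⟨q, hq, h4 | h4⟩ := fin y B.ymem B.yx
        · exact ⟨(1, ⟨q, (B.t7 q hq).1 (h4 ▸ hc)⟩), h4.symm⟩
        · exact absurd (h4 ▸ hc) (B.t8 q hq)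
      · obtain ⟨q, hq, h4 | h4⟩ := fin (y * Y) ((R x φ).mul_mem B.ymem B.Ymem) B.yY_act
        · exact ⟨(3, ⟨q, (B.t11 q hq).1 (h4 ▸ hc)⟩), h4.symm⟩
        · exact absurd (h4 ▸ hc) (B.t12 q hq)
      · obtain ⟨q, hq, h4 | h4⟩ := fin Y B.Ymem B.Yx
        · exact absurd (h4 ▸ hc) (B.t9 q hq)
        · refine ⟨(2, ⟨q, (B.t10 q hq).1 (h4 ▸ hc)⟩), ?_⟩
          show Y * x * φ (q * pe) = d
          rw [h4, mul_assoc]
    · rintro ⟨⟨k, u, hu⟩, rfl⟩
      have hm : φ (u * pe) ∈ HH x φ := by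
        rw [map_mul]; exact (HH x φ).mul_mem (B.R_le (B.amem (PZ_P1 u hu))) B.pe_mem
      refine ⟨?_, (HH x φ).mul_mem (B.R_le (B.wk_mem k)) hm, ?_⟩
      · show IsConj x (wk x y Y k * φ (u * pe))
        fin_cases k
        · exact B.conj_x_phi (sq_PZ' u hu)
        · exact (B.t7 u (PZ_P1 u hu)).2 hu
        · show IsConj x (Y * x * φ (u * pe))
          rw [mul_assoc]; exact (B.t10 u (PZ_P1 u hu)).2 hu
        · exact (B.t11 u (PZ_P1 u hu)).2 hu
      · show B.psi ⟨wk x y Y k * φ (u * pe), _⟩ = swap 2 3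
        rw [B.psi_mul_R (B.wk_mem k) hm]
        have h2 : φ u * φ pe ∈ HH x φ := by rw [← map_mul]; exact hm
        have h3 : (⟨φ (u * pe), hm⟩ : HH x φ) = ⟨φ u * φ pe, h2⟩ := Subtype.ext (map_mul φ u pe)
        rw [h3, B.psi_mul_R (B.amem (PZ_P1 u hu)) B.pe_mem, B.psi_pe]
  rw [h1, ← Nat.card_coe_set_eq, ← Nat.card_congr (Equiv.ofInjective f hf), Nat.card_prod,
    Nat.card_eq_fintype_card, Nat.card_eq_fintype_card]
  simp [PZ_card]

/-- **pattern beta is impossible** -/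
theorem false [Finite G] (hG : ∀ (m : G →* ℤˣ) (g : G), m g = 1) (B : BetaIn x φ y Y) : False := by
  have h := even_of_four hG B.xx (HH x φ) B.psi B.psi_surj B.ncard_fibre (k := 45)
    (by rw [B.card, B.card_HH])
  revert h; decide

end Cfsg.Agent.OddHalf.D6.SixU.BetaEnd.BetaIn
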