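import Cfsg.Agent.OddHalf.D6.SixU.SwapB

/-!
# ODD D6, `C_G(x) = ⟨x⟩ × S₆`, uniform pattern: no element of `N_G(T)` swaps the two `E₁₆` of `T` (helper708)

`no_swap`: `φ(a₀)` and `n φ(a₀) n⁻¹` commute for every `n ∈ N_G(T)`. Proof: helper751's #11768 (2) (c) - (e).
-/

set_option autoImplicit false

namespace Cfsg.Agent.OddHalf.D6.SixU.SwapA

open Subgroup Equiv
open Cfsg.Agent.OddHalf.D6.Six
open Cfsg.Agent.OddHalf.D6.SixU.NT Cfsg.Agent.OddHalf.D6.SixU.TwoE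

section perms

set_option Elab.async false

theorem PP_sq : ∀ p : Perm (Fin 6), PP p → p * p = 1 ∨ p * p = c2 := by decide +kernel

theorem PP_four : ∀ p : Perm (Fin 6), PP p → p * p ≠ 1 → p * a0 = c2 * (a0 * p) ∧
    c2 * (a0 * p) * (c2 * (a0 * p)) = 1 ∧ PP (c2 * (a0 * p)) := by decide +kernel

theorem PP_prod : ∀ p : Perm (Fin 6), PP p → p * p = 1 ∨ (PP (a0 * p) ∧ a0 * p * (a0 * p) = 1) := by decide +kernel

theorem card_inv : (Finset.univ.filter fun p : Perm (Fin 6) => PP p ∧ p * p = 1).card = 12 := by decide +kernel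

theorem card_four' : (Finset.univ.filter fun p : Perm (Fin 6) => PP p ∧ p * p ≠ 1).card = 4 := by decide +kernel

theorem c2c2 : c2 * c2 = 1 := q9

end perms

theorem ncard_inv : {p : Perm (Fin 6) | PP p ∧ p * p = 1}.ncard = 12 := by
  rw [← card_inv, ← Set.ncard_coe_finset]
  congr 1
  ext p
  simp

theorem ncard_four : {p : Perm (Fin 6) | PP p ∧ p * p ≠ 1}.ncard = 4 := by
  rw [← card_four', ← Set.ncard_coe_finset]
  congr 1
  ext p
  simp

variable {G : Type*} [Group G] {x : G} {φ : Perm (Fin 6) →* G} {n g : G}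

namespace Sw

theorem D_cases [Finite G] (W : Sw x φ n) (A : Ad x φ g) {d : G} (hd : d ∈ normalizer (TT x φ : Set G))
    (hx : IsConj x d) : d ∈ TT x φ ∨ g⁻¹ * d ∈ TT x φ := by
  have S := W.uni.toSSix
  rcases A.P0 d (W.D_P0 hd hx) with h | h
  · exact Or.inl (fix S hd h)
  · right
    apply fix S (mul_mem (inv_mem A.mem.1) hd)
    calc g⁻¹ * d * x * (g⁻¹ * d)⁻¹ = g⁻¹ * (d * x * d⁻¹) * g := by group
      _ = g⁻¹ * (g * x * g⁻¹) * g := by rw [h, A.gx]
      _ = x := by group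

end Sw

namespace Ad

open Sw

theorem comm' (A : Sw.Ad x φ g) {p : Perm (Fin 6)} (hp : PP p) : φ p * g = g * φ p := (A.comm p hp).symm

theorem xg (A : Sw.Ad x φ g) (S : SSix x φ) : x * g = g * (x * φ c2) := by
  have h1 : g * x = x * φ c2 * g := mul_inv_eq_iff_eq_mul.1 A.gx
  have h2 : PP c2 := ZZ_is_PP c2_mem
  have h3 : φ c2 * φ c2 = 1 := by rw [← map_mul φ c2 c2, c2c2, map_one]
  calc x * g = x * (φ c2 * φ c2) * g := by rw [h3, mul_one]
    _ = x * φ c2 * (φ c2 * g) := by group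
    _ = x * φ c2 * (g * φ c2) := by rw [A.comm c2 h2]
    _ = x * φ c2 * g * φ c2 := by group
    _ = g * x * φ c2 := by rw [h1]
    _ = g * (x * φ c2) := by group

theorem sq1 (A : Sw.Ad x φ g) {p : Perm (Fin 6)} (hp : PP p) : g * φ p * (g * φ p) = g * g * φ (p * p) := by
  calc g * φ p * (g * φ p) = g * (φ p * g) * φ p := by group
    _ = g * (g * φ p) * φ p := by rw [comm' A hp]
    _ = g * g * φ (p * p) := by rw [map_mul φ p p]; group

theorem sq2 (A : Sw.Ad x φ g) (S : SSix x φ) {p : Perm (Fin 6)} (hp : PP p) :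
    g * (x * φ p) * (g * (x * φ p)) = g * g * φ (c2 * (p * p)) := by
  calc g * (x * φ p) * (g * (x * φ p)) = g * x * (φ p * g) * (x * φ p) := by group
    _ = g * x * (g * φ p) * (x * φ p) := by rw [comm' A hp]
    _ = g * (x * g) * (φ p * x) * φ p := by group
    _ = g * (g * (x * φ c2)) * (x * φ p) * φ p := by rw [xg A S, S.comm' p]
    _ = g * g * x * (φ c2 * x) * φ p * φ p := by group
    _ = g * g * x * (x * φ c2) * φ p * φ p := by rw [S.comm' c2]
    _ = g * g * (x * x) * (φ c2 * (φ p * φ p)) := by group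
    _ = g * g * φ (c2 * (p * p)) := by rw [S.xx, mul_one, map_mul φ c2 (p * p), map_mul φ p p]

theorem notMem (A : Sw.Ad x φ g) (S : SSix x φ) : g ∉ TT x φ := by
  intro h
  have h1 : g * x * g⁻¹ = x := by rw [(mem_TT.1 h).1, mul_inv_cancel_right]
  rw [A.gx] at h1
  exact q25 (S.mul_inj (h1.trans (by rw [map_one, mul_one] : x = x * φ 1)))

/-- `g²` -/
theorem exists_sq (A : Sw.Ad x φ g) (S : SSix x φ) : ∃ q, ZZ q ∧ g * g = φ q := by
  have h3 : φ c2 * φ c2 = 1 := by rw [← map_mul φ c2 c2, c2c2, map_one]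
  have h0 : g * g ∈ TT x φ := by
    apply fix S (mul_mem A.mem.1 A.mem.1)
    calc g * g * x * (g * g)⁻¹ = g * (g * x * g⁻¹) * g⁻¹ := by group
      _ = (g * x * g⁻¹) * (g * φ c2 * g⁻¹) := by rw [A.gx]; rw [show g * (x * φ c2) * g⁻¹ = (g * x * g⁻¹) * (g * φ c2 * g⁻¹) by group, A.gx]
      _ = x * φ c2 * φ c2 := by rw [A.gx, A.comm c2 (ZZ_is_PP c2_mem), mul_inv_cancel_right]
      _ = x := by rw [mul_assoc, h3, mul_one]
  obtain ⟨p, hp, h⟩ := S.mem_TT_iff.1 h0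
  have hc : ∀ q, PP q → p * q = q * p := by
    intro q hq
    have h1 : g * g * φ q = φ q * (g * g) := by
      calc g * g * φ q = g * (g * φ q) := by group
        _ = g * (φ q * g) := by rw [A.comm q hq]
        _ = (g * φ q) * g := by group
        _ = (φ q * g) * g := by rw [A.comm q hq]
        _ = φ q * (g * g) := by group
    rcases h with h | h
    · rw [h] at h1; exact S.comm_iff.1 h1
    · rw [h] at h1; exact S.comm_iff'.1 h1
  have hz : ZZ p := center_PP p hp (hc _ PP_a0) (hc _ PP_e0)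
  refine ⟨p, hz, ?_⟩
  rcases h with h | h
  · exact h
  · exfalso
    have h1 : g * (g * g) * g⁻¹ = g * g := by group
    rw [h] at h1
    have h2 : g * (x * φ p) * g⁻¹ = x * φ (c2 * p) := by
      calc g * (x * φ p) * g⁻¹ = (g * x * g⁻¹) * (g * φ p * g⁻¹) := by group
        _ = x * φ c2 * φ p := by rw [A.gx, A.comm p hp, mul_inv_cancel_right]
        _ = x * φ (c2 * p) := by rw [map_mul φ c2 p, mul_assoc]
    rw [h2] at h1
    exact q25 (mul_eq_right.1 (S.mul_inj h1))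

/-- `g x` in place of `g` -/
theorem mul_x (A : Sw.Ad x φ g) (S : SSix x φ) : Sw.Ad x φ (g * x) where
  mem := mul_mem A.mem (T_le_P0 S (x_mem S))
  gx := by rw [← A.gx]; group
  comm := by
    intro p hp
    rw [mul_assoc, S.comm p, ← mul_assoc, A.comm p hp, mul_assoc]
  P0 := A.P0

/-- either `g² ∈ f⟨z⟩` or `g² = 1` after a change of `g` -/
theorem cases (A : Sw.Ad x φ g) (S : SSix x φ) : (g * g = φ c1 ∨ g * g = φ c3) ∨
    ∃ g', Sw.Ad x φ g' ∧ g' * g' = 1 := by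
  obtain ⟨q, hq, h⟩ := exists_sq A S
  rcases hq with rfl | rfl | rfl | rfl
  · exact Or.inr ⟨g, A, by rw [h, map_one]⟩
  · exact Or.inl (Or.inl h)
  · right
    refine ⟨g * x, mul_x A S, ?_⟩
    have h1 := sq2 A S PP_one
    rw [map_one, mul_one, h, mul_one, mul_one, ← map_mul φ c2 c2, c2c2, map_one] at h1
    exact h1
  · exact Or.inl (Or.inr h)

theorem sq_of_conj (S : SSix x φ) {d : G} (h : IsConj x d) : d * d = 1 := by
  obtain ⟨c, rfl⟩ := isConj_iff.1 h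
  calc c * x * c⁻¹ * (c * x * c⁻¹) = c * (x * x) * c⁻¹ := by group
    _ = 1 := by rw [S.xx]; group

/-- if `g² = φ(c₁)` or `φ(c₃)` then `gT` has no involution -/
theorem no_D (A : Sw.Ad x φ g) (S : SSix x φ) (h : g * g = φ c1 ∨ g * g = φ c3) {d : G} (hx : IsConj x d)
    (hd : g⁻¹ * d ∈ TT x φ) : False := by
  have h1 := sq_of_conj S hx
  obtain ⟨q, hq, hqz⟩ : ∃ q, g * g = φ q ∧ (q = c1 ∨ q = c3) := by
    rcases h with h | h
    · exact ⟨_, h, Or.inl rfl⟩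
    · exact ⟨_, h, Or.inr rfl⟩
  have key : ∀ r : Perm (Fin 6), r = 1 ∨ r = c2 → g * g * φ r ≠ 1 := by
    intro r hr h2
    rw [hq, ← map_mul φ q r] at h2
    have h3 := S.inj (h2.trans (map_one φ).symm)
    revert h3
    rcases hqz with rfl | rfl <;> rcases hr with rfl | rfl <;> decide
  obtain ⟨p, hp, h2 | h2⟩ := S.mem_TT_iff.1 hd
  · have h3 : d = g * φ p := by rw [← h2]; group
    rw [h3, sq1 A hp] at h1
    exact key _ (PP_sq p hp) h1
  · have h3 : d = g * (x * φ p) := by rw [← h2]; group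
    rw [h3, sq2 A S hp] at h1
    refine key _ ?_ h1
    rcases PP_sq p hp with h4 | h4
    · right; rw [h4, mul_one]
    · left; rw [h4, c2c2]

variable (hgg : g * g = 1)
include hgg

omit hgg in
theorem conj1 (A : Sw.Ad x φ g) (U : Uni x φ) {p : Perm (Fin 6)} (hp : PP p) (hpp : p * p = 1) :
    IsConj x (g * φ p) ↔ IsConj x g := by
  have S := U.toSSix
  by_cases h1 : p = 1
  · rw [h1, map_one, mul_one]
  have hw : φ p * φ p = 1 := by rw [← map_mul φ p p, hpp, map_one]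
  have hw1 : φ p ≠ 1 := fun h => h1 (S.inj (h.trans (map_one φ).symm))
  have hnx : ¬ IsConj x (φ p) := by
    intro h
    obtain ⟨c, hc⟩ := isConj_iff.1 h
    exact U.disj p c hc
  have hne : φ p ≠ g := by
    intro h
    apply notMem A S
    rw [← h]
    exact (phi_mem S).2 hp
  have hne' : φ p ≠ g * φ p := by
    intro h
    have : g = 1 := mul_eq_right.1 h.symm
    exact notMem A S (this ▸ one_mem _)
  constructor
  · intro h
    have h2 := clean U h hw hw1 hne' (by rw [← mul_assoc, comm' A hp])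
    rw [mul_assoc, hw, mul_one] at h2
    by_contra h3
    exact hnx (h2.2 h3)
  · intro h
    have h2 := clean U h hw hw1 hne (comm' A hp)
    by_contra h3
    exact hnx (h2.2 h3)

theorem conj2 (A : Sw.Ad x φ g) (U : Uni x φ) {p : Perm (Fin 6)} (hp : PP p) (hpp : p * p ≠ 1) :
    IsConj x (g * (x * φ p)) ↔ ¬ IsConj x g := by
  have S := U.toSSix
  obtain ⟨h1, h2, h3⟩ := PP_four p hp hpp
  have hp2 : p * p = c2 := (PP_sq p hp).resolve_left hpp
  have hw : g * (x * φ p) * (g * (x * φ p)) = 1 := by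
    rw [sq2 A S hp, hgg, one_mul, hp2, c2c2, map_one]
  have hd : IsConj x (x * φ a0) := by
    obtain ⟨c, hc⟩ := U.uni a0 q30 (by decide)
    exact isConj_iff.2 ⟨c, hc⟩
  have hwT : g * (x * φ p) ∉ TT x φ := by
    intro h
    apply notMem A S
    have := mul_mem h (inv_mem ((xphi_mem S).2 hp))
    rwa [mul_inv_cancel_right] at this
  have e1 : g * (x * φ p) * (x * φ a0) = g * φ (p * a0) := by
    calc g * (x * φ p) * (x * φ a0) = g * x * (φ p * x) * φ a0 := by group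
      _ = g * (x * x) * (φ p * φ a0) := by rw [S.comm' p]; group
      _ = g * φ (p * a0) := by rw [S.xx, mul_one, map_mul φ p a0]
  have e2 : x * φ a0 * (g * (x * φ p)) = g * φ (c2 * (a0 * p)) := by
    calc x * φ a0 * (g * (x * φ p)) = x * (φ a0 * g) * (x * φ p) := by group
      _ = x * (g * φ a0) * (x * φ p) := by rw [comm' A PP_a0]
      _ = (x * g) * (φ a0 * x) * φ p := by group
      _ = (g * (x * φ c2)) * (x * φ a0) * φ p := by rw [xg A S, S.comm' a0]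
      _ = g * x * (φ c2 * x) * (φ a0 * φ p) := by group
      _ = g * (x * x) * (φ c2 * (φ a0 * φ p)) := by rw [S.comm' c2]; group
      _ = g * φ (c2 * (a0 * p)) := by rw [S.xx, mul_one, map_mul φ c2 (a0 * p), map_mul φ a0 p]
  have h4 := clean U hd hw (fun h => hwT (h ▸ one_mem _)) (fun h => hwT (h ▸ (xphi_mem S).2 PP_a0))
    (by rw [e1, e2, h1])
  rw [h4, e2, conj1 A U h3 h2]

theorem not1 (A : Sw.Ad x φ g) (S : SSix x φ) {p : Perm (Fin 6)} (hp : PP p) (hpp : p * p ≠ 1) :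
    ¬ IsConj x (g * φ p) := by
  intro h
  have h1 := sq_of_conj S h
  rw [sq1 A hp, hgg, one_mul] at h1
  exact hpp (S.inj (h1.trans (map_one φ).symm))

theorem not2 (A : Sw.Ad x φ g) (S : SSix x φ) {p : Perm (Fin 6)} (hp : PP p) (hpp : p * p = 1) :
    ¬ IsConj x (g * (x * φ p)) := by
  intro h
  have h1 := sq_of_conj S h
  rw [sq2 A S hp, hgg, one_mul, hpp, mul_one] at h1
  exact q25 (S.inj (h1.trans (map_one φ).symm))

/-- the number of the conjugates of `x` in `gT` -/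
theorem ncard_gT (A : Sw.Ad x φ g) (U : Uni x φ) : {d : G | IsConj x d ∧ g⁻¹ * d ∈ TT x φ}.ncard = 12 ∨
    {d : G | IsConj x d ∧ g⁻¹ * d ∈ TT x φ}.ncard = 4 := by
  have S := U.toSSix
  by_cases hB : IsConj x g
  · left
    have h1 : {d : G | IsConj x d ∧ g⁻¹ * d ∈ TT x φ} = (fun p => g * φ p) '' {p | PP p ∧ p * p = 1} := by
      ext d
      constructor
      · rintro ⟨h2, h3⟩
        obtain ⟨p, hp, h4 | h4⟩ := S.mem_TT_iff.1 h3
        · have h5 : d = g * φ p := by rw [← h4]; group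
          refine ⟨p, ⟨hp, ?_⟩, h5.symm⟩
          by_contra h6
          exact not1 hgg A S hp h6 (h5 ▸ h2)
        · exfalso
          have h5 : d = g * (x * φ p) := by rw [← h4]; group
          by_cases h6 : p * p = 1
          · exact not2 hgg A S hp h6 (h5 ▸ h2)
          · exact (conj2 hgg A U hp h6).1 (h5 ▸ h2) hB
      · rintro ⟨p, ⟨hp, hpp⟩, rfl⟩
        refine ⟨(conj1 A U hp hpp).2 hB, ?_⟩
        show g⁻¹ * (g * φ p) ∈ TT x φ
        rw [inv_mul_cancel_left]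
        exact (phi_mem S).2 hp
    rw [h1, Set.ncard_image_of_injective _ (fun p q h => S.inj (mul_left_cancel h)), ncard_inv]
  · right
    have h1 : {d : G | IsConj x d ∧ g⁻¹ * d ∈ TT x φ} = (fun p => g * (x * φ p)) '' {p | PP p ∧ p * p ≠ 1} := by
      ext d
      constructor
      · rintro ⟨h2, h3⟩
        obtain ⟨p, hp, h4 | h4⟩ := S.mem_TT_iff.1 h3
        · exfalso
          have h5 : d = g * φ p := by rw [← h4]; group
          by_cases h6 : p * p = 1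
          · exact hB ((conj1 A U hp h6).1 (h5 ▸ h2))
          · exact not1 hgg A S hp h6 (h5 ▸ h2)
        · have h5 : d = g * (x * φ p) := by rw [← h4]; group
          refine ⟨p, ⟨hp, ?_⟩, h5.symm⟩
          intro h6
          exact not2 hgg A S hp h6 (h5 ▸ h2)
      · rintro ⟨p, ⟨hp, hpp⟩, rfl⟩
        refine ⟨(conj2 hgg A U hp hpp).2 hB, ?_⟩
        show g⁻¹ * (g * (x * φ p)) ∈ TT x φ
        rw [inv_mul_cancel_left]
        exact (xphi_mem S).2 hp
    rw [h1, Set.ncard_image_of_injective _ (fun p q h => S.mul_inj (mul_left_cancel h)), ncard_four]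

end Ad

theorem key_dvd : ¬ 2 * 128 ∣ 12 * 1440 := by decide
theorem key_dvd' : ¬ 2 * 128 ∣ 4 * 1440 := by decide

namespace Sw

/-- `φ(PP)` -/
def Ts (S : SSix x φ) : Subgroup G where
  carrier := {g | ∃ p, PP p ∧ g = φ p}
  one_mem' := ⟨1, PP_one, (map_one φ).symm⟩
  mul_mem' := by
    rintro _ _ ⟨p, hp, rfl⟩ ⟨q, hq, rfl⟩
    exact ⟨p * q, (phi_mem S).1 (by rw [map_mul]; exact mul_mem ((phi_mem S).2 hp) ((phi_mem S).2 hq)),
      (map_mul φ p q).symm⟩
  inv_mem' := by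
    rintro _ ⟨p, hp, rfl⟩
    exact ⟨p⁻¹, (phi_mem S).1 (by rw [map_inv]; exact inv_mem ((phi_mem S).2 hp)), (map_inv φ p).symm⟩

theorem mem_Ts {S : SSix x φ} {g : G} : g ∈ Ts S ↔ ∃ p, PP p ∧ g = φ p := Iff.rfl

/-- the conjugates of `x` in `T` -/
theorem mem_T_D (U : Uni x φ) {d : G} (hd : d ∈ TT x φ) (hx : IsConj x d) : ∃ q, (PP q ∧ q * q = 1) ∧ d = x * φ q := by
  have S := U.toSSix
  obtain ⟨q, hq, rfl | rfl⟩ := S.mem_TT_iff.1 hd
  · obtain ⟨c, hc⟩ := isConj_iff.1 hx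
    exact absurd hc (U.disj q c)
  · exact ⟨q, ⟨hq, S.sq_of_conj' hx⟩, rfl⟩

theorem conj_of_inv (U : Uni x φ) {q : Perm (Fin 6)} (hq : q * q = 1) : IsConj x (x * φ q) := by
  by_cases h : q = 1
  · rw [h, map_one, mul_one]
  · obtain ⟨c, hc⟩ := U.uni q hq h
    exact isConj_iff.2 ⟨c, hc⟩

/-- `N(T)` normalises `φ(PP)` -/
theorem conj_Ts (U : Uni x φ) {m : G} (hm : m ∈ normalizer (TT x φ : Set G)) {t : G} (ht : t ∈ Ts U.toSSix) :
    m * t * m⁻¹ ∈ Ts U.toSSix := by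
  have S := U.toSSix
  have h0 : ∀ p, PP p → p * p = 1 → m * φ p * m⁻¹ ∈ Ts U.toSSix := by
    intro p hp hpp
    obtain ⟨s, hs, h1⟩ := conj_x U hm
    obtain ⟨q, ⟨hq, hqq⟩, h2⟩ := mem_T_D U (conj_mem hm ((xphi_mem S).2 hp))
      ((conj_of_inv U hpp).trans (isConj_iff.2 ⟨m, rfl⟩))
    have h3 : m * φ p * m⁻¹ = φ s⁻¹ * φ q := by
      calc m * φ p * m⁻¹ = (m * x * m⁻¹)⁻¹ * (m * (x * φ p) * m⁻¹) := by group
        _ = (x * φ s)⁻¹ * (x * φ q) := by rw [h1, h2]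
        _ = φ s⁻¹ * φ q := by rw [map_inv]; group
    rw [h3]
    exact mul_mem (by rw [map_inv]; exact inv_mem ⟨s, ZZ_is_PP hs, rfl⟩) ⟨q, hq, rfl⟩
  obtain ⟨p, hp, rfl⟩ := ht
  rcases PP_prod p hp with h | ⟨h1, h2⟩
  · exact h0 p hp h
  · have h3 : m * φ p * m⁻¹ = (m * φ a0 * m⁻¹) * (m * φ (a0 * p) * m⁻¹) := by
      rw [show p = a0 * (a0 * p) by rw [← mul_assoc, q30, one_mul], map_mul φ a0 (a0 * p), ← mul_assoc a0 a0, q30,
        one_mul]
      group
    rw [h3]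
    exact mul_mem (h0 _ PP_a0 q30) (h0 _ h1 h2)

/-- `T/φ(PP)` is central in `N(T)/φ(PP)` -/
theorem comm_Ts [Finite G] (U : Uni x φ) {m t : G} (hm : m ∈ normalizer (TT x φ : Set G)) (ht : t ∈ TT x φ) :
    t * m * t⁻¹ * m⁻¹ ∈ Ts U.toSSix := by
  have S := U.toSSix
  obtain ⟨p, hp, h | h⟩ := S.mem_TT_iff.1 ht
  · rw [h]
    have h1 : φ p * m * (φ p)⁻¹ * m⁻¹ = φ p * (m * (φ p)⁻¹ * m⁻¹) := by group
    rw [h1]
    have h2 : φ p ∈ Ts U.toSSix := ⟨p, hp, rfl⟩
    exact mul_mem h2 (conj_Ts U hm (inv_mem h2))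
  · obtain ⟨s, hs, h1⟩ := conj_x U hm
    have h2 : φ p ∈ Ts U.toSSix := ⟨p, hp, rfl⟩
    have h3 : t * m * t⁻¹ * m⁻¹ = (x * (φ p * (m * (φ p)⁻¹ * m⁻¹)) * x⁻¹) * φ s := by
      rw [h]
      calc x * φ p * m * (x * φ p)⁻¹ * m⁻¹ = x * φ p * (m * (φ p)⁻¹ * m⁻¹) * (m * x * m⁻¹)⁻¹ := by group
        _ = x * φ p * (m * (φ p)⁻¹ * m⁻¹) * (x * φ s)⁻¹ := by rw [h1]
        _ = x * φ p * (m * (φ p)⁻¹ * m⁻¹) * (x * φ s⁻¹)⁻¹ := by
          rw [inv_eq_of_mul_eq_one_left (ZZ_sq hs)]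
        _ = x * (φ p * (m * (φ p)⁻¹ * m⁻¹)) * (φ s * x⁻¹) := by rw [map_inv]; group
        _ = x * (φ p * (m * (φ p)⁻¹ * m⁻¹)) * (x⁻¹ * φ s) := by rw [S.xinv, S.comm s]
        _ = (x * (φ p * (m * (φ p)⁻¹ * m⁻¹)) * x⁻¹) * φ s := by group
    rw [h3]
    have h4 := mul_mem h2 (conj_Ts U hm (inv_mem h2))
    exact mul_mem (conj_Ts U (T_le (x_mem S)) h4) ⟨s, ZZ_is_PP hs, rfl⟩

/-- `P` is a 2-group -/
theorem isPGroup_P [Finite G] (U : Uni x φ) : IsPGroup 2 (normalizer (TT x φ : Set G)) := by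
  have : Fact (Nat.Prime 2) := ⟨Nat.prime_two⟩
  exact IsPGroup.of_card (n := 7) (by rw [card_P U]; norm_num)

/-- case `g² = 1` -/
theorem false_one [Finite G] (hG : ∀ (m : G →* ℤˣ) (g : G), m g = 1) (W : Sw x φ n) (A : Ad x φ g)
    (hgg : g * g = 1) : False := by
  classical
  have : Fact (Nat.Prime 2) := ⟨Nat.prime_two⟩
  have S := W.uni.toSSix
  let P := normalizer (TT x φ : Set G)
  let N : Subgroup P := (TT x φ).subgroupOf P
  have hN : N.Normal := normal_in_normalizer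
  have hcard : Nat.card (P ⧸ N) = 2 ^ 2 := by
    have h1 := card_eq_card_quotient_mul_card_subgroup N
    rw [card_P W.uni, Nat.card_congr (subgroupOfEquivOfLe (T_le (x := x) (φ := φ))).toEquiv, S.card_TT] at h1
    omega
  have hcomm := (IsPGroup.isMulCommutative_of_card_eq_prime_sq hcard).is_comm.comm
  let _ : CommGroup (P ⧸ N) := { (inferInstance : Group (P ⧸ N)) with mul_comm := hcomm }
  have hpA : IsPGroup 2 (P ⧸ N) := IsPGroup.of_card hcard
  have hgP : g ∈ P := A.mem.1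
  have hmk : ∀ (d : G) (hd : d ∈ P), (QuotientGroup.mk' N) ⟨d, hd⟩ = (QuotientGroup.mk' N) ⟨g, hgP⟩ ↔
      g⁻¹ * d ∈ TT x φ := by
    intro d hd
    rw [eq_comm]
    exact QuotientGroup.eq
  have hmk1 : ∀ (d : G) (hd : d ∈ P), (QuotientGroup.mk' N) ⟨d, hd⟩ = 1 ↔ d ∈ TT x φ := by
    intro d hd
    exact QuotientGroup.eq_one_iff _
  have h := TFabTwo.dvd hpA hG S.xx P (QuotientGroup.mk' N) (a := (QuotientGroup.mk' N) ⟨g, hgP⟩)
    (by
      intro h
      exact Ad.notMem A S ((hmk1 g hgP).1 h))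
    (by
      rw [← map_mul]
      have : (⟨g, hgP⟩ : P) * ⟨g, hgP⟩ = 1 := Subtype.ext hgg
      rw [this, map_one])
    (by
      intro d hd hx
      rcases W.D_cases A hd hx with h | h
      · exact Or.inl ((hmk1 d hd).2 h)
      · exact Or.inr ((hmk d hd).2 h))
  rw [card_P W.uni, S.card] at h
  have hV : TFab.Val x P (QuotientGroup.mk' N) ((QuotientGroup.mk' N) ⟨g, hgP⟩) =
      {d : G | IsConj x d ∧ g⁻¹ * d ∈ TT x φ} := by
    ext d
    constructor
    · rintro ⟨h1, h2, h3⟩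
      exact ⟨h1, (hmk d h2).1 h3⟩
    · rintro ⟨h1, h2⟩
      have h3 : d ∈ P := by
        have := mul_mem hgP (T_le h2)
        rwa [mul_inv_cancel_left] at this
      exact ⟨h1, h3, (hmk d h3).2 h2⟩
  rw [hV] at h
  rcases Ad.ncard_gT hgg A W.uni with h1 | h1
  · rw [h1] at h; exact key_dvd h
  · rw [h1] at h; exact key_dvd' h

/-- case `g² ∈ f⟨z⟩` -/
theorem false_two [Finite G] (hG : ∀ (m : G →* ℤˣ) (g : G), m g = 1) (W : Sw x φ n) (A : Ad x φ g)
    (hgg : g * g = φ c1 ∨ g * g = φ c3) : False := by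
  classical
  have : Fact (Nat.Prime 2) := ⟨Nat.prime_two⟩
  have S := W.uni.toSSix
  let P := normalizer (TT x φ : Set G)
  let N : Subgroup P := (TT x φ).subgroupOf P
  let M : Subgroup P := (Ts S).subgroupOf P
  have hN : N.Normal := normal_in_normalizer
  have hM : M.Normal := ⟨fun t ht m => conj_Ts W.uni m.2 ht⟩
  have hcard : Nat.card (P ⧸ N) = 4 := by
    have h1 := card_eq_card_quotient_mul_card_subgroup N
    rw [card_P W.uni, Nat.card_congr (subgroupOfEquivOfLe (T_le (x := x) (φ := φ))).toEquiv, S.card_TT] at h1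
    omega
  have hmkN : ∀ (d : G) (hd : d ∈ P), (QuotientGroup.mk' N) ⟨d, hd⟩ = 1 ↔ d ∈ TT x φ := by
    intro d hd
    exact QuotientGroup.eq_one_iff _
  -- `P/T` is cyclic, generated by the class of `n`
  have hcyc : IsCyclic (P ⧸ N) := by
    apply isCyclic_of_orderOf_eq_card ((QuotientGroup.mk' N) ⟨n, W.hn⟩)
    rw [hcard]
    have h1 : orderOf ((QuotientGroup.mk' N) ⟨n, W.hn⟩) = 2 ^ (1 + 1) := by
      apply orderOf_eq_prime_pow
      · rw [pow_one, ← map_pow]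
        intro h
        have h2 : n ^ 2 ∈ TT x φ := (hmkN _ _).1 h
        have h3 := W.n_sq
        rw [← pow_two] at h3
        rw [(mem_TT.1 h2).1, mul_inv_cancel_right] at h3
        exact q25 (S.mul_inj (h3.symm.trans (by rw [map_one, mul_one] : x = x * φ 1)))
      · have h2 := pow_card_eq_one' (x := (QuotientGroup.mk' N) ⟨n, W.hn⟩)
        rw [hcard] at h2
        exact h2
    rw [h1]
    norm_num
  have hMN : M ≤ N.comap (MonoidHom.id P) := by
    rintro ⟨t, ht⟩ ⟨p, hp, h⟩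
    show t ∈ TT x φ
    have h' : t = φ p := h
    rw [h']
    exact (phi_mem S).2 hp
  let f : P ⧸ M →* P ⧸ N := QuotientGroup.map M N (MonoidHom.id P) hMN
  have hker : f.ker ≤ center (P ⧸ M) := by
    intro a ha
    obtain ⟨⟨t, ht⟩, rfl⟩ := QuotientGroup.mk_surjective a
    have h1 : t ∈ TT x φ := (hmkN t ht).1 ha
    rw [mem_center_iff]
    intro b
    obtain ⟨⟨m, hm⟩, rfl⟩ := QuotientGroup.mk_surjective b
    have h2 : (⟨t, ht⟩ * ⟨m, hm⟩ * (⟨t, ht⟩ : P)⁻¹ * (⟨m, hm⟩ : P)⁻¹ : P) ∈ M := comm_Ts W.uni hm h1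
    have h3 : (((⟨t, ht⟩ * ⟨m, hm⟩ * (⟨t, ht⟩ : P)⁻¹ * (⟨m, hm⟩ : P)⁻¹ : P)) : P ⧸ M) = 1 :=
      (QuotientGroup.eq_one_iff _).2 h2
    have h4 : ((⟨t, ht⟩ : P) : P ⧸ M) * ((⟨m, hm⟩ : P) : P ⧸ M) * ((⟨t, ht⟩ : P) : P ⧸ M)⁻¹ *
        ((⟨m, hm⟩ : P) : P ⧸ M)⁻¹ = 1 := h3
    rw [mul_inv_eq_one, mul_inv_eq_iff_eq_mul] at h4
    exact h4.symm
  have hcomm : ∀ a b : P ⧸ M, a * b = b * a :=
    (f.isMulCommutative_of_isCyclic_of_ker_le_center hker).is_comm.comm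
  let _ : CommGroup (P ⧸ M) := { (inferInstance : Group (P ⧸ M)) with mul_comm := hcomm }
  have hpA : IsPGroup 2 (P ⧸ M) := (isPGroup_P W.uni).to_quotient M
  have hxP : x ∈ P := T_le (x_mem S)
  have hDT : ∀ d ∈ P, IsConj x d → d ∈ TT x φ := by
    intro d hd hx
    rcases W.D_cases A hd hx with h | h
    · exact h
    · exact (Ad.no_D A S hgg hx h).elim
  have hval : ∀ (d : G) (hd : d ∈ P), IsConj x d → (QuotientGroup.mk' M) ⟨d, hd⟩ = (QuotientGroup.mk' M) ⟨x, hxP⟩ := by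
    intro d hd hx
    obtain ⟨q, ⟨hq, -⟩, rfl⟩ := mem_T_D W.uni (hDT d hd hx) hx
    rw [eq_comm]
    refine QuotientGroup.eq.2 ?_
    show x⁻¹ * (x * φ q) ∈ Ts S
    rw [inv_mul_cancel_left]
    exact ⟨q, hq, rfl⟩
  have h := TFabTwo.dvd hpA hG S.xx P (QuotientGroup.mk' M) (a := (QuotientGroup.mk' M) ⟨x, hxP⟩)
    (by
      intro h
      have h1 : (⟨x, hxP⟩ : P) ∈ M := (QuotientGroup.eq_one_iff _).1 h
      obtain ⟨p, -, hp⟩ : x ∈ Ts S := h1
      exact S.nx p hp.symm)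
    (by
      rw [← map_mul]
      have : (⟨x, hxP⟩ : P) * ⟨x, hxP⟩ = 1 := Subtype.ext S.xx
      rw [this, map_one])
    (fun d hd hx => Or.inr (hval d hd hx))
  rw [card_P W.uni, S.card] at h
  have hV : TFab.Val x P (QuotientGroup.mk' M) ((QuotientGroup.mk' M) ⟨x, hxP⟩) =
      (fun q => x * φ q) '' {q | PP q ∧ q * q = 1} := by
    ext d
    constructor
    · rintro ⟨h1, h2, -⟩
      obtain ⟨q, hq, h⟩ := mem_T_D W.uni (hDT d h2 h1) h1
      exact ⟨q, hq, h.symm⟩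
    · rintro ⟨q, ⟨hq, hqq⟩, rfl⟩
      have h1 := conj_of_inv W.uni hqq
      have h2 : x * φ q ∈ P := T_le ((xphi_mem S).2 hq)
      exact ⟨h1, h2, hval _ h2 h1⟩
  rw [hV, Set.ncard_image_of_injective _ (fun p q h => S.mul_inj h), ncard_inv] at h
  exact key_dvd h

/-- case 3b is impossible -/
theorem false [Finite G] (hG : ∀ (m : G →* ℤˣ) (g : G), m g = 1) (W : Sw x φ n) : False := by
  obtain ⟨g, A⟩ := W.exists_ad
  rcases Ad.cases A W.uni.toSSix with h | ⟨g', A', h⟩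
  · exact W.false_two hG A h
  · exact W.false_one hG A' h

end Sw

end Cfsg.Agent.OddHalf.D6.SixU.SwapA

namespace Cfsg.Agent.OddHalf.D6.SixU

open Subgroup Equiv
open Cfsg.Agent.OddHalf.D6.Six
open Cfsg.Agent.OddHalf.D6.SixU.NT Cfsg.Agent.OddHalf.D6.SixU.TwoE

variable {G : Type*} [Group G] {x : G} {φ : Perm (Fin 6) →* G}

/-- **no swap**: every `n ∈ N_G(T)` normalises the two `E₁₆` of `T` -/
theorem fix_E [Finite G] (hG : ∀ (m : G →* ℤˣ) (g : G), m g = 1) (U : Uni x φ) {n : G}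
    (hn : n ∈ normalizer (TT x φ : Set G)) : MM x φ n a0 a0 ∧ MM x φ n e0 e0 := by
  rcases MM_cases U.toSSix hn with h | h
  · exact h
  · exact (SwapA.Sw.false hG ⟨U, hn, h.1, h.2⟩).elim

theorem no_swap [Finite G] (hG : ∀ (m : G →* ℤˣ) (g : G), m g = 1) (U : Uni x φ) {n : G}
    (hn : n ∈ normalizer (TT x φ : Set G)) : n * φ a0 * n⁻¹ * φ a0 = φ a0 * (n * φ a0 * n⁻¹) ∧
      n * φ e0 * n⁻¹ * φ e0 = φ e0 * (n * φ e0 * n⁻¹) := by
  have S := U.toSSix
  obtain ⟨h1, h2⟩ := fix_E hG U hn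
  exact ⟨(mem_EB.1 ((h1 (φ a0)).1 ((phi_mem_EB S).2 (YY_self (Or.inl rfl))))).2,
    (mem_EB.1 ((h2 (φ e0)).1 ((phi_mem_EB S).2 (YY_self (Or.inr rfl))))).2⟩

end Cfsg.Agent.OddHalf.D6.SixU
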