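import Cfsg.Agent.OddHalf.D6.SixU.EndPerm
import Cfsg.Agent.OddHalf.D6.SixU.EndTw

/-!
# Finite facts on permutations for the ends of case (B) (ODD D6, `q = 9`, helper751)
-/

set_option autoImplicit false

namespace Cfsg.Agent.OddHalf.D6.SixU.EndFin

open Equiv
open EndPerm EndTw

/-- `⟨f, z⟩` -/
def PZ : Finset (Perm (Fin 6)) := {1, pf, pz, pf * pz}

section Finite
set_option Elab.async false

theorem P1_mul : ∀ u ∈ P1, ∀ v ∈ P1, u * v ∈ P1 := by decide +kernel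
theorem P1_comm : ∀ u ∈ P1, ∀ v ∈ P1, u * v = v * u := by decide +kernel
theorem P1_inv : ∀ u ∈ P1, u⁻¹ = u := by decide +kernel
theorem P1_sq : ∀ u ∈ P1, u * u = 1 := by decide +kernel
theorem P1_one : (1 : Perm (Fin 6)) ∈ P1 := by decide +kernel
theorem P1_PU : ∀ u ∈ P1, u ∈ PU := by decide +kernel
theorem P2_PU : ∀ u ∈ P2, u ∈ PU := by decide +kernel
theorem P2_mul : ∀ u ∈ P2, ∀ v ∈ P2, u * v ∈ P2 := by decide +kernel
theorem P2_comm : ∀ u ∈ P2, ∀ v ∈ P2, u * v = v * u := by decide +kernel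
theorem P1_card : P1.card = 8 := by decide +kernel
theorem P2_card : P2.card = 8 := by decide +kernel
theorem P1_s : ∀ u ∈ P1, ps * u * ps⁻¹ ∈ P1 := by decide +kernel
theorem P1_s' : ∀ u ∈ P1, ps⁻¹ * u * ps ∈ P1 := by decide +kernel
theorem P1_S : ∀ s ∈ PS, ∀ u ∈ P1, s * u * s⁻¹ ∈ P1 := by decide +kernel
theorem P2_r : ∀ u ∈ P2, pr * u * pr⁻¹ ∈ P2 := by decide +kernel
theorem P2_r' : ∀ u ∈ P2, pr⁻¹ * u * pr ∈ P2 := by decide +kernel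
theorem PZ_P1 : ∀ u ∈ PZ, u ∈ P1 := by decide +kernel
theorem PZ_P2 : ∀ u ∈ PZ, u ∈ P2 := by decide +kernel
theorem comm_PU : ∀ u ∈ PU, ∀ v ∈ PU, u * v * u⁻¹ * v⁻¹ = 1 ∨ u * v * u⁻¹ * v⁻¹ = pz := by decide +kernel
theorem cen_PU : ∀ u ∈ PU, u * pa = pa * u → u * pe = pe * u → u ∈ PZ := by decide +kernel
theorem inv_PU : ∀ u ∈ PU, u * u = 1 → u ∈ P1 ∨ u ∈ P2 := by decide +kernel
theorem e_PZ : ∀ u ∈ P1, pe * u * pe⁻¹ = u → u ∈ PZ := by decide +kernel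
theorem sq_PZ : ∀ u ∈ P1, (u * pe) * (u * pe) = 1 → u ∈ PZ := by decide +kernel
theorem sq_PZ' : ∀ u ∈ PZ, (u * pe) * (u * pe) = 1 := by decide +kernel
theorem P2_cases : ∀ u ∈ P2, u = 1 ∨ u = pf ∨ u = pf * pz ∨ u = pr * (pf * pz) * pr⁻¹ ∨
    u = pr⁻¹ * (pf * pz) * pr ∨ pf * u = pf * pz ∨ pf * u = pr * (pf * pz) * pr⁻¹ ∨
    pf * u = pr⁻¹ * (pf * pz) * pr := by decide +kernel
theorem P1_cases : ∀ u ∈ P1, u = 1 ∨ u = pf ∨ u = ps * pf * ps⁻¹ ∨ u = ps⁻¹ * pf * ps ∨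
    u = pf * pz ∨ u = pz ∨ u = ps * pz * ps⁻¹ ∨ u = ps⁻¹ * pz * ps := by decide +kernel
theorem sign_ne : Perm.sign pe ≠ Perm.sign (pe * (pf * pz)) := by decide +kernel

/-- `f_i` -/
def fi : Fin 4 → Perm (Fin 6) := ![1, pf, ps * pf * ps⁻¹, ps⁻¹ * pf * ps]

theorem fi_inj : Function.Injective fi := by decide +kernel
theorem fi_mem : ∀ i, fi i ∈ P1 := by decide +kernel
end Finite


end Cfsg.Agent.OddHalf.D6.SixU.EndFin
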