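import Cfsg.Agent.OddHalf.D6.SixU.Tab

/-!
# ODD D6, `q = 9`, case C3a (B): the sixteen cases (helper680; generated by a script)
-/

set_option autoImplicit false
set_option maxRecDepth 4000
set_option synthInstance.maxSize 2000
set_option synthInstance.maxHeartbeats 400000

namespace Cfsg.Agent.OddHalf.D6.SixU

/-- `x, x+a, x+e, Y, Y+a, Y+e, x+y+a, y+Y+a` -/
def listBd : List Code :=
  [(1, 0, 0, 0, 0), (1, 0, 0, 1, 0), (1, 0, 0, 0, 1),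
   (0, 0, 1, 0, 0), (0, 0, 1, 1, 0), (0, 0, 1, 0, 1),
   (1, 1, 0, 1, 0), (0, 1, 1, 1, 0)]

namespace Tab

theorem supp {c d r s : ZMod 2} {b : Code → Bool} (h : Tab c d r s b) (L : List Code)
    (hL : ∀ v : Code, v ∉ L → (v = 0 ∨ v = (0, 0, 0, 1, 0) ∨ v = (0, 0, 0, 0, 1)) ∨
      (kf c d r v v ≠ 0 ∨ kz d s v v ≠ 0) ∨ 8 < Fintype.card {u // com c d r s v u}) :
    ∀ v, b v = true → v ∈ L := by
  intro v hv
  by_contra hn
  have hf : b v = false := by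
    rcases hL v hn with (rfl | rfl | rfl) | (h1 | h1) | h1
    · exact h.h0
    · exact h.ha
    · exact h.he
    · exact h.sqf v h1
    · exact h.sqz v h1
    · exact h.ext v h1
  rw [hf] at hv
  exact absurd hv (by decide)

theorem off {b : Code → Bool} {L : List Code} (hL : ∀ v, b v = true → v ∈ L) {v : Code} (hv : v ∉ L) :
    b v = false := by
  cases h : b v
  · rfl
  · exact absurd (hL v h) hv

theorem case0000 {b : Code → Bool} (h : Tab 0 0 0 0 b) : False := by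
  have hL : ∀ v, b v = true → v ∈ ([(0, 0, 1, 0, 1), (0, 0, 1, 1, 0), (0, 1, 0, 0, 1), (0, 1, 0, 1, 0), (1, 0, 0, 0, 0), (1, 0, 0, 0, 1), (1, 0, 0, 1, 0), (1, 1, 1, 1, 1)] : List Code) := h.supp _ (by decide +kernel)
  have k1 : b (0, 0, 1, 0, 1) = true → b (0, 0, 1, 0, 0) = !b (0, 0, 0, 0, 1) := h.clean (0, 0, 1, 0, 1) (0, 0, 1, 0, 0) (by decide +kernel) (by decide +kernel)
    (by decide +kernel) (by decide) (by decide)
  have k8 : b (0, 0, 1, 1, 0) = true → b (0, 1, 0, 0, 0) = !b (0, 1, 1, 1, 0) := h.clean (0, 0, 1, 1, 0) (0, 1, 0, 0, 0) (by decide +kernel) (by decide +kernel)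
    (by decide +kernel) (by decide) (by decide)
  have k66 : (xor (b (0, 0, 1, 0, 1)) (xor (b (0, 0, 1, 1, 0)) (xor (b (1, 0, 0, 0, 0)) false))) = false := h.xor_list (1, 1, 0, 1, 1) [(0, 0, 1, 0, 1), (0, 0, 1, 1, 0), (0, 1, 0, 0, 1), (0, 1, 0, 1, 0), (1, 0, 0, 0, 0), (1, 0, 0, 0, 1), (1, 0, 0, 1, 0), (1, 1, 1, 1, 1)] (by decide) hL
  have key : ∀ t0 : Bool, t0 = true → ∀ t1 : Bool, t1 = false → ∀ t2 : Bool, t2 = false → ∀ t3 : Bool, t3 = false → ∀ t4 : Bool, t4 = false → ∀ t5 t6 : Bool, (t5 = true → t2 = !t1) → (t6 = true → t3 = !t4) → (xor t5 (xor t6 (xor t0 false))) = false → False := by decide +kernel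
  have nt1 : b (0, 0, 0, 0, 1) = false := off hL (by decide)
  have nt2 : b (0, 0, 1, 0, 0) = false := off hL (by decide)
  have nt3 : b (0, 1, 0, 0, 0) = false := off hL (by decide)
  have nt4 : b (0, 1, 1, 1, 0) = false := off hL (by decide)
  exact key _ h.hx _ nt1 _ nt2 _ nt3 _ nt4 _ _ k1 k8 k66

theorem case0001 {b : Code → Bool} (h : Tab 0 0 0 1 b) : ∀ v, b v = true ↔ v ∈ listA := by
  have hL : ∀ v, b v = true → v ∈ ([(0, 0, 1, 0, 0), (0, 0, 1, 0, 1), (0, 0, 1, 1, 0), (0, 1, 0, 0, 0), (0, 1, 0, 0, 1), (0, 1, 0, 1, 0), (1, 0, 0, 0, 0), (1, 0, 0, 0, 1), (1, 0, 0, 1, 0), (1, 1, 1, 0, 0), (1, 1, 1, 0, 1), (1, 1, 1, 1, 0)] : List Code) := h.supp _ (by decide +kernel)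
  have k5 : b (0, 0, 1, 0, 1) = true → b (0, 0, 1, 0, 0) = !b (0, 0, 0, 0, 1) := h.clean (0, 0, 1, 0, 1) (0, 0, 1, 0, 0) (by decide +kernel) (by decide +kernel)
    (by decide +kernel) (by decide) (by decide)
  have k9 : b (0, 0, 1, 1, 0) = true → b (0, 0, 1, 0, 0) = !b (0, 0, 0, 1, 0) := h.clean (0, 0, 1, 1, 0) (0, 0, 1, 0, 0) (by decide +kernel) (by decide +kernel)
    (by decide +kernel) (by decide) (by decide)
  have k12 : b (0, 1, 0, 0, 0) = true → b (0, 0, 0, 0, 1) = !b (0, 1, 0, 0, 1) := h.clean (0, 1, 0, 0, 0) (0, 0, 0, 0, 1) (by decide +kernel) (by decide +kernel)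
    (by decide +kernel) (by decide) (by decide)
  have k33 : b (1, 0, 0, 1, 0) = true → b (0, 1, 1, 1, 1) = !b (1, 1, 1, 0, 1) := h.clean (1, 0, 0, 1, 0) (0, 1, 1, 1, 1) (by decide +kernel) (by decide +kernel)
    (by decide +kernel) (by decide) (by decide)
  have k43 : b (1, 1, 1, 0, 1) = true → b (1, 1, 1, 0, 0) = !b (0, 0, 0, 0, 1) := h.clean (1, 1, 1, 0, 1) (1, 1, 1, 0, 0) (by decide +kernel) (by decide +kernel)
    (by decide +kernel) (by decide) (by decide)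
  have k49 : (xor (b (0, 0, 1, 1, 0)) (xor (b (0, 1, 0, 1, 0)) (xor (b (1, 0, 0, 1, 0)) (xor (b (1, 1, 1, 1, 0)) false)))) = false := h.xor_list (0, 0, 0, 1, 0) [(0, 0, 1, 0, 0), (0, 0, 1, 0, 1), (0, 0, 1, 1, 0), (0, 1, 0, 0, 0), (0, 1, 0, 0, 1), (0, 1, 0, 1, 0), (1, 0, 0, 0, 0), (1, 0, 0, 0, 1), (1, 0, 0, 1, 0), (1, 1, 1, 0, 0), (1, 1, 1, 0, 1), (1, 1, 1, 1, 0)] (by decide) hL
  have k53 : (xor (b (0, 0, 1, 0, 0)) (xor (b (0, 0, 1, 0, 1)) (xor (b (0, 1, 0, 1, 0)) (xor (b (1, 0, 0, 1, 0)) (xor (b (1, 1, 1, 0, 0)) (xor (b (1, 1, 1, 0, 1)) false)))))) = false := h.xor_list (0, 0, 1, 1, 0) [(0, 0, 1, 0, 0), (0, 0, 1, 0, 1), (0, 0, 1, 1, 0), (0, 1, 0, 0, 0), (0, 1, 0, 0, 1), (0, 1, 0, 1, 0), (1, 0, 0, 0, 0), (1, 0, 0, 0, 1), (1, 0, 0, 1, 0), (1, 1, 1, 0, 0), (1, 1, 1, 0, 1), (1, 1, 1, 1, 0)] (by decide) hL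
  have k61 : (xor (b (0, 0, 1, 0, 0)) (xor (b (0, 0, 1, 0, 1)) (xor (b (0, 1, 0, 0, 0)) (xor (b (0, 1, 0, 0, 1)) (xor (b (1, 0, 0, 1, 0)) (xor (b (1, 1, 1, 1, 0)) false)))))) = false := h.xor_list (0, 1, 1, 1, 0) [(0, 0, 1, 0, 0), (0, 0, 1, 0, 1), (0, 0, 1, 1, 0), (0, 1, 0, 0, 0), (0, 1, 0, 0, 1), (0, 1, 0, 1, 0), (1, 0, 0, 0, 0), (1, 0, 0, 0, 1), (1, 0, 0, 1, 0), (1, 1, 1, 0, 0), (1, 1, 1, 0, 1), (1, 1, 1, 1, 0)] (by decide) hL
  have k62 : (xor (b (0, 0, 1, 0, 0)) (xor (b (0, 1, 0, 0, 0)) (xor (b (1, 0, 0, 0, 1)) (xor (b (1, 0, 0, 1, 0)) (xor (b (1, 1, 1, 0, 1)) (xor (b (1, 1, 1, 1, 0)) false)))))) = false := h.xor_list (0, 1, 1, 1, 1) [(0, 0, 1, 0, 0), (0, 0, 1, 0, 1), (0, 0, 1, 1, 0), (0, 1, 0, 0, 0), (0, 1, 0, 0, 1), (0, 1, 0, 1, 0), (1, 0, 0, 0, 0), (1, 0, 0, 0, 1), (1, 0, 0, 1, 0), (1, 1, 1, 0, 0), (1, 1, 1, 0, 1), (1, 1, 1, 1, 0)] (by decide) hL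
  have k65 : (xor (b (0, 0, 1, 1, 0)) (xor (b (0, 1, 0, 1, 0)) (xor (b (1, 0, 0, 0, 0)) (xor (b (1, 0, 0, 0, 1)) (xor (b (1, 1, 1, 0, 0)) (xor (b (1, 1, 1, 0, 1)) false)))))) = false := h.xor_list (1, 0, 0, 1, 0) [(0, 0, 1, 0, 0), (0, 0, 1, 0, 1), (0, 0, 1, 1, 0), (0, 1, 0, 0, 0), (0, 1, 0, 0, 1), (0, 1, 0, 1, 0), (1, 0, 0, 0, 0), (1, 0, 0, 0, 1), (1, 0, 0, 1, 0), (1, 1, 1, 0, 0), (1, 1, 1, 0, 1), (1, 1, 1, 1, 0)] (by decide) hL
  have key : ∀ t0 : Bool, t0 = true → ∀ t1 : Bool, t1 = true → ∀ t2 : Bool, t2 = true → ∀ t3 : Bool, t3 = false → ∀ t4 : Bool, t4 = false → ∀ t5 : Bool, t5 = false → ∀ t6 t7 t8 t9 t10 t11 t12 t13 t14 : Bool, (t7 = true → t6 = !t3) → (t8 = true → t6 = !t4) → (t9 = true → t3 = !t10) → (t1 = true → t5 = !t13) → (t13 = true → t12 = !t3) → (xor t8 (xor t11 (xor t1 (xor t14 false)))) = false → (xor t6 (xor t7 (xor t11 (xor t1 (xor t12 (xor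 t13 false)))))) = false → (xor t6 (xor t7 (xor t9 (xor t10 (xor t1 (xor t14 false)))))) = false → (xor t6 (xor t9 (xor t2 (xor t1 (xor t13 (xor t14 false)))))) = false → (xor t8 (xor t11 (xor t0 (xor t2 (xor t12 (xor t13 false)))))) = false → t6 = true ∧ t7 = true ∧ t8 = true ∧ t9 = true ∧ t10 = true ∧ t11 = true ∧ t12 = true ∧ t13 = true ∧ t14 = true := by decide +kernel
  have nt3 : b (0, 0, 0, 0, 1) = false := off hL (by decide)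
  have nt4 : b (0, 0, 0, 1, 0) = false := off hL (by decide)
  have nt5 : b (0, 1, 1, 1, 1) = false := off hL (by decide)
  obtain ⟨et6, et7, et8, et9, et10, et11, et12, et13, et14⟩ := key _ h.hx _ h.hxa _ h.hxe _ nt3 _ nt4 _ nt5 _ _ _ _ _ _ _ _ _ k5 k9 k12 k33 k43 k49 k53 k61 k62 k65
  intro v
  constructor
  · intro hv
    have h1 := hL v hv
    simp only [List.mem_cons, List.not_mem_nil, or_false] at h1
    rcases h1 with rfl | rfl | rfl | rfl | rfl | rfl | rfl | rfl | rfl | rfl | rfl | rfl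
    · decide
    · decide
    · decide
    · decide
    · decide
    · decide
    · decide
    · decide
    · decide
    · decide
    · decide
    · decide
  · intro hv
    simp only [listA, List.mem_cons, List.not_mem_nil, or_false] at hv
    rcases hv with rfl | rfl | rfl | rfl | rfl | rfl | rfl | rfl | rfl | rfl | rfl | rfl
    · exact h.hx
    · exact h.hxa
    · exact h.hxe
    · exact et9
    · exact et11
    · exact et10
    · exact et6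
    · exact et8
    · exact et7
    · exact et12
    · exact et14
    · exact et13

theorem case0010 {b : Code → Bool} (h : Tab 0 0 1 0 b) : False := by
  have hL : ∀ v, b v = true → v ∈ ([(0, 0, 1, 0, 0), (0, 0, 1, 0, 1), (0, 0, 1, 1, 0), (0, 1, 0, 0, 1), (0, 1, 0, 1, 0), (1, 0, 0, 0, 0), (1, 0, 0, 0, 1), (1, 0, 0, 1, 0)] : List Code) := h.supp _ (by decide +kernel)
  have k35 : (xor (b (1, 0, 0, 0, 0)) (xor (b (1, 0, 0, 0, 1)) (xor (b (1, 0, 0, 1, 0)) false))) = false := h.xor_list (1, 0, 0, 0, 0) [(0, 0, 1, 0, 0), (0, 0, 1, 0, 1), (0, 0, 1, 1, 0), (0, 1, 0, 0, 1), (0, 1, 0, 1, 0), (1, 0, 0, 0, 0), (1, 0, 0, 0, 1), (1, 0, 0, 1, 0)] (by decide) hL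
  have key : ∀ t0 : Bool, t0 = true → ∀ t1 : Bool, t1 = true → ∀ t2 : Bool, t2 = true → (xor t0 (xor t2 (xor t1 false))) = false → False := by decide +kernel
  exact key _ h.hx _ h.hxa _ h.hxe k35

theorem case0011 {b : Code → Bool} (h : Tab 0 0 1 1 b) : False := by
  have hL : ∀ v, b v = true → v ∈ ([(0, 0, 1, 0, 1), (0, 0, 1, 1, 0), (0, 1, 0, 0, 0), (0, 1, 0, 0, 1), (0, 1, 0, 1, 0), (1, 0, 0, 0, 0), (1, 0, 0, 0, 1), (1, 0, 0, 1, 0)] : List Code) := h.supp _ (by decide +kernel)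
  have k35 : (xor (b (1, 0, 0, 0, 0)) (xor (b (1, 0, 0, 0, 1)) (xor (b (1, 0, 0, 1, 0)) false))) = false := h.xor_list (1, 0, 0, 0, 0) [(0, 0, 1, 0, 1), (0, 0, 1, 1, 0), (0, 1, 0, 0, 0), (0, 1, 0, 0, 1), (0, 1, 0, 1, 0), (1, 0, 0, 0, 0), (1, 0, 0, 0, 1), (1, 0, 0, 1, 0)] (by decide) hL
  have key : ∀ t0 : Bool, t0 = true → ∀ t1 : Bool, t1 = true → ∀ t2 : Bool, t2 = true → (xor t0 (xor t2 (xor t1 false))) = false → False := by decide +kernel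
  exact key _ h.hx _ h.hxa _ h.hxe k35

theorem case0100 {b : Code → Bool} (h : Tab 0 1 0 0 b) : False := by
  have hL : ∀ v, b v = true → v ∈ ([(0, 0, 1, 1, 0), (0, 1, 0, 0, 1), (0, 1, 0, 1, 0), (0, 1, 1, 0, 0), (0, 1, 1, 1, 0), (1, 0, 0, 0, 0), (1, 0, 0, 0, 1), (1, 0, 0, 1, 0), (1, 0, 1, 0, 1)] : List Code) := h.supp _ (by decide +kernel)
  have k0 : b (0, 0, 1, 1, 0) = true → b (0, 0, 0, 1, 0) = !b (0, 0, 1, 0, 0) := h.clean (0, 0, 1, 1, 0) (0, 0, 0, 1, 0) (by decide +kernel) (by decide +kernel)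
    (by decide +kernel) (by decide) (by decide)
  have k11 : b (0, 1, 0, 1, 0) = true → b (0, 1, 0, 0, 0) = !b (0, 0, 0, 1, 0) := h.clean (0, 1, 0, 1, 0) (0, 1, 0, 0, 0) (by decide +kernel) (by decide +kernel)
    (by decide +kernel) (by decide) (by decide)
  have k50 : (xor (b (0, 0, 1, 1, 0)) (xor (b (0, 1, 0, 1, 0)) (xor (b (1, 0, 0, 0, 1)) false))) = false := h.xor_list (0, 1, 1, 0, 1) [(0, 0, 1, 1, 0), (0, 1, 0, 0, 1), (0, 1, 0, 1, 0), (0, 1, 1, 0, 0), (0, 1, 1, 1, 0), (1, 0, 0, 0, 0), (1, 0, 0, 0, 1), (1, 0, 0, 1, 0), (1, 0, 1, 0, 1)] (by decide) hL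
  have key : ∀ t0 : Bool, t0 = true → ∀ t1 : Bool, t1 = false → ∀ t2 : Bool, t2 = false → ∀ t3 : Bool, t3 = false → ∀ t4 t5 : Bool, (t4 = true → t1 = !t2) → (t5 = true → t3 = !t1) → (xor t4 (xor t5 (xor t0 false))) = false → False := by decide +kernel
  have nt1 : b (0, 0, 0, 1, 0) = false := off hL (by decide)
  have nt2 : b (0, 0, 1, 0, 0) = false := off hL (by decide)
  have nt3 : b (0, 1, 0, 0, 0) = false := off hL (by decide)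
  exact key _ h.hxe _ nt1 _ nt2 _ nt3 _ _ k0 k11 k50

theorem case0101 {b : Code → Bool} (h : Tab 0 1 0 1 b) : False := by
  have hL : ∀ v, b v = true → v ∈ ([(0, 0, 1, 0, 0), (0, 0, 1, 1, 0), (0, 1, 0, 0, 0), (0, 1, 0, 0, 1), (0, 1, 0, 1, 0), (1, 0, 0, 0, 0), (1, 0, 0, 0, 1), (1, 0, 0, 1, 0), (1, 0, 1, 0, 1), (1, 1, 1, 0, 0), (1, 1, 1, 1, 0)] : List Code) := h.supp _ (by decide +kernel)
  have k0 : b (0, 0, 1, 0, 0) = true → b (0, 0, 0, 1, 0) = !b (0, 0, 1, 1, 0) := h.clean (0, 0, 1, 0, 0) (0, 0, 0, 1, 0) (by decide +kernel) (by decide +kernel)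
    (by decide +kernel) (by decide) (by decide)
  have k5 : b (0, 0, 1, 1, 0) = true → b (0, 0, 1, 0, 0) = !b (0, 0, 0, 1, 0) := h.clean (0, 0, 1, 1, 0) (0, 0, 1, 0, 0) (by decide +kernel) (by decide +kernel)
    (by decide +kernel) (by decide) (by decide)
  have k47 : (xor (b (0, 0, 1, 0, 0)) (xor (b (0, 0, 1, 1, 0)) (xor (b (0, 1, 0, 0, 0)) (xor (b (0, 1, 0, 0, 1)) (xor (b (0, 1, 0, 1, 0)) (xor (b (1, 0, 1, 0, 1)) false)))))) = false := h.xor_list (0, 1, 1, 0, 0) [(0, 0, 1, 0, 0), (0, 0, 1, 1, 0), (0, 1, 0, 0, 0), (0, 1, 0, 0, 1), (0, 1, 0, 1, 0), (1, 0, 0, 0, 0), (1, 0, 0, 0, 1), (1, 0, 0, 1, 0), (1, 0, 1, 0, 1), (1, 1, 1, 0, 0), (1, 1, 1, 1, 0)] (by decide) hL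
  have k59 : (xor (b (0, 1, 0, 0, 0)) (xor (b (0, 1, 0, 0, 1)) (xor (b (0, 1, 0, 1, 0)) (xor (b (1, 0, 0, 0, 0)) (xor (b (1, 0, 0, 0, 1)) (xor (b (1, 0, 0, 1, 0)) (xor (b (1, 0, 1, 0, 1)) false))))))) = false := h.xor_list (1, 1, 0, 0, 0) [(0, 0, 1, 0, 0), (0, 0, 1, 1, 0), (0, 1, 0, 0, 0), (0, 1, 0, 0, 1), (0, 1, 0, 1, 0), (1, 0, 0, 0, 0), (1, 0, 0, 0, 1), (1, 0, 0, 1, 0), (1, 0, 1, 0, 1), (1, 1, 1, 0, 0), (1, 1, 1, 1, 0)] (by decide) hL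
  have key : ∀ t0 : Bool, t0 = true → ∀ t1 : Bool, t1 = true → ∀ t2 : Bool, t2 = true → ∀ t3 : Bool, t3 = false → ∀ t4 t5 t6 t7 t8 t9 : Bool, (t4 = true → t3 = !t5) → (t5 = true → t4 = !t3) → (xor t4 (xor t5 (xor t6 (xor t7 (xor t8 (xor t9 false)))))) = false → (xor t6 (xor t7 (xor t8 (xor t0 (xor t2 (xor t1 (xor t9 false))))))) = false → False := by decide +kernel
  have nt3 : b (0, 0, 0, 1, 0) = false := off hL (by decide)
  exact key _ h.hx _ h.hxa _ h.hxe _ nt3 _ _ _ _ _ _ k0 k5 k47 k59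

theorem case0110 {b : Code → Bool} (h : Tab 0 1 1 0 b) : False := by
  have hL : ∀ v, b v = true → v ∈ ([(0, 0, 1, 0, 0), (0, 0, 1, 1, 0), (0, 1, 0, 0, 1), (0, 1, 0, 1, 0), (0, 1, 1, 1, 1), (1, 0, 0, 0, 0), (1, 0, 0, 0, 1), (1, 0, 0, 1, 0), (1, 0, 1, 0, 1), (1, 1, 1, 0, 1)] : List Code) := h.supp _ (by decide +kernel)
  have k33 : b (1, 0, 1, 0, 1) = true → b (1, 1, 1, 0, 1) = !b (0, 1, 0, 0, 0) := h.clean (1, 0, 1, 0, 1) (1, 1, 1, 0, 1) (by decide +kernel) (by decide +kernel)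
    (by decide +kernel) (by decide) (by decide)
  have k37 : b (1, 1, 1, 0, 1) = true → b (1, 0, 1, 0, 1) = !b (0, 1, 0, 0, 0) := h.clean (1, 1, 1, 0, 1) (1, 0, 1, 0, 1) (by decide +kernel) (by decide +kernel)
    (by decide +kernel) (by decide) (by decide)
  have k53 : (xor (b (1, 0, 0, 0, 0)) (xor (b (1, 0, 0, 0, 1)) (xor (b (1, 0, 0, 1, 0)) (xor (b (1, 0, 1, 0, 1)) (xor (b (1, 1, 1, 0, 1)) false))))) = false := h.xor_list (1, 0, 0, 0, 0) [(0, 0, 1, 0, 0), (0, 0, 1, 1, 0), (0, 1, 0, 0, 1), (0, 1, 0, 1, 0), (0, 1, 1, 1, 1), (1, 0, 0, 0, 0), (1, 0, 0, 0, 1), (1, 0, 0, 1, 0), (1, 0, 1, 0, 1), (1, 1, 1, 0, 1)] (by decide) hL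
  have key : ∀ t0 : Bool, t0 = true → ∀ t1 : Bool, t1 = true → ∀ t2 : Bool, t2 = true → ∀ t3 : Bool, t3 = false → ∀ t4 t5 : Bool, (t4 = true → t5 = !t3) → (t5 = true → t4 = !t3) → (xor t0 (xor t2 (xor t1 (xor t4 (xor t5 false))))) = false → False := by decide +kernel
  have nt3 : b (0, 1, 0, 0, 0) = false := off hL (by decide)
  exact key _ h.hx _ h.hxa _ h.hxe _ nt3 _ _ k33 k37 k53

theorem case0111 {b : Code → Bool} (h : Tab 0 1 1 1 b) : ∀ v, b v = true ↔ v ∈ listB := by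
  have hL : ∀ v, b v = true → v ∈ ([(0, 0, 1, 1, 0), (0, 1, 0, 0, 0), (0, 1, 0, 0, 1), (0, 1, 0, 1, 0), (0, 1, 1, 0, 1), (1, 0, 0, 0, 0), (1, 0, 0, 0, 1), (1, 0, 0, 1, 0), (1, 0, 1, 0, 1), (1, 1, 1, 1, 1)] : List Code) := h.supp _ (by decide +kernel)
  have k1 : b (0, 0, 1, 1, 0) = true → b (0, 0, 1, 0, 0) = !b (0, 0, 0, 1, 0) := h.clean (0, 0, 1, 1, 0) (0, 0, 1, 0, 0) (by decide +kernel) (by decide +kernel)
    (by decide +kernel) (by decide) (by decide)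
  have k5 : b (0, 1, 0, 0, 0) = true → b (0, 1, 0, 1, 0) = !b (0, 0, 0, 1, 0) := h.clean (0, 1, 0, 0, 0) (0, 1, 0, 1, 0) (by decide +kernel) (by decide +kernel)
    (by decide +kernel) (by decide) (by decide)
  have k49 : (xor (b (0, 0, 1, 1, 0)) (xor (b (0, 1, 0, 0, 0)) (xor (b (0, 1, 0, 0, 1)) (xor (b (0, 1, 0, 1, 0)) (xor (b (1, 0, 1, 0, 1)) false))))) = false := h.xor_list (0, 1, 1, 0, 0) [(0, 0, 1, 1, 0), (0, 1, 0, 0, 0), (0, 1, 0, 0, 1), (0, 1, 0, 1, 0), (0, 1, 1, 0, 1), (1, 0, 0, 0, 0), (1, 0, 0, 0, 1), (1, 0, 0, 1, 0), (1, 0, 1, 0, 1), (1, 1, 1, 1, 1)] (by decide) hL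
  have k50 : (xor (b (0, 0, 1, 1, 0)) (xor (b (0, 1, 0, 0, 0)) (xor (b (0, 1, 0, 1, 0)) (xor (b (0, 1, 1, 0, 1)) (xor (b (1, 0, 0, 0, 1)) (xor (b (1, 1, 1, 1, 1)) false)))))) = false := h.xor_list (0, 1, 1, 0, 1) [(0, 0, 1, 1, 0), (0, 1, 0, 0, 0), (0, 1, 0, 0, 1), (0, 1, 0, 1, 0), (0, 1, 1, 0, 1), (1, 0, 0, 0, 0), (1, 0, 0, 0, 1), (1, 0, 0, 1, 0), (1, 0, 1, 0, 1), (1, 1, 1, 1, 1)] (by decide) hL
  have k51 : (xor (b (0, 1, 0, 0, 0)) (xor (b (0, 1, 0, 0, 1)) (xor (b (1, 0, 0, 1, 0)) (xor (b (1, 0, 1, 0, 1)) (xor (b (1, 1, 1, 1, 1)) false))))) = false := h.xor_list (0, 1, 1, 1, 0) [(0, 0, 1, 1, 0), (0, 1, 0, 0, 0), (0, 1, 0, 0, 1), (0, 1, 0, 1, 0), (0, 1, 1, 0, 1), (1, 0, 0, 0, 0), (1, 0, 0, 0, 1), (1, 0, 0, 1, 0), (1, 0, 1, 0, 1), (1, 1, 1, 1, 1)] (by decide) hL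
  have k53 : (xor (b (1, 0, 0, 0, 0)) (xor (b (1, 0, 0, 0, 1)) (xor (b (1, 0, 0, 1, 0)) (xor (b (1, 0, 1, 0, 1)) (xor (b (1, 1, 1, 1, 1)) false))))) = false := h.xor_list (1, 0, 0, 0, 0) [(0, 0, 1, 1, 0), (0, 1, 0, 0, 0), (0, 1, 0, 0, 1), (0, 1, 0, 1, 0), (0, 1, 1, 0, 1), (1, 0, 0, 0, 0), (1, 0, 0, 0, 1), (1, 0, 0, 1, 0), (1, 0, 1, 0, 1), (1, 1, 1, 1, 1)] (by decide) hL
  have k62 : (xor (b (0, 1, 0, 0, 0)) (xor (b (0, 1, 0, 1, 0)) (xor (b (1, 0, 0, 0, 0)) (xor (b (1, 0, 0, 1, 0)) (xor (b (1, 1, 1, 1, 1)) false))))) = false := h.xor_list (1, 1, 0, 0, 1) [(0, 0, 1, 1, 0), (0, 1, 0, 0, 0), (0, 1, 0, 0, 1), (0, 1, 0, 1, 0), (0, 1, 1, 0, 1), (1, 0, 0, 0, 0), (1, 0, 0, 0, 1), (1, 0, 0, 1, 0), (1, 0, 1, 0, 1), (1, 1, 1, 1, 1)] (by decide) hL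
  have key : ∀ t0 : Bool, t0 = true → ∀ t1 : Bool, t1 = true → ∀ t2 : Bool, t2 = true → ∀ t3 : Bool, t3 = false → ∀ t4 : Bool, t4 = false → ∀ t5 t6 t7 t8 t9 t10 t11 : Bool, (t5 = true → t4 = !t3) → (t6 = true → t8 = !t3) → (xor t5 (xor t6 (xor t7 (xor t8 (xor t10 false))))) = false → (xor t5 (xor t6 (xor t8 (xor t9 (xor t2 (xor t11 false)))))) = false → (xor t6 (xor t7 (xor t1 (xor t10 (xor t11 false))))) = false → (xor t0 (xor t2 (xor t1 (xor t10 (xor t11 false))))) = false → (xor t6 (xor t8 (xor t0 (xor t1 (xor t11 false))))) = false → t5 = false ∧ t6 = true ∧ t7 = true ∧ t8 = true ∧ t9 = true ∧ t10 = true ∧ t11 = false := by decide +kernel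
  have nt3 : b (0, 0, 0, 1, 0) = false := off hL (by decide)
  have nt4 : b (0, 0, 1, 0, 0) = false := off hL (by decide)
  obtain ⟨et5, et6, et7, et8, et9, et10, et11⟩ := key _ h.hx _ h.hxa _ h.hxe _ nt3 _ nt4 _ _ _ _ _ _ _ k1 k5 k49 k50 k51 k53 k62
  intro v
  constructor
  · intro hv
    have h1 := hL v hv
    simp only [List.mem_cons, List.not_mem_nil, or_false] at h1
    rcases h1 with rfl | rfl | rfl | rfl | rfl | rfl | rfl | rfl | rfl | rfl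
    · rw [et5] at hv; exact absurd hv (by decide)
    · decide
    · decide
    · decide
    · decide
    · decide
    · decide
    · decide
    · decide
    · rw [et11] at hv; exact absurd hv (by decide)
  · intro hv
    simp only [listB, List.mem_cons, List.not_mem_nil, or_false] at hv
    rcases hv with rfl | rfl | rfl | rfl | rfl | rfl | rfl | rfl
    · exact h.hx
    · exact h.hxa
    · exact h.hxe
    · exact et6
    · exact et8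
    · exact et7
    · exact et10
    · exact et9

theorem case1000 {b : Code → Bool} (h : Tab 1 0 0 0 b) : False := by
  have hL : ∀ v, b v = true → v ∈ ([(0, 0, 1, 0, 1), (0, 0, 1, 1, 0), (0, 1, 0, 0, 1), (0, 1, 1, 0, 0), (0, 1, 1, 0, 1), (1, 0, 0, 0, 0), (1, 0, 0, 0, 1), (1, 0, 0, 1, 0), (1, 1, 0, 1, 0)] : List Code) := h.supp _ (by decide +kernel)
  have k11 : b (0, 1, 0, 0, 1) = true → b (0, 1, 0, 0, 0) = !b (0, 0, 0, 0, 1) := h.clean (0, 1, 0, 0, 1) (0, 1, 0, 0, 0) (by decide +kernel) (by decide +kernel)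
    (by decide +kernel) (by decide) (by decide)
  have k15 : b (0, 1, 1, 0, 0) = true → b (0, 0, 1, 0, 0) = !b (0, 1, 0, 0, 0) := h.clean (0, 1, 1, 0, 0) (0, 0, 1, 0, 0) (by decide +kernel) (by decide +kernel)
    (by decide +kernel) (by decide) (by decide)
  have k60 : (xor (b (0, 1, 0, 0, 1)) (xor (b (0, 1, 1, 0, 0)) (xor (b (1, 0, 0, 0, 0)) false))) = false := h.xor_list (1, 0, 1, 1, 1) [(0, 0, 1, 0, 1), (0, 0, 1, 1, 0), (0, 1, 0, 0, 1), (0, 1, 1, 0, 0), (0, 1, 1, 0, 1), (1, 0, 0, 0, 0), (1, 0, 0, 0, 1), (1, 0, 0, 1, 0), (1, 1, 0, 1, 0)] (by decide) hL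
  have key : ∀ t0 : Bool, t0 = true → ∀ t1 : Bool, t1 = false → ∀ t2 : Bool, t2 = false → ∀ t3 : Bool, t3 = false → ∀ t4 t5 : Bool, (t4 = true → t3 = !t1) → (t5 = true → t2 = !t3) → (xor t4 (xor t5 (xor t0 false))) = false → False := by decide +kernel
  have nt1 : b (0, 0, 0, 0, 1) = false := off hL (by decide)
  have nt2 : b (0, 0, 1, 0, 0) = false := off hL (by decide)
  have nt3 : b (0, 1, 0, 0, 0) = false := off hL (by decide)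
  exact key _ h.hx _ nt1 _ nt2 _ nt3 _ _ k11 k15 k60

theorem case1001 {b : Code → Bool} (h : Tab 1 0 0 1 b) : False := by
  have hL : ∀ v, b v = true → v ∈ ([(0, 0, 1, 0, 0), (0, 0, 1, 0, 1), (0, 0, 1, 1, 0), (0, 1, 0, 0, 0), (0, 1, 0, 0, 1), (1, 0, 0, 0, 0), (1, 0, 0, 0, 1), (1, 0, 0, 1, 0), (1, 1, 0, 1, 0), (1, 1, 1, 0, 0), (1, 1, 1, 0, 1)] : List Code) := h.supp _ (by decide +kernel)
  have k10 : b (0, 1, 0, 0, 0) = true → b (0, 0, 0, 0, 1) = !b (0, 1, 0, 0, 1) := h.clean (0, 1, 0, 0, 0) (0, 0, 0, 0, 1) (by decide +kernel) (by decide +kernel)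
    (by decide +kernel) (by decide) (by decide)
  have k15 : b (0, 1, 0, 0, 1) = true → b (0, 1, 0, 0, 0) = !b (0, 0, 0, 0, 1) := h.clean (0, 1, 0, 0, 1) (0, 1, 0, 0, 0) (by decide +kernel) (by decide +kernel)
    (by decide +kernel) (by decide) (by decide)
  have k59 : (xor (b (0, 1, 0, 0, 0)) (xor (b (0, 1, 0, 0, 1)) (xor (b (1, 0, 0, 0, 0)) (xor (b (1, 0, 0, 0, 1)) (xor (b (1, 0, 0, 1, 0)) false))))) = false := h.xor_list (1, 1, 0, 0, 0) [(0, 0, 1, 0, 0), (0, 0, 1, 0, 1), (0, 0, 1, 1, 0), (0, 1, 0, 0, 0), (0, 1, 0, 0, 1), (1, 0, 0, 0, 0), (1, 0, 0, 0, 1), (1, 0, 0, 1, 0), (1, 1, 0, 1, 0), (1, 1, 1, 0, 0), (1, 1, 1, 0, 1)] (by decide) hL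
  have key : ∀ t0 : Bool, t0 = true → ∀ t1 : Bool, t1 = true → ∀ t2 : Bool, t2 = true → ∀ t3 : Bool, t3 = false → ∀ t4 t5 : Bool, (t4 = true → t3 = !t5) → (t5 = true → t4 = !t3) → (xor t4 (xor t5 (xor t0 (xor t2 (xor t1 false))))) = false → False := by decide +kernel
  have nt3 : b (0, 0, 0, 0, 1) = false := off hL (by decide)
  exact key _ h.hx _ h.hxa _ h.hxe _ nt3 _ _ k10 k15 k59

theorem case1010 {b : Code → Bool} (h : Tab 1 0 1 0 b) : ∀ v, b v = true ↔ v ∈ listBd := by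
  have hL : ∀ v, b v = true → v ∈ ([(0, 0, 1, 0, 0), (0, 0, 1, 0, 1), (0, 0, 1, 1, 0), (0, 1, 0, 0, 1), (0, 1, 1, 1, 0), (1, 0, 0, 0, 0), (1, 0, 0, 0, 1), (1, 0, 0, 1, 0), (1, 1, 0, 1, 0), (1, 1, 1, 1, 1)] : List Code) := h.supp _ (by decide +kernel)
  have k15 : b (0, 1, 1, 1, 0) = true → b (0, 1, 0, 0, 0) = !b (0, 0, 1, 1, 0) := h.clean (0, 1, 1, 1, 0) (0, 1, 0, 0, 0) (by decide +kernel) (by decide +kernel)
    (by decide +kernel) (by decide) (by decide)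
  have k17 : b (0, 1, 1, 1, 0) = true → b (1, 1, 1, 1, 1) = !b (1, 0, 0, 0, 1) := h.clean (0, 1, 1, 1, 0) (1, 1, 1, 1, 1) (by decide +kernel) (by decide +kernel)
    (by decide +kernel) (by decide) (by decide)
  have k27 : b (1, 0, 0, 1, 0) = true → b (0, 1, 0, 0, 0) = !b (1, 1, 0, 1, 0) := h.clean (1, 0, 0, 1, 0) (0, 1, 0, 0, 0) (by decide +kernel) (by decide +kernel)
    (by decide +kernel) (by decide) (by decide)
  have k30 : b (1, 1, 0, 1, 0) = true → b (0, 0, 1, 0, 1) = !b (1, 1, 1, 1, 1) := h.clean (1, 1, 0, 1, 0) (0, 0, 1, 0, 1) (by decide +kernel) (by decide +kernel)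
    (by decide +kernel) (by decide) (by decide)
  have k50 : (xor (b (0, 0, 1, 0, 0)) (xor (b (0, 0, 1, 1, 0)) (xor (b (1, 0, 0, 0, 1)) (xor (b (1, 1, 0, 1, 0)) (xor (b (1, 1, 1, 1, 1)) false))))) = false := h.xor_list (0, 1, 1, 0, 1) [(0, 0, 1, 0, 0), (0, 0, 1, 0, 1), (0, 0, 1, 1, 0), (0, 1, 0, 0, 1), (0, 1, 1, 1, 0), (1, 0, 0, 0, 0), (1, 0, 0, 0, 1), (1, 0, 0, 1, 0), (1, 1, 0, 1, 0), (1, 1, 1, 1, 1)] (by decide) hL
  have k57 : (xor (b (0, 0, 1, 0, 0)) (xor (b (0, 0, 1, 0, 1)) (xor (b (0, 0, 1, 1, 0)) (xor (b (0, 1, 1, 1, 0)) (xor (b (1, 0, 0, 0, 0)) (xor (b (1, 0, 0, 0, 1)) (xor (b (1, 0, 0, 1, 0)) (xor (b (1, 1, 0, 1, 0)) false)))))))) = false := h.xor_list (1, 0, 1, 0, 0) [(0, 0, 1, 0, 0), (0, 0, 1, 0, 1), (0, 0, 1, 1, 0), (0, 1, 0, 0, 1), (0, 1, 1, 1, 0), (1, 0, 0, 0, 0), (1, 0, 0, 0, 1), (1, 0, 0, 1, 0), (1, 1, 0, 1, 0), (1, 1, 1, 1, 1)] (by decide)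 hL
  have k63 : (xor (b (0, 0, 1, 1, 0)) (xor (b (0, 1, 0, 0, 1)) (xor (b (1, 0, 0, 0, 0)) (xor (b (1, 0, 0, 0, 1)) (xor (b (1, 1, 0, 1, 0)) (xor (b (1, 1, 1, 1, 1)) false)))))) = false := h.xor_list (1, 1, 0, 1, 0) [(0, 0, 1, 0, 0), (0, 0, 1, 0, 1), (0, 0, 1, 1, 0), (0, 1, 0, 0, 1), (0, 1, 1, 1, 0), (1, 0, 0, 0, 0), (1, 0, 0, 0, 1), (1, 0, 0, 1, 0), (1, 1, 0, 1, 0), (1, 1, 1, 1, 1)] (by decide) hL
  have key : ∀ t0 : Bool, t0 = true → ∀ t1 : Bool, t1 = true → ∀ t2 : Bool, t2 = true → ∀ t3 : Bool, t3 = false → ∀ t4 t5 t6 t7 t8 t9 t10 : Bool, (t8 = true → t3 = !t6) → (t8 = true → t10 = !t2) → (t1 = true → t3 = !t9) → (t9 = true → t5 = !t10) → (xor t4 (xor t6 (xor t2 (xor t9 (xor t10 false))))) = false → (xor t4 (xor t5 (xor t6 (xor t8 (xor t0 (xor t2 (xor t1 (xor t9 false)))))))) = false → (xor t6 (xor t7 (xor t0 (xor t2 (xor t9 (xor t10 false)))))) = false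 → t4 = true ∧ t5 = true ∧ t6 = true ∧ t7 = false ∧ t8 = true ∧ t9 = true ∧ t10 = false := by decide +kernel
  have nt3 : b (0, 1, 0, 0, 0) = false := off hL (by decide)
  obtain ⟨et4, et5, et6, et7, et8, et9, et10⟩ := key _ h.hx _ h.hxa _ h.hxe _ nt3 _ _ _ _ _ _ _ k15 k17 k27 k30 k50 k57 k63
  intro v
  constructor
  · intro hv
    have h1 := hL v hv
    simp only [List.mem_cons, List.not_mem_nil, or_false] at h1
    rcases h1 with rfl | rfl | rfl | rfl | rfl | rfl | rfl | rfl | rfl | rfl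
    · decide
    · decide
    · decide
    · rw [et7] at hv; exact absurd hv (by decide)
    · decide
    · decide
    · decide
    · decide
    · decide
    · rw [et10] at hv; exact absurd hv (by decide)
  · intro hv
    simp only [listBd, List.mem_cons, List.not_mem_nil, or_false] at hv
    rcases hv with rfl | rfl | rfl | rfl | rfl | rfl | rfl | rfl
    · exact h.hx
    · exact h.hxa
    · exact h.hxe
    · exact et4
    · exact et6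
    · exact et5
    · exact et9
    · exact et8

theorem case1011 {b : Code → Bool} (h : Tab 1 0 1 1 b) : False := by
  have hL : ∀ v, b v = true → v ∈ ([(0, 0, 1, 0, 1), (0, 0, 1, 1, 0), (0, 1, 0, 0, 0), (0, 1, 0, 0, 1), (0, 1, 1, 1, 1), (1, 0, 0, 0, 0), (1, 0, 0, 0, 1), (1, 0, 0, 1, 0), (1, 1, 0, 1, 0), (1, 1, 1, 1, 0)] : List Code) := h.supp _ (by decide +kernel)
  have k33 : b (1, 1, 0, 1, 0) = true → b (1, 1, 1, 1, 0) = !b (0, 0, 1, 0, 0) := h.clean (1, 1, 0, 1, 0) (1, 1, 1, 1, 0) (by decide +kernel) (by decide +kernel)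
    (by decide +kernel) (by decide) (by decide)
  have k37 : b (1, 1, 1, 1, 0) = true → b (1, 1, 0, 1, 0) = !b (0, 0, 1, 0, 0) := h.clean (1, 1, 1, 1, 0) (1, 1, 0, 1, 0) (by decide +kernel) (by decide +kernel)
    (by decide +kernel) (by decide) (by decide)
  have k53 : (xor (b (1, 0, 0, 0, 0)) (xor (b (1, 0, 0, 0, 1)) (xor (b (1, 0, 0, 1, 0)) (xor (b (1, 1, 0, 1, 0)) (xor (b (1, 1, 1, 1, 0)) false))))) = false := h.xor_list (1, 0, 0, 0, 0) [(0, 0, 1, 0, 1), (0, 0, 1, 1, 0), (0, 1, 0, 0, 0), (0, 1, 0, 0, 1), (0, 1, 1, 1, 1), (1, 0, 0, 0, 0), (1, 0, 0, 0, 1), (1, 0, 0, 1, 0), (1, 1, 0, 1, 0), (1, 1, 1, 1, 0)] (by decide) hL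
  have key : ∀ t0 : Bool, t0 = true → ∀ t1 : Bool, t1 = true → ∀ t2 : Bool, t2 = true → ∀ t3 : Bool, t3 = false → ∀ t4 t5 : Bool, (t4 = true → t5 = !t3) → (t5 = true → t4 = !t3) → (xor t0 (xor t2 (xor t1 (xor t4 (xor t5 false))))) = false → False := by decide +kernel
  have nt3 : b (0, 0, 1, 0, 0) = false := off hL (by decide)
  exact key _ h.hx _ h.hxa _ h.hxe _ nt3 _ _ k33 k37 k53

theorem case1100 {b : Code → Bool} (h : Tab 1 1 0 0 b) : False := by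
  have hL : ∀ v, b v = true → v ∈ ([(0, 0, 1, 1, 0), (0, 1, 0, 0, 1), (0, 1, 1, 0, 0), (0, 1, 1, 1, 1), (1, 0, 0, 0, 0), (1, 0, 0, 0, 1), (1, 0, 0, 1, 0), (1, 0, 1, 0, 1), (1, 1, 0, 1, 0)] : List Code) := h.supp _ (by decide +kernel)
  have k19 : b (1, 0, 0, 0, 1) = true → b (0, 0, 1, 0, 0) = !b (1, 0, 1, 0, 1) := h.clean (1, 0, 0, 0, 1) (0, 0, 1, 0, 0) (by decide +kernel) (by decide +kernel)
    (by decide +kernel) (by decide) (by decide)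
  have k25 : b (1, 0, 0, 1, 0) = true → b (1, 1, 0, 1, 0) = !b (0, 1, 0, 0, 0) := h.clean (1, 0, 0, 1, 0) (1, 1, 0, 1, 0) (by decide +kernel) (by decide +kernel)
    (by decide +kernel) (by decide) (by decide)
  have k49 : (xor (b (1, 0, 0, 0, 0)) (xor (b (1, 0, 0, 0, 1)) (xor (b (1, 0, 0, 1, 0)) (xor (b (1, 0, 1, 0, 1)) (xor (b (1, 1, 0, 1, 0)) false))))) = false := h.xor_list (1, 0, 0, 0, 0) [(0, 0, 1, 1, 0), (0, 1, 0, 0, 1), (0, 1, 1, 0, 0), (0, 1, 1, 1, 1), (1, 0, 0, 0, 0), (1, 0, 0, 0, 1), (1, 0, 0, 1, 0), (1, 0, 1, 0, 1), (1, 1, 0, 1, 0)] (by decide) hL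
  have key : ∀ t0 : Bool, t0 = true → ∀ t1 : Bool, t1 = true → ∀ t2 : Bool, t2 = true → ∀ t3 : Bool, t3 = false → ∀ t4 : Bool, t4 = false → ∀ t5 t6 : Bool, (t2 = true → t3 = !t5) → (t1 = true → t6 = !t4) → (xor t0 (xor t2 (xor t1 (xor t5 (xor t6 false))))) = false → False := by decide +kernel
  have nt3 : b (0, 0, 1, 0, 0) = false := off hL (by decide)
  have nt4 : b (0, 1, 0, 0, 0) = false := off hL (by decide)
  exact key _ h.hx _ h.hxa _ h.hxe _ nt3 _ nt4 _ _ k19 k25 k49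

theorem case1101 {b : Code → Bool} (h : Tab 1 1 0 1 b) : ∀ v, b v = true ↔ v ∈ listC := by
  have hL : ∀ v, b v = true → v ∈ ([(0, 0, 1, 0, 0), (0, 0, 1, 1, 0), (0, 1, 0, 0, 0), (0, 1, 0, 0, 1), (1, 0, 0, 0, 0), (1, 0, 0, 0, 1), (1, 0, 0, 1, 0), (1, 0, 1, 0, 1), (1, 1, 0, 1, 0), (1, 1, 1, 0, 0), (1, 1, 1, 1, 1)] : List Code) := h.supp _ (by decide +kernel)
  have k8 : b (0, 1, 0, 0, 0) = true → b (0, 0, 0, 0, 1) = !b (0, 1, 0, 0, 1) := h.clean (0, 1, 0, 0, 0) (0, 0, 0, 0, 1) (by decide +kernel) (by decide +kernel)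
    (by decide +kernel) (by decide) (by decide)
  have k15 : b (0, 1, 0, 0, 1) = true → b (1, 1, 1, 0, 0) = !b (1, 0, 1, 0, 1) := h.clean (0, 1, 0, 0, 1) (1, 1, 1, 0, 0) (by decide +kernel) (by decide +kernel)
    (by decide +kernel) (by decide) (by decide)
  have k27 : b (1, 0, 0, 1, 0) = true → b (1, 1, 0, 1, 0) = !b (0, 1, 0, 0, 0) := h.clean (1, 0, 0, 1, 0) (1, 1, 0, 1, 0) (by decide +kernel) (by decide +kernel)
    (by decide +kernel) (by decide) (by decide)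
  have k32 : b (1, 1, 0, 1, 0) = true → b (0, 0, 1, 1, 0) = !b (1, 1, 1, 0, 0) := h.clean (1, 1, 0, 1, 0) (0, 0, 1, 1, 0) (by decide +kernel) (by decide +kernel)
    (by decide +kernel) (by decide) (by decide)
  have k48 : (xor (b (0, 1, 0, 0, 0)) (xor (b (1, 0, 0, 0, 1)) (xor (b (1, 0, 1, 0, 1)) (xor (b (1, 1, 0, 1, 0)) (xor (b (1, 1, 1, 0, 0)) false))))) = false := h.xor_list (0, 1, 0, 0, 1) [(0, 0, 1, 0, 0), (0, 0, 1, 1, 0), (0, 1, 0, 0, 0), (0, 1, 0, 0, 1), (1, 0, 0, 0, 0), (1, 0, 0, 0, 1), (1, 0, 0, 1, 0), (1, 0, 1, 0, 1), (1, 1, 0, 1, 0), (1, 1, 1, 0, 0), (1, 1, 1, 1, 1)] (by decide) hL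
  have k50 : (xor (b (0, 0, 1, 1, 0)) (xor (b (0, 1, 0, 0, 0)) (xor (b (1, 0, 0, 0, 1)) (xor (b (1, 0, 0, 1, 0)) (xor (b (1, 0, 1, 0, 1)) (xor (b (1, 1, 1, 0, 0)) (xor (b (1, 1, 1, 1, 1)) false))))))) = false := h.xor_list (0, 1, 0, 1, 1) [(0, 0, 1, 0, 0), (0, 0, 1, 1, 0), (0, 1, 0, 0, 0), (0, 1, 0, 0, 1), (1, 0, 0, 0, 0), (1, 0, 0, 0, 1), (1, 0, 0, 1, 0), (1, 0, 1, 0, 1), (1, 1, 0, 1, 0), (1, 1, 1, 0, 0), (1, 1, 1, 1, 1)] (by decide) hL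
  have k60 : (xor (b (0, 0, 1, 0, 0)) (xor (b (0, 0, 1, 1, 0)) (xor (b (0, 1, 0, 0, 1)) (xor (b (1, 0, 0, 0, 0)) (xor (b (1, 0, 0, 1, 0)) (xor (b (1, 0, 1, 0, 1)) (xor (b (1, 1, 0, 1, 0)) (xor (b (1, 1, 1, 1, 1)) false)))))))) = false := h.xor_list (1, 0, 1, 0, 1) [(0, 0, 1, 0, 0), (0, 0, 1, 1, 0), (0, 1, 0, 0, 0), (0, 1, 0, 0, 1), (1, 0, 0, 0, 0), (1, 0, 0, 0, 1), (1, 0, 0, 1, 0), (1, 0, 1, 0, 1), (1, 1, 0, 1, 0), (1, 1, 1, 0, 0), (1, 1, 1, 1, 1)] (by decide) hL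
  have k63 : (xor (b (0, 1, 0, 0, 0)) (xor (b (0, 1, 0, 0, 1)) (xor (b (1, 0, 0, 0, 0)) (xor (b (1, 0, 0, 0, 1)) (xor (b (1, 0, 0, 1, 0)) (xor (b (1, 0, 1, 0, 1)) false)))))) = false := h.xor_list (1, 1, 0, 0, 0) [(0, 0, 1, 0, 0), (0, 0, 1, 1, 0), (0, 1, 0, 0, 0), (0, 1, 0, 0, 1), (1, 0, 0, 0, 0), (1, 0, 0, 0, 1), (1, 0, 0, 1, 0), (1, 0, 1, 0, 1), (1, 1, 0, 1, 0), (1, 1, 1, 0, 0), (1, 1, 1, 1, 1)] (by decide) hL
  have key : ∀ t0 : Bool, t0 = true → ∀ t1 : Bool, t1 = true → ∀ t2 : Bool, t2 = true → ∀ t3 : Bool, t3 = false → ∀ t4 t5 t6 t7 t8 t9 t10 t11 : Bool, (t6 = true → t3 = !t7) → (t7 = true → t10 = !t8) → (t1 = true → t9 = !t6) → (t9 = true → t5 = !t10) → (xor t6 (xor t2 (xor t8 (xor t9 (xor t10 false))))) = false → (xor t5 (xor t6 (xor t2 (xor t1 (xor t8 (xor t10 (xor t11 false))))))) = false → (xor t4 (xor t5 (xor t7 (xor t0 (xor t1 (xor t8 (xor t9 (xor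 t11 false)))))))) = false → (xor t6 (xor t7 (xor t0 (xor t2 (xor t1 (xor t8 false)))))) = false → t4 = false ∧ t5 = false ∧ t6 = false ∧ t7 = false ∧ t8 = true ∧ t9 = true ∧ t10 = true ∧ t11 = false := by decide +kernel
  have nt3 : b (0, 0, 0, 0, 1) = false := off hL (by decide)
  obtain ⟨et4, et5, et6, et7, et8, et9, et10, et11⟩ := key _ h.hx _ h.hxa _ h.hxe _ nt3 _ _ _ _ _ _ _ _ k8 k15 k27 k32 k48 k50 k60 k63
  intro v
  constructor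
  · intro hv
    have h1 := hL v hv
    simp only [List.mem_cons, List.not_mem_nil, or_false] at h1
    rcases h1 with rfl | rfl | rfl | rfl | rfl | rfl | rfl | rfl | rfl | rfl | rfl
    · rw [et4] at hv; exact absurd hv (by decide)
    · rw [et5] at hv; exact absurd hv (by decide)
    · rw [et6] at hv; exact absurd hv (by decide)
    · rw [et7] at hv; exact absurd hv (by decide)
    · decide
    · decide
    · decide
    · decide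
    · decide
    · decide
    · rw [et11] at hv; exact absurd hv (by decide)
  · intro hv
    simp only [listC, List.mem_cons, List.not_mem_nil, or_false] at hv
    rcases hv with rfl | rfl | rfl | rfl | rfl | rfl
    · exact h.hx
    · exact h.hxa
    · exact h.hxe
    · exact et9
    · exact et8
    · exact et10

theorem case1110 {b : Code → Bool} (h : Tab 1 1 1 0 b) : False := by
  have hL : ∀ v, b v = true → v ∈ ([(0, 0, 1, 0, 0), (0, 0, 1, 1, 0), (0, 1, 0, 0, 1), (0, 1, 1, 1, 0), (1, 0, 0, 0, 0), (1, 0, 0, 0, 1), (1, 0, 0, 1, 0), (1, 0, 1, 0, 1), (1, 1, 0, 1, 0), (1, 1, 1, 0, 1)] : List Code) := h.supp _ (by decide +kernel)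
  have k8 : b (0, 1, 0, 0, 1) = true → b (0, 0, 0, 0, 1) = !b (0, 1, 0, 0, 0) := h.clean (0, 1, 0, 0, 1) (0, 0, 0, 0, 1) (by decide +kernel) (by decide +kernel)
    (by decide +kernel) (by decide) (by decide)
  have k25 : b (1, 0, 1, 0, 1) = true → b (0, 1, 0, 0, 0) = !b (1, 1, 1, 0, 1) := h.clean (1, 0, 1, 0, 1) (0, 1, 0, 0, 0) (by decide +kernel) (by decide +kernel)
    (by decide +kernel) (by decide) (by decide)
  have k31 : b (1, 1, 1, 0, 1) = true → b (1, 0, 1, 0, 1) = !b (0, 1, 0, 0, 0) := h.clean (1, 1, 1, 0, 1) (1, 0, 1, 0, 1) (by decide +kernel) (by decide +kernel)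
    (by decide +kernel) (by decide) (by decide)
  have k32 : (xor (b (0, 1, 0, 0, 1)) (xor (b (1, 0, 0, 0, 1)) (xor (b (1, 0, 1, 0, 1)) (xor (b (1, 1, 1, 0, 1)) false)))) = false := h.xor_list (0, 0, 0, 0, 1) [(0, 0, 1, 0, 0), (0, 0, 1, 1, 0), (0, 1, 0, 0, 1), (0, 1, 1, 1, 0), (1, 0, 0, 0, 0), (1, 0, 0, 0, 1), (1, 0, 0, 1, 0), (1, 0, 1, 0, 1), (1, 1, 0, 1, 0), (1, 1, 1, 0, 1)] (by decide) hL
  have key : ∀ t0 : Bool, t0 = true → ∀ t1 : Bool, t1 = false → ∀ t2 : Bool, t2 = false → ∀ t3 t4 t5 : Bool, (t3 = true → t1 = !t2) → (t4 = true → t2 = !t5) → (t5 = true → t4 = !t2) → (xor t3 (xor t0 (xor t4 (xor t5 false)))) = false → False := by decide +kernel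
  have nt1 : b (0, 0, 0, 0, 1) = false := off hL (by decide)
  have nt2 : b (0, 1, 0, 0, 0) = false := off hL (by decide)
  exact key _ h.hxe _ nt1 _ nt2 _ _ _ k8 k25 k31 k32

theorem case1111 {b : Code → Bool} (h : Tab 1 1 1 1 b) : False := by
  have hL : ∀ v, b v = true → v ∈ ([(0, 0, 1, 1, 0), (0, 1, 0, 0, 0), (0, 1, 0, 0, 1), (0, 1, 1, 0, 1), (1, 0, 0, 0, 0), (1, 0, 0, 0, 1), (1, 0, 0, 1, 0), (1, 0, 1, 0, 1), (1, 1, 0, 1, 0), (1, 1, 1, 1, 0)] : List Code) := h.supp _ (by decide +kernel)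
  have k1 : b (0, 0, 1, 1, 0) = true → b (0, 0, 1, 0, 0) = !b (0, 0, 0, 1, 0) := h.clean (0, 0, 1, 1, 0) (0, 0, 1, 0, 0) (by decide +kernel) (by decide +kernel)
    (by decide +kernel) (by decide) (by decide)
  have k19 : b (1, 0, 0, 0, 1) = true → b (1, 0, 1, 0, 1) = !b (0, 0, 1, 0, 0) := h.clean (1, 0, 0, 0, 1) (1, 0, 1, 0, 1) (by decide +kernel) (by decide +kernel)
    (by decide +kernel) (by decide) (by decide)
  have k49 : (xor (b (0, 0, 1, 1, 0)) (xor (b (1, 0, 0, 0, 0)) (xor (b (1, 0, 0, 0, 1)) (xor (b (1, 0, 1, 0, 1)) false)))) = false := h.xor_list (1, 0, 0, 1, 0) [(0, 0, 1, 1, 0), (0, 1, 0, 0, 0), (0, 1, 0, 0, 1), (0, 1, 1, 0, 1), (1, 0, 0, 0, 0), (1, 0, 0, 0, 1), (1, 0, 0, 1, 0), (1, 0, 1, 0, 1), (1, 1, 0, 1, 0), (1, 1, 1, 1, 0)] (by decide) hL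
  have key : ∀ t0 : Bool, t0 = true → ∀ t1 : Bool, t1 = true → ∀ t2 : Bool, t2 = false → ∀ t3 : Bool, t3 = false → ∀ t4 t5 : Bool, (t4 = true → t3 = !t2) → (t1 = true → t5 = !t3) → (xor t4 (xor t0 (xor t1 (xor t5 false)))) = false → False := by decide +kernel
  have nt2 : b (0, 0, 0, 1, 0) = false := off hL (by decide)
  have nt3 : b (0, 0, 1, 0, 0) = false := off hL (by decide)
  exact key _ h.hx _ h.hxe _ nt2 _ nt3 _ _ k1 k19 k49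

/-- the four survivors -/
theorem cases : ∀ {c d r s : ZMod 2} {b : Code → Bool}, Tab c d r s b →
    (c = 0 ∧ d = 0 ∧ r = 0 ∧ s = 1 ∧ ∀ v, b v = true ↔ v ∈ listA) ∨
    (c = 0 ∧ d = 1 ∧ r = 1 ∧ s = 1 ∧ ∀ v, b v = true ↔ v ∈ listB) ∨
    (c = 1 ∧ d = 0 ∧ r = 1 ∧ s = 0 ∧ ∀ v, b v = true ↔ v ∈ listBd) ∨
    (c = 1 ∧ d = 1 ∧ r = 0 ∧ s = 1 ∧ ∀ v, b v = true ↔ v ∈ listC) := by
  intro c d r s b h
  rcases zmod2 c with rfl | rfl <;> rcases zmod2 d with rfl | rfl <;> rcases zmod2 r with rfl | rfl <;>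
    rcases zmod2 s with rfl | rfl
  · exact (case0000 h).elim
  · exact Or.inl ⟨rfl, rfl, rfl, rfl, case0001 h⟩
  · exact (case0010 h).elim
  · exact (case0011 h).elim
  · exact (case0100 h).elim
  · exact (case0101 h).elim
  · exact (case0110 h).elim
  · exact Or.inr (Or.inl ⟨rfl, rfl, rfl, rfl, case0111 h⟩)
  · exact (case1000 h).elim
  · exact (case1001 h).elim
  · exact Or.inr (Or.inr (Or.inl ⟨rfl, rfl, rfl, rfl, case1010 h⟩))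
  · exact (case1011 h).elim
  · exact (case1100 h).elim
  · exact Or.inr (Or.inr (Or.inr ⟨rfl, rfl, rfl, rfl, case1101 h⟩))
  · exact (case1110 h).elim
  · exact (case1111 h).elim

end Tab

end Cfsg.Agent.OddHalf.D6.SixU
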