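import Mathlib

/-!
# ODD D6, `q = 9`, case C3a (B): permutations of degree six (helper680)

`pa = (01)`, `pe = (02)(13)`, `pf = (45)`, `pz = (01)(23) = [pa, pe]`, `ph = pf pz`, `pr = (012)`, `ps = (024)(135)`.
`theta` is the outer automorphism of `S6` of order two with `pa ↔ pe ph`, `pe ↔ pa pf`, `pf ↔ ph`, `pr ↔ ps`.
-/

set_option autoImplicit false

namespace Cfsg.Agent.OddHalf.D6.SixU

open Equiv

/-- permutations of degree six -/
abbrev P6 := Perm (Fin 6)

def pa : P6 := swap 0 1
def pe : P6 := swap 0 2 * swap 1 3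
def pf : P6 := swap 4 5
def pz : P6 := swap 0 1 * swap 2 3
def ph : P6 := swap 0 1 * swap 2 3 * swap 4 5
/-- `(012)` -/
def pr : P6 := swap 0 1 * swap 1 2
/-- `(024)(135)` -/
def ps : P6 := swap 0 2 * swap 2 4 * (swap 1 3 * swap 3 5)

/-- the images of the transpositions under the outer automorphism -/
def syn (i j : Fin 6) : P6 :=
  (![![1, swap 0 3 * swap 1 2 * swap 4 5, swap 0 5 * swap 1 4 * swap 2 3, swap 0 1 * swap 2 4 * swap 3 5,
      swap 0 4 * swap 1 3 * swap 2 5, swap 0 2 * swap 1 5 * swap 3 4],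
    ![swap 0 3 * swap 1 2 * swap 4 5, 1, swap 0 1 * swap 2 5 * swap 3 4, swap 0 4 * swap 1 5 * swap 2 3,
      swap 0 2 * swap 1 4 * swap 3 5, swap 0 5 * swap 1 3 * swap 2 4],
    ![swap 0 5 * swap 1 4 * swap 2 3, swap 0 1 * swap 2 5 * swap 3 4, 1, swap 0 2 * swap 1 3 * swap 4 5,
      swap 0 3 * swap 1 5 * swap 2 4, swap 0 4 * swap 1 2 * swap 3 5],
    ![swap 0 1 * swap 2 4 * swap 3 5, swap 0 4 * swap 1 5 * swap 2 3, swap 0 2 * swap 1 3 * swap 4 5, 1,
      swap 0 5 * swap 1 2 * swap 3 4, swap 0 3 * swap 1 4 * swap 2 5],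
    ![swap 0 4 * swap 1 3 * swap 2 5, swap 0 2 * swap 1 4 * swap 3 5, swap 0 3 * swap 1 5 * swap 2 4,
      swap 0 5 * swap 1 2 * swap 3 4, 1, swap 0 1 * swap 2 3 * swap 4 5],
    ![swap 0 2 * swap 1 5 * swap 3 4, swap 0 5 * swap 1 3 * swap 2 4, swap 0 4 * swap 1 2 * swap 3 5,
      swap 0 3 * swap 1 4 * swap 2 5, swap 0 1 * swap 2 3 * swap 4 5, 1]] : Fin 6 → Fin 6 → P6) i j

/-- `v` acts on the indices of the table as `u` acts by conjugation -/
def Rel (u v : P6) : Prop := ∀ i j, v * syn i j * v⁻¹ = syn (u i) (u j)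

theorem rel_swap : ∀ k l : Fin 6, k ≠ l → ∀ i j, syn k l * syn i j * (syn k l)⁻¹ = syn (swap k l i) (swap k l j) := by
  decide +kernel

theorem Rel.mul {u v u' v' : P6} (h : Rel u v) (h' : Rel u' v') : Rel (u * u') (v * v') := by
  intro i j
  calc v * v' * syn i j * (v * v')⁻¹ = v * (v' * syn i j * v'⁻¹) * v⁻¹ := by group
    _ = syn ((u * u') i) ((u * u') j) := by rw [h', h]; rfl

theorem rel_one : Rel 1 1 := by
  intro i j
  simp

theorem exists_rel (u : P6) : ∃ v, Rel u v := by
  induction u using Equiv.Perm.swap_induction_on with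
  | one => exact ⟨1, rel_one⟩
  | swap_mul u x y hxy ih =>
    obtain ⟨v, hv⟩ := ih
    exact ⟨syn x y * v, Rel.mul (rel_swap x y hxy) hv⟩

theorem rel_one_aux : ∀ v : P6, v * syn 0 1 * v⁻¹ = syn 0 1 → v * syn 0 2 * v⁻¹ = syn 0 2 →
    v * syn 0 3 * v⁻¹ = syn 0 3 → v * syn 0 4 * v⁻¹ = syn 0 4 → v = 1 := by
  decide +kernel

theorem rel_one_right {v : P6} (h : Rel 1 v) : v = 1 :=
  rel_one_aux v (h 0 1) (h 0 2) (h 0 3) (h 0 4)

theorem Rel.inv {u v : P6} (h : Rel u v) : Rel u⁻¹ v⁻¹ := by
  intro i j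
  have h1 := h (u⁻¹ i) (u⁻¹ j)
  have e1 : u (u⁻¹ i) = i := u.apply_symm_apply i
  have e2 : u (u⁻¹ j) = j := u.apply_symm_apply j
  rw [e1, e2] at h1
  rw [← h1]
  group

theorem Rel.unique {u v w : P6} (h : Rel u v) (h' : Rel u w) : v = w := by
  have h1 := Rel.mul h h'.inv
  rw [mul_inv_cancel] at h1
  exact mul_inv_eq_one.1 (rel_one_right h1)

/-- the outer automorphism (as a homomorphism) -/
noncomputable def theta : P6 →* P6 where
  toFun u := (exists_rel u).choose
  map_one' := (exists_rel 1).choose_spec.unique rel_one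
  map_mul' u v := (exists_rel (u * v)).choose_spec.unique
    (Rel.mul (exists_rel u).choose_spec (exists_rel v).choose_spec)

theorem theta_spec (u : P6) : Rel u (theta u) := (exists_rel u).choose_spec

theorem theta_eq {u v : P6} (h : Rel u v) : theta u = v := (theta_spec u).unique h

theorem theta_swap {i j : Fin 6} (h : i ≠ j) : theta (swap i j) = syn i j := theta_eq (rel_swap i j h)

theorem theta_pa : theta pa = pe * ph := by
  rw [pa, theta_swap (by decide)]; decide +kernel

theorem theta_pf : theta pf = ph := by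
  rw [pf, theta_swap (by decide)]; decide +kernel

theorem theta_pe : theta pe = pa * pf := by
  rw [pe, map_mul, theta_swap (by decide), theta_swap (by decide)]; decide +kernel

theorem theta_pz : theta pz = pz := by
  rw [pz, map_mul, theta_swap (by decide), theta_swap (by decide)]; decide +kernel

theorem theta_ph : theta ph = pf := by
  rw [ph, map_mul, map_mul, theta_swap (by decide), theta_swap (by decide), theta_swap (by decide)]; decide +kernel

theorem theta_pr : theta pr = ps := by
  rw [pr, map_mul, theta_swap (by decide), theta_swap (by decide)]; decide +kernel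

theorem theta_ps : theta ps = pr := by
  rw [ps, map_mul, map_mul, map_mul, theta_swap (by decide), theta_swap (by decide), theta_swap (by decide),
    theta_swap (by decide)]; decide +kernel

theorem rel_syn : ∀ k l : Fin 6, k ≠ l → ∀ i j, swap k l * syn i j * (swap k l)⁻¹ = syn (syn k l i) (syn k l j) := by
  decide +kernel

theorem theta_theta (u : P6) : theta (theta u) = u := by
  induction u using Equiv.Perm.swap_induction_on with
  | one => rw [map_one, map_one]
  | swap_mul u x y hxy ih =>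
    rw [map_mul, map_mul, ih, theta_swap hxy, theta_eq (rel_syn x y hxy)]

theorem theta_inj : Function.Injective theta := fun u v h => by
  rw [← theta_theta u, h, theta_theta]

theorem theta_surj : Function.Surjective theta := fun u => ⟨theta u, theta_theta u⟩

end Cfsg.Agent.OddHalf.D6.SixU
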