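import Cfsg.Agent.OddHalf.D6.Six.TF
import Cfsg.Agent.OddHalf.D6.SixU.Perms

/-!
# ODD D6, `q = 9`, case C3a (B): the frame (helper680)

`SixB x φ`: `C_G(x) = ⟨x⟩ × φ(S6)`, `x φ(u) ∈ x^G`, `φ(u) ∉ x^G` for all involutions `u` of `S6`.
-/

set_option autoImplicit false

namespace Cfsg.Agent.OddHalf.D6.SixU

open Subgroup Equiv

variable {G : Type*} [Group G]

/-- the situation (B) of C3a -/
structure SixB (x : G) (φ : P6 →* G) : Prop where
  xx : x * x = 1
  inj : Function.Injective φ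
  comm : ∀ a, x * φ a = φ a * x
  cent : ∀ g, g * x = x * g → (∃ a, g = φ a) ∨ ∃ a, g = x * φ a
  ne : ∀ a, φ a ≠ x
  fus : ∀ u, u * u = 1 → u ≠ 1 → IsConj x (x * φ u)
  nfus : ∀ u, u * u = 1 → u ≠ 1 → ¬ IsConj x (φ u)

namespace SixB

variable {x : G} {φ : P6 →* G}

theorem x1 (H : SixB x φ) : x ≠ 1 := fun h => H.ne 1 (by rw [map_one, h])

theorem x_inv (H : SixB x φ) : x⁻¹ = x := inv_eq_of_mul_eq_one_left H.xx

theorem comm' (H : SixB x φ) (a : P6) : φ a * x = x * φ a := (H.comm a).symm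

theorem xne (H : SixB x φ) (a b : P6) : φ a ≠ x * φ b := by
  intro e
  apply H.ne (a * b⁻¹)
  rw [map_mul, map_inv, e, mul_assoc, mul_inv_cancel, mul_one]

theorem cases (H : SixB x φ) {g : G} (hg : g * x = x * g) : ∃ u : P6, g = φ u ∨ g = x * φ u := by
  rcases H.cent g hg with ⟨a, ha⟩ | ⟨a, ha⟩
  · exact ⟨a, Or.inl ha⟩
  · exact ⟨a, Or.inr ha⟩

theorem phi_eq_one (H : SixB x φ) {a : P6} (e : φ a = 1) : a = 1 := H.inj (e.trans (map_one φ).symm)

theorem not_isConj_one (H : SixB x φ) : ¬ IsConj x 1 := fun h => H.x1 (isConj_one_right.1 h.symm)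

/-- transport by conjugation -/
theorem conj (H : SixB x φ) (g : G) : SixB (g * x * g⁻¹) ((MulAut.conj g).toMonoidHom.comp φ) where
  xx := by
    calc g * x * g⁻¹ * (g * x * g⁻¹) = g * (x * x) * g⁻¹ := by group
      _ = 1 := by rw [H.xx]; group
  inj := (MulAut.conj g).injective.comp H.inj
  comm := by
    intro a
    show g * x * g⁻¹ * (g * φ a * g⁻¹) = g * φ a * g⁻¹ * (g * x * g⁻¹)
    calc g * x * g⁻¹ * (g * φ a * g⁻¹) = g * (x * φ a) * g⁻¹ := by group
      _ = g * (φ a * x) * g⁻¹ := by rw [H.comm a]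
      _ = g * φ a * g⁻¹ * (g * x * g⁻¹) := by group
  cent := by
    intro k hk
    have h1 : (g⁻¹ * k * g) * x = x * (g⁻¹ * k * g) := by
      calc (g⁻¹ * k * g) * x = g⁻¹ * (k * (g * x * g⁻¹)) * g := by group
        _ = g⁻¹ * (g * x * g⁻¹ * k) * g := by rw [hk]
        _ = x * (g⁻¹ * k * g) := by group
    rcases H.cent _ h1 with ⟨a, ha⟩ | ⟨a, ha⟩
    · left
      refine ⟨a, ?_⟩
      show k = g * φ a * g⁻¹
      rw [← ha]; group
    · right
      refine ⟨a, ?_⟩
      show k = g * x * g⁻¹ * (g * φ a * g⁻¹)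
      calc k = g * (g⁻¹ * k * g) * g⁻¹ := by group
        _ = g * x * g⁻¹ * (g * φ a * g⁻¹) := by rw [ha]; group
  ne := by
    intro a e
    apply H.ne a
    have e' : g * φ a * g⁻¹ = g * x * g⁻¹ := e
    exact mul_left_cancel (mul_right_cancel e')
  fus := by
    intro u h1 h2
    have h3 : g * x * g⁻¹ * ((MulAut.conj g).toMonoidHom.comp φ) u = g * (x * φ u) * g⁻¹ := by
      show g * x * g⁻¹ * (g * φ u * g⁻¹) = _
      group
    rw [h3]
    exact (isConj_iff.2 ⟨g⁻¹, by group⟩ : IsConj (g * x * g⁻¹) x).trans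
      ((H.fus u h1 h2).trans (isConj_iff.2 ⟨g, rfl⟩))
  nfus := by
    intro u h1 h2 h3
    apply H.nfus u h1 h2
    have h4 : IsConj (g * x * g⁻¹) (g * φ u * g⁻¹) := h3
    exact (isConj_iff.2 ⟨g, rfl⟩ : IsConj x (g * x * g⁻¹)).trans
      (h4.trans (isConj_iff.2 ⟨g⁻¹, by group⟩))

/-- the duality -/
theorem dual (H : SixB x φ) : SixB x (φ.comp theta) where
  xx := H.xx
  inj := H.inj.comp theta_inj
  comm := fun a => H.comm _
  cent := by
    intro g hg
    rcases H.cent g hg with ⟨a, ha⟩ | ⟨a, ha⟩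
    · left
      obtain ⟨b, hb⟩ := theta_surj a
      exact ⟨b, by rw [MonoidHom.comp_apply, hb, ha]⟩
    · right
      obtain ⟨b, hb⟩ := theta_surj a
      exact ⟨b, by rw [MonoidHom.comp_apply, hb, ha]⟩
  ne := fun a => H.ne _
  fus := by
    intro u h1 h2
    refine H.fus _ ?_ ?_
    · rw [← map_mul, h1, map_one]
    · intro h
      exact h2 (theta_inj (by rw [h, map_one]))
  nfus := by
    intro u h1 h2
    refine H.nfus _ ?_ ?_
    · rw [← map_mul, h1, map_one]
    · intro h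
      exact h2 (theta_inj (by rw [h, map_one]))

/-- the clean rule at `x` -/
theorem clean_x (H : SixB x φ) {v : G} (hv : v * v = 1) (h1 : v ≠ 1) (hvx : v ≠ x) (hc : v * x = x * v) :
    IsConj x v ↔ ¬ IsConj x (x * v) := by
  obtain ⟨u, hu | hu⟩ := H.cases hc
  · have h2 : u * u = 1 := H.phi_eq_one (by rw [map_mul, ← hu, hv])
    have h3 : u ≠ 1 := fun h => h1 (by rw [hu, h, map_one])
    rw [hu]
    exact ⟨fun h => absurd h (H.nfus u h2 h3), fun h => absurd (H.fus u h2 h3) h⟩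
  · have h2 : u * u = 1 := by
      apply H.phi_eq_one
      rw [map_mul]
      calc φ u * φ u = (x * x) * φ u * φ u := by rw [H.xx, one_mul]
        _ = x * (x * φ u) * φ u := by group
        _ = x * (φ u * x) * φ u := by rw [H.comm u]
        _ = x * φ u * (x * φ u) := by group
        _ = 1 := by rw [← hu, hv]
    have h3 : u ≠ 1 := fun h => hvx (by rw [hu, h, map_one, mul_one])
    rw [hu, ← mul_assoc, H.xx, one_mul]
    exact ⟨fun _ => H.nfus u h2 h3, fun _ => H.fus u h2 h3⟩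

/-- THE CLEAN RULE: `d ∈ D`, `v ≠ d` an involution commuting with `d`: exactly one of `v`, `d v` is in `D` -/
theorem clean (H : SixB x φ) {d v : G} (hd : IsConj x d) (hv : v * v = 1) (h1 : v ≠ 1) (hvd : v ≠ d)
    (hc : v * d = d * v) : IsConj x v ↔ ¬ IsConj x (d * v) := by
  obtain ⟨g, rfl⟩ := isConj_iff.1 hd
  have h2 := (H.conj g).clean_x hv h1 hvd hc
  have h3 : ∀ w, IsConj (g * x * g⁻¹) w ↔ IsConj x w := fun w =>
    ⟨fun h => hd.trans h, fun h => hd.symm.trans h⟩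
  rwa [h3, h3] at h2

/-- `C_G(x) ≃ {1, x} × S6` -/
noncomputable def equivC (H : SixB x φ) : Bool × P6 ≃ centralizer ({x} : Set G) :=
  Equiv.ofBijective (fun p => ⟨(if p.1 then x else 1) * φ p.2, by
    rw [mem_centralizer_singleton_iff]
    split_ifs
    · rw [mul_assoc, H.comm' p.2]
    · rw [one_mul, H.comm]⟩)
    ⟨by
      rintro ⟨b, u⟩ ⟨b', u'⟩ h
      have h' : (if b then x else 1) * φ u = (if b' then x else 1) * φ u' := congrArg Subtype.val h
      rcases b <;> rcases b'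
      · simp only [Bool.false_eq_true, if_false, one_mul] at h'
        rw [H.inj h']
      · simp only [Bool.false_eq_true, if_false, one_mul, if_true] at h'
        exact absurd h' (H.xne _ _)
      · simp only [Bool.false_eq_true, if_false, one_mul, if_true] at h'
        exact absurd h'.symm (H.xne _ _)
      · simp only [if_true] at h'
        rw [H.inj (mul_left_cancel h')], by
      rintro ⟨g, hg⟩
      rcases H.cases (mem_centralizer_singleton_iff.1 hg) with ⟨u, hu | hu⟩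
      · exact ⟨(false, u), Subtype.ext (by simp [hu])⟩
      · exact ⟨(true, u), Subtype.ext (by simp [hu])⟩⟩

theorem card_C (H : SixB x φ) : Nat.card (centralizer ({x} : Set G)) = 1440 := by
  rw [← Nat.card_congr H.equivC, Nat.card_prod, Nat.card_eq_fintype_card, Nat.card_eq_fintype_card,
    Fintype.card_bool, Fintype.card_perm, Fintype.card_fin]
  rfl

end SixB

/-- no homomorphism onto `{±1}` -/
theorem hom_trivial (hG : ∀ H : Subgroup G, H.index ≠ 2) (lam : G →* ℤˣ) (u : G) : lam u = 1 := by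
  by_contra h
  apply hG lam.ker
  rw [Subgroup.index_ker]
  have h1 : lam.range = ⊤ := by
    rw [eq_top_iff]
    intro v _
    rcases Int.units_eq_one_or v with rfl | rfl
    · exact one_mem _
    · exact ⟨u, (Int.units_eq_one_or _).resolve_left h⟩
  rw [h1, Nat.card_congr (Subgroup.topEquiv (G := ℤˣ)).toEquiv, Nat.card_eq_fintype_card]
  rfl

/-- THE TRANSFER FORMULA for an injective homomorphism `Ψ : M → G` -/
theorem tf_hom [Finite G] (hG : ∀ H : Subgroup G, H.index ≠ 2) {x : G} (hx : x * x = 1)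
    {M : Type*} [Group M] (Ψ : M →* G) (hΨ : Function.Injective Ψ) (lam : M →* ℤˣ) :
    2 * Nat.card M ∣ Nat.card {m : M // IsConj x (Ψ m) ∧ lam m = -1} * Nat.card (centralizer ({x} : Set G)) := by
  have e := MonoidHom.ofInjective hΨ
  obtain ⟨k, hk, h⟩ := Six.TF.exists_even (hom_trivial hG) hx Ψ.range
    (lam.comp (MonoidHom.ofInjective hΨ).symm.toMonoidHom)
  have h1 : Nat.card Ψ.range = Nat.card M := Nat.card_congr e.symm.toEquiv
  have h2 : (Six.TF.Neg x Ψ.range (lam.comp (MonoidHom.ofInjective hΨ).symm.toMonoidHom)).ncard =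
      Nat.card {m : M // IsConj x (Ψ m) ∧ lam m = -1} := by
    symm
    refine Nat.card_congr (Equiv.ofBijective (fun m => ⟨Ψ m.1, m.2.1, ⟨m.1, rfl⟩, ?_⟩) ⟨?_, ?_⟩)
    · have h3 : (MonoidHom.ofInjective hΨ).symm ⟨Ψ m.1, ⟨m.1, rfl⟩⟩ = m.1 := by
        rw [MulEquiv.symm_apply_eq]
        rfl
      show lam ((MonoidHom.ofInjective hΨ).symm ⟨Ψ m.1, ⟨m.1, rfl⟩⟩) = -1
      rw [h3]; exact m.2.2
    · intro m m' hm
      exact Subtype.ext (hΨ (congrArg Subtype.val hm))
    · rintro ⟨d, hd, ⟨m, rfl⟩, h3⟩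
      refine ⟨⟨m, hd, ?_⟩, rfl⟩
      have h4 : (MonoidHom.ofInjective hΨ).symm ⟨Ψ m, ⟨m, rfl⟩⟩ = m := by
        rw [MulEquiv.symm_apply_eq]
        rfl
      have h5 : lam ((MonoidHom.ofInjective hΨ).symm ⟨Ψ m, ⟨m, rfl⟩⟩) = -1 := h3
      rwa [h4] at h5
  rw [h1, h2] at h
  rw [← h]
  obtain ⟨r, rfl⟩ := hk
  exact ⟨r, by ring⟩

end Cfsg.Agent.OddHalf.D6.SixU
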