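import Cfsg.Agent.OddHalf.D6.SixU.Survive
import Cfsg.Agent.OddHalf.D6.SixU.Ends0
import Cfsg.Agent.OddHalf.D6.Six.Parity

/-!
# ODD D6, `q = 9`, case C3a (B): the end of pattern gamma (helper680)

`H = N(x φ(A₁)) ∩ N({f, z})` has order 256 and preserves the blocks `B₀ = {x, x f₁, x f₂, x f₃}`, `x φ(A₁) - B₀`
(`f₁ = pf`, `f₂ = pa`, `f₃ = pa pz`); eight elements of `D ∩ H` exchange the blocks; `8 · 1440 = 45 · 256`.
-/

set_option autoImplicit false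

namespace Cfsg.Agent.OddHalf.D6.SixU

open Subgroup Equiv

variable {G : Type*} [Group G]

/-- `A₁ = ⟨pf, pz, pa⟩` is self-centralizing -/
def InB (u : P6) : Prop := u * pf = pf * u ∧ u * pz = pz * u ∧ u * pa = pa * u

instance : DecidablePred InB := fun u => by unfold InB; infer_instance

theorem inB_pu : ∀ a f z : ZMod 2, InB (pu a 0 f z) := by decide +kernel

theorem exists_inB : ∀ u : P6, InB u → ∃ a f z : ZMod 2, u = pu a 0 f z := by decide +kernel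

/-- `{1, f₁, f₂, f₃}` -/
def InS (u : P6) : Prop := u = 1 ∨ u = pf ∨ u = pa ∨ u = pa * pz

instance : DecidablePred InS := fun u => by unfold InS; infer_instance

/-- the action of `n` on `x` and `A₁` -/
structure Acts (x : G) (φ : P6 →* G) (n : G) (s0 s1 s2 s3 : P6) : Prop where
  ax : n * x * n⁻¹ = x * φ s0
  aa : n * φ pa * n⁻¹ = φ s1
  af : n * φ pf * n⁻¹ = φ s2
  az : n * φ pz * n⁻¹ = φ s3

/-- `x φ(A₁)` -/
def XA (x : G) (φ : P6 →* G) : Set G := {d | ∃ u, InB u ∧ d = x * φ u}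

/-- `B₀` -/
def B0 (x : G) (φ : P6 →* G) : Set G := {d | ∃ u, InS u ∧ d = x * φ u}

/-- `{f, z}` -/
def FZ (φ : P6 →* G) : Set G := {φ pf, φ pz}

theorem mem_normalizer_of [Finite G] {S : Set G} {n : G} (h : ∀ d ∈ S, n * d * n⁻¹ ∈ S) : n ∈ normalizer S := by
  have hinj : Set.InjOn (fun d => n * d * n⁻¹) S := fun a _ b _ hab => mul_left_cancel (mul_right_cancel hab)
  have h1 : (fun d => n * d * n⁻¹) '' S = S :=
    Set.eq_of_subset_of_ncard_le (by rintro _ ⟨d, hd, rfl⟩; exact h d hd)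
      hinj.ncard_image.ge (Set.toFinite _)
  rw [Subgroup.mem_set_normalizer_iff]
  intro d
  refine ⟨h d, fun hd => ?_⟩
  have h2 : n * d * n⁻¹ ∈ (fun d => n * d * n⁻¹) '' S := by rw [h1]; exact hd
  obtain ⟨e, he, h3⟩ := h2
  have h4 : n * e * n⁻¹ = n * d * n⁻¹ := h3
  rw [← mul_left_cancel (mul_right_cancel h4)]
  exact he

theorem conj_pw {n : G} (g : G) (i : ZMod 2) : n * pw g i * n⁻¹ = pw (n * g * n⁻¹) i := by
  rcases zmod2 i with rfl | rfl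
  · rw [pw_zero, pw_zero, mul_one, mul_inv_cancel]
  · rw [pw_one, pw_one]

theorem Acts.pu {x : G} {φ : P6 →* G} {n : G} {s0 s1 s2 s3 : P6} (h : Acts x φ n s0 s1 s2 s3)
    (a f z : ZMod 2) : n * φ (pu a 0 f z) * n⁻¹ = φ (pw s1 a * pw s2 f * pw s3 z) := by
  have e1 : n * φ (SixU.pu a 0 f z) * n⁻¹ = (n * pw (φ pa) a * n⁻¹) * (n * pw (φ pf) f * n⁻¹) *
      (n * pw (φ pz) z * n⁻¹) := by
    rw [SixU.pu, pw_zero, mul_one, map_mul, map_mul, SixY.phi_pw, SixY.phi_pw, SixY.phi_pw]; group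
  rw [e1, conj_pw, conj_pw, conj_pw, h.aa, h.af, h.az, ← SixY.phi_pw, ← SixY.phi_pw, ← SixY.phi_pw,
    ← map_mul, ← map_mul]

theorem Acts.xpu {x : G} {φ : P6 →* G} {n : G} {s0 s1 s2 s3 : P6} (h : Acts x φ n s0 s1 s2 s3)
    (a f z : ZMod 2) : n * (x * φ (SixU.pu a 0 f z)) * n⁻¹ = x * φ (s0 * (pw s1 a * pw s2 f * pw s3 z)) := by
  calc n * (x * φ (SixU.pu a 0 f z)) * n⁻¹ = (n * x * n⁻¹) * (n * φ (SixU.pu a 0 f z) * n⁻¹) := by group
    _ = _ := by rw [h.ax, h.pu, map_mul φ s0, mul_assoc]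

theorem Acts.mul {x : G} {φ : P6 →* G} {n m : G} {s0 s1 s2 s3 : P6} (h : Acts x φ n s0 s1 s2 s3)
    {a0 f0 z0 a1 f1 z1 a2 f2 z2 a3 f3 z3 : ZMod 2}
    (k : Acts x φ m (SixU.pu a0 0 f0 z0) (SixU.pu a1 0 f1 z1) (SixU.pu a2 0 f2 z2) (SixU.pu a3 0 f3 z3)) :
    Acts x φ (n * m) (s0 * (pw s1 a0 * pw s2 f0 * pw s3 z0)) (pw s1 a1 * pw s2 f1 * pw s3 z1)
      (pw s1 a2 * pw s2 f2 * pw s3 z2) (pw s1 a3 * pw s2 f3 * pw s3 z3) where
  ax := by
    calc n * m * x * (n * m)⁻¹ = n * (m * x * m⁻¹) * n⁻¹ := by group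
      _ = _ := by rw [k.ax, h.xpu]
  aa := by
    calc n * m * φ pa * (n * m)⁻¹ = n * (m * φ pa * m⁻¹) * n⁻¹ := by group
      _ = _ := by rw [k.aa, h.pu]
  af := by
    calc n * m * φ pf * (n * m)⁻¹ = n * (m * φ pf * m⁻¹) * n⁻¹ := by group
      _ = _ := by rw [k.af, h.pu]
  az := by
    calc n * m * φ pz * (n * m)⁻¹ = n * (m * φ pz * m⁻¹) * n⁻¹ := by group
      _ = _ := by rw [k.az, h.pu]

/-- the finite conditions which give membership in `H` -/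
theorem mem_XA_of [Finite G] {x : G} {φ : P6 →* G} {n : G} {s0 s1 s2 s3 : P6} (h : Acts x φ n s0 s1 s2 s3)
    (hs : ∀ a f z : ZMod 2, InB (s0 * (pw s1 a * pw s2 f * pw s3 z))) : n ∈ normalizer (XA x φ) := by
  apply mem_normalizer_of
  rintro _ ⟨u, hu, rfl⟩
  obtain ⟨a, f, z, rfl⟩ := exists_inB u hu
  exact ⟨_, hs a f z, h.xpu a f z⟩

theorem mem_B0_of [Finite G] {x : G} {φ : P6 →* G} {n : G} {s0 s1 s2 s3 : P6} (h : Acts x φ n s0 s1 s2 s3)
    (hs : ∀ a f z : ZMod 2, InS (SixU.pu a 0 f z) → InS (s0 * (pw s1 a * pw s2 f * pw s3 z))) :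
    n ∈ normalizer (B0 x φ) := by
  apply mem_normalizer_of
  rintro _ ⟨u, hu, rfl⟩
  obtain ⟨a, f, z, rfl⟩ : ∃ a f z : ZMod 2, u = SixU.pu a 0 f z := by
    rcases hu with rfl | rfl | rfl | rfl
    · exact ⟨0, 0, 0, by decide +kernel⟩
    · exact ⟨0, 1, 0, by decide +kernel⟩
    · exact ⟨1, 0, 0, by decide +kernel⟩
    · exact ⟨1, 0, 1, by decide +kernel⟩
  exact ⟨_, hs a f z hu, h.xpu a f z⟩

theorem mem_FZ_of [Finite G] {x : G} {φ : P6 →* G} {n : G} {s0 s1 s2 s3 : P6} (h : Acts x φ n s0 s1 s2 s3)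
    (hs : (s2 = pf ∧ s3 = pz) ∨ (s2 = pz ∧ s3 = pf)) : n ∈ normalizer (FZ φ) := by
  apply mem_normalizer_of
  rintro d (rfl | hd)
  · rw [h.af]
    rcases hs with ⟨rfl, -⟩ | ⟨rfl, -⟩
    · exact Or.inl rfl
    · exact Or.inr rfl
  · rw [hd, h.az]
    rcases hs with ⟨-, rfl⟩ | ⟨-, rfl⟩
    · exact Or.inr rfl
    · exact Or.inl rfl

/-- `H` -/
def HH (x : G) (φ : P6 →* G) : Subgroup G := normalizer (XA x φ) ⊓ normalizer (FZ φ)

namespace SixB

variable {x : G} {φ : P6 →* G}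

/-- the action of an element of `N(x φ(A₁))` -/
theorem exists_acts (H : SixB x φ) {n : G} (hn : n ∈ normalizer (XA x φ)) :
    ∃ s0 s1 s2 s3, InB s0 ∧ InB s1 ∧ InB s2 ∧ InB s3 ∧ Acts x φ n s0 s1 s2 s3 := by
  have key : ∀ u, InB u → ∃ s, InB s ∧ n * (x * φ u) * n⁻¹ = x * φ s := by
    intro u hu
    exact (Subgroup.mem_set_normalizer_iff.1 hn _).1 ⟨u, hu, rfl⟩
  obtain ⟨s0, h0, k0⟩ := key 1 (by decide +kernel)
  rw [map_one, mul_one] at k0
  have key2 : ∀ u, InB u → ∃ s, InB s ∧ n * φ u * n⁻¹ = φ s := by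
    intro u hu
    obtain ⟨s, hs, k⟩ := key u hu
    refine ⟨s0 * s, ?_, ?_⟩
    · obtain ⟨a, f, z, rfl⟩ := exists_inB s0 h0
      obtain ⟨a', f', z', rfl⟩ := exists_inB s hs
      rw [pu_mul, add_zero]
      exact inB_pu _ _ _
    · calc n * φ u * n⁻¹ = (n * x * n⁻¹) * (n * (x * φ u) * n⁻¹) := by
            calc n * φ u * n⁻¹ = n * 1 * φ u * n⁻¹ := by group
              _ = n * (x * x) * φ u * n⁻¹ := by rw [H.xx]
              _ = _ := by group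
        _ = x * φ s0 * (x * φ s) := by rw [k0, k]
        _ = x * (φ s0 * x) * φ s := by group
        _ = (x * x) * (φ s0 * φ s) := by rw [H.comm' s0]; group
        _ = φ (s0 * s) := by rw [H.xx, one_mul, map_mul]
  obtain ⟨s1, h1, k1⟩ := key2 pa (by decide +kernel)
  obtain ⟨s2, h2, k2⟩ := key2 pf (by decide +kernel)
  obtain ⟨s3, h3, k3⟩ := key2 pz (by decide +kernel)
  exact ⟨s0, s1, s2, s3, h0, h1, h2, h3, ⟨k0, k1, k2, k3⟩⟩

theorem FZ_cases (H : SixB x φ) {n : G} (hn : n ∈ normalizer (FZ φ)) :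
    (n * φ pf * n⁻¹ = φ pf ∧ n * φ pz * n⁻¹ = φ pz) ∨ (n * φ pf * n⁻¹ = φ pz ∧ n * φ pz * n⁻¹ = φ pf) := by
  have h1 : n * φ pf * n⁻¹ ∈ FZ φ := (Subgroup.mem_set_normalizer_iff.1 hn _).1 (Or.inl rfl)
  have h2 : n * φ pz * n⁻¹ ∈ FZ φ := (Subgroup.mem_set_normalizer_iff.1 hn _).1 (Or.inr rfl)
  have hne : pf ≠ pz := by decide +kernel
  rcases h1 with h1 | h1 <;> rcases h2 with h2 | h2
  · exact absurd (H.inj (mul_left_cancel (mul_right_cancel (h1.trans h2.symm)))) hne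
  · exact Or.inl ⟨h1, h2⟩
  · exact Or.inr ⟨h1, h2⟩
  · exact absurd (H.inj (mul_left_cancel (mul_right_cancel (h1.trans h2.symm)))) hne

/-- the elements of `C(x)` in `H` -/
theorem HH_cent [Finite G] (H : SixB x φ) {n : G} (hn : n ∈ HH x φ) (hx : n * x = x * n) : n ∈ Tee x φ := by
  have hpf : ∀ u : P6, u * pf * u⁻¹ ≠ pz := by
    intro u h
    have h1 := congrArg Perm.sign h
    rw [Perm.sign_mul, Perm.sign_mul, Perm.sign_inv, mul_comm (Perm.sign u), mul_assoc, Int.units_mul_self,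
      mul_one] at h1
    exact absurd h1 (by decide +kernel)
  rcases H.FZ_cases hn.2 with ⟨h1, h2⟩ | ⟨h1, h2⟩
  · rw [mem_Tee]
    exact ⟨hx, mul_inv_eq_iff_eq_mul.1 h1, mul_inv_eq_iff_eq_mul.1 h2⟩
  · exfalso
    obtain ⟨u, rfl | rfl⟩ := H.cases hx
    · rw [← map_inv, ← map_mul, ← map_mul] at h1
      exact hpf u (H.inj h1)
    · have h3 : x * φ u * φ pf * (x * φ u)⁻¹ = φ (u * pf * u⁻¹) := by
        rw [map_mul, map_mul, map_inv]
        calc x * φ u * φ pf * (x * φ u)⁻¹ = x * (φ u * φ pf * (φ u)⁻¹) * x⁻¹ := by group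
          _ = x * φ (u * pf * u⁻¹) * x⁻¹ := by rw [map_mul, map_mul, map_inv]
          _ = φ (u * pf * u⁻¹) := by rw [H.comm, mul_inv_cancel_right]
          _ = _ := by rw [map_mul, map_mul, map_inv]
      rw [h3] at h1
      exact hpf u (H.inj h1)

/-- the action of the elements of `T` -/
theorem acts_Tee (H : SixB x φ) {t : G} (ht : t ∈ Tee x φ) : ∃ e : ZMod 2, Acts x φ t 1 (pa * pw pz e) pf pz := by
  obtain ⟨u, hu, h⟩ := H.mem_Tee_iff.1 ht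
  obtain ⟨a, e, f, z, rfl⟩ := exists_pu u hu
  obtain ⟨h1, h2, h3⟩ := mem_Tee.1 ht
  have h4 : ∀ a e f z : ZMod 2, pu a e f z * pa = pa * pw pz e * pu a e f z := by decide +kernel
  refine ⟨e, ?_, ?_, ?_, ?_⟩
  · rw [h1, mul_inv_cancel_right, map_one, mul_one]
  · rw [mul_inv_eq_iff_eq_mul]
    rcases h with rfl | rfl
    · rw [← map_mul, ← map_mul, h4]
    · rw [mul_assoc, ← map_mul, h4, map_mul, ← mul_assoc, ← mul_assoc, H.comm]
  · rw [h2, mul_inv_cancel_right]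
  · rw [h3, mul_inv_cancel_right]

theorem Tee_le_HH [Finite G] (H : SixB x φ) : Tee x φ ≤ HH x φ := by
  intro t ht
  obtain ⟨e, he⟩ := H.acts_Tee ht
  refine ⟨mem_XA_of he ?_, mem_FZ_of he (Or.inl ⟨rfl, rfl⟩)⟩
  exact (by decide +kernel : ∀ e a f z : ZMod 2, InB (1 * (pw (pa * pw pz e) a * pw pf f * pw pz z))) e

theorem Tee_le_K [Finite G] (H : SixB x φ) : Tee x φ ≤ normalizer (B0 x φ) := by
  intro t ht
  obtain ⟨e, he⟩ := H.acts_Tee ht
  refine mem_B0_of he ?_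
  exact (by decide +kernel : ∀ e a f z : ZMod 2, InS (pu a 0 f z) →
    InS (1 * (pw (pa * pw pz e) a * pw pf f * pw pz z))) e

end SixB

namespace SixY

variable {x : G} {φ : P6 →* G} {y Y : G} {c d r s : ZMod 2}

theorem acts_y (H : SixY x φ y Y c d r s) : Acts x φ y pf (pa * pw pf c) pf pz where
  ax := H.yx
  aa := H.ya
  af := by rw [H.yf, mul_inv_cancel_right]
  az := by rw [H.yz, mul_inv_cancel_right]

theorem acts_Y (H : SixY x φ y Y c d r s) : Acts x φ Y ph pa pf pz where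
  ax := H.Yx
  aa := by rw [H.Ya, mul_inv_cancel_right]
  af := by rw [H.Yf, mul_inv_cancel_right]
  az := by rw [H.Yz, mul_inv_cancel_right]

end SixY

end Cfsg.Agent.OddHalf.D6.SixU
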