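import Cfsg.Agent.OddHalf.D6.SixU.Gam

/-!
# ODD D6, `q = 9`, case C3a (B): the end of pattern gamma, part 2 (helper680)
-/

set_option autoImplicit false

namespace Cfsg.Agent.OddHalf.D6.SixU

open Subgroup Equiv

variable {G : Type*} [Group G]

namespace SixB

variable {x : G} {φ : P6 →* G}

theorem acts_phi (H : SixB x φ) (u : P6) : Acts x φ (φ u) 1 (u * pa * u⁻¹) (u * pf * u⁻¹) (u * pz * u⁻¹) where
  ax := by rw [H.comm', mul_inv_cancel_right, map_one, mul_one]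
  aa := by simp only [map_mul, map_inv]
  af := by simp only [map_mul, map_inv]
  az := by simp only [map_mul, map_inv]

end SixB

namespace SixY

variable {x : G} {φ : P6 →* G} {y Y : G} {c d r s : ZMod 2}

/-- `T₁` acts on `pa` -/
theorem elt_pa (H : SixY x φ y Y c d r s) (v : Code) (f z : ZMod 2) :
    elt x φ y Y v f z * φ pa * (elt x φ y Y v f z)⁻¹ = φ (pu 1 0 (c * v.2.1) v.2.2.2.2) := by
  have h1 : φ pa = elt x φ y Y (0, 0, 0, 1, 0) 0 0 := by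
    have : pa = pu 1 0 0 0 := by decide +kernel
    simp [elt, ← this]
  have h2 : φ (pu 1 0 (c * v.2.1) v.2.2.2.2) = elt x φ y Y (0, 0, 0, 1, 0) (c * v.2.1) v.2.2.2.2 := by
    simp [elt]
  rw [mul_inv_eq_iff_eq_mul, h1, h2, H.elt_mul, H.elt_mul, add_comm v]
  simp only [kf, kz]
  have key : ∀ i : ZMod 2, i + i = 0 := z2_add_self
  congr 1
  · linear_combination -(key (c * v.2.1))
  · ring

/-- `T₁` acts on `x` -/
theorem elt_x (H : SixY x φ y Y c d r s) (v : Code) (f z : ZMod 2) :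
    elt x φ y Y v f z * x * (elt x φ y Y v f z)⁻¹ = x * φ (zz (v.2.1 + v.2.2.1) v.2.2.1) := by
  have h1 : x = elt x φ y Y (1, 0, 0, 0, 0) 0 0 := by
    simp [elt, pu_zero]
  have h2 : x * φ (zz (v.2.1 + v.2.2.1) v.2.2.1) = elt x φ y Y (1, 0, 0, 0, 0) (v.2.1 + v.2.2.1) v.2.2.1 := by
    rw [zz_eq_pu]
    simp [elt]
  rw [h2, mul_inv_eq_iff_eq_mul]
  nth_rewrite 2 [h1]
  rw [H.elt_mul, H.elt_mul, add_comm v]
  simp only [kf, kz]
  congr 1 <;> ring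

/-- `T₁` centralizes `pf` and `pz` -/
theorem elt_zz (H : SixY x φ y Y c d r s) (v : Code) (f z i j : ZMod 2) :
    elt x φ y Y v f z * φ (zz i j) * (elt x φ y Y v f z)⁻¹ = φ (zz i j) := by
  have h1 : φ (zz i j) = elt x φ y Y 0 i j := by
    rw [zz_eq_pu]
    simp [elt]
  rw [mul_inv_eq_iff_eq_mul, h1, H.elt_mul, H.elt_mul, add_comm v]
  simp only [kf_zero_left, kf_zero_right, kz_zero_left, kz_zero_right]
  congr 1 <;> ring

theorem acts_elt (H : SixY x φ y Y c d r s) (v : Code) (f z : ZMod 2) :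
    Acts x φ (elt x φ y Y v f z) (zz (v.2.1 + v.2.2.1) v.2.2.1) (pu 1 0 (c * v.2.1) v.2.2.2.2) pf pz where
  ax := H.elt_x v f z
  aa := H.elt_pa v f z
  af := by
    have h1 : pf = zz 1 0 := by decide +kernel
    rw [h1]; exact H.elt_zz v f z 1 0
  az := by
    have h1 : pz = zz 0 1 := by decide +kernel
    rw [h1]; exact H.elt_zz v f z 0 1

theorem elt_mem_HH [Finite G] (H : SixY x φ y Y c d r s) (v : Code) (f z : ZMod 2) :
    elt x φ y Y v f z ∈ HH x φ := by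
  refine ⟨mem_XA_of (H.acts_elt v f z) ?_, mem_FZ_of (H.acts_elt v f z) (Or.inl ⟨rfl, rfl⟩)⟩
  have key : ∀ i j k l a f z : ZMod 2, InB (zz i j * (pw (pu 1 0 k l) a * pw pf f * pw pz z)) := by
    decide +kernel
  exact key _ _ _ _

theorem mem_T1_of_Tee (H : SixY x φ y Y c d r s) {t : G} (ht : t ∈ Tee x φ) :
    ∃ v f z, t = elt x φ y Y v f z ∧ v.2.1 = 0 ∧ v.2.2.1 = 0 := by
  obtain ⟨u, hu, h⟩ := H.mem_Tee_iff.1 ht
  obtain ⟨a, e, f, z, rfl⟩ := exists_pu u hu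
  rcases h with rfl | rfl
  · exact ⟨(0, 0, 0, a, e), f, z, by simp [elt], rfl, rfl⟩
  · exact ⟨(1, 0, 0, a, e), f, z, by simp [elt], rfl, rfl⟩

end SixY

namespace Gamma

variable {x : G} {φ : P6 →* G} {y Y : G}

/-- the element `g` -/
def gg (φ : P6 →* G) (y : G) : G := φ ps * (y * φ pe) * φ ps⁻¹

theorem acts_g (H : Gamma x φ y Y) : Acts x φ (gg φ y) pa pa pz pf := by
  have e1 : Acts x φ (φ ps⁻¹) (pu 0 0 0 0) (pu 0 0 1 0) (pu 1 0 0 1) (pu 1 0 1 0) := by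
    have h := H.acts_phi ps⁻¹
    have k1 : (1 : P6) = pu 0 0 0 0 := by decide +kernel
    have k2 : ps⁻¹ * pa * ps⁻¹⁻¹ = pu 0 0 1 0 := by decide +kernel
    have k3 : ps⁻¹ * pf * ps⁻¹⁻¹ = pu 1 0 0 1 := by decide +kernel
    have k4 : ps⁻¹ * pz * ps⁻¹⁻¹ = pu 1 0 1 0 := by decide +kernel
    rwa [k1, k2, k3, k4] at h
  have e2 : Acts x φ (φ pe) (pu 0 0 0 0) (pu 1 0 0 1) (pu 0 0 1 0) (pu 0 0 0 1) := by
    have h := H.acts_phi pe
    have k1 : (1 : P6) = pu 0 0 0 0 := by decide +kernel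
    have k2 : pe * pa * pe⁻¹ = pu 1 0 0 1 := by decide +kernel
    have k3 : pe * pf * pe⁻¹ = pu 0 0 1 0 := by decide +kernel
    have k4 : pe * pz * pe⁻¹ = pu 0 0 0 1 := by decide +kernel
    rwa [k1, k2, k3, k4] at h
  have e3 : Acts x φ (y * φ pe) (pu 0 0 1 0) (pu 1 0 1 1) (pu 0 0 1 0) (pu 0 0 0 1) := by
    have h := H.acts_y.mul e2
    have k1 : pf * (pw (pa * pw pf 1) 0 * pw pf 0 * pw pz 0) = pu 0 0 1 0 := by decide +kernel
    have k2 : pw (pa * pw pf 1) 1 * pw pf 0 * pw pz 1 = pu 1 0 1 1 := by decide +kernel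
    have k3 : pw (pa * pw pf 1) 0 * pw pf 1 * pw pz 0 = pu 0 0 1 0 := by decide +kernel
    have k4 : pw (pa * pw pf 1) 0 * pw pf 0 * pw pz 1 = pu 0 0 0 1 := by decide +kernel
    rwa [k1, k2, k3, k4] at h
  have e4 := (H.acts_phi ps).mul e3
  have k1 : 1 * (pw (ps * pa * ps⁻¹) 0 * pw (ps * pf * ps⁻¹) 1 * pw (ps * pz * ps⁻¹) 0) = pa := by decide +kernel
  have k2 : pw (ps * pa * ps⁻¹) 1 * pw (ps * pf * ps⁻¹) 1 * pw (ps * pz * ps⁻¹) 1 = pa * pf := by decide +kernel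
  have k3 : pw (ps * pa * ps⁻¹) 0 * pw (ps * pf * ps⁻¹) 1 * pw (ps * pz * ps⁻¹) 0 = pa := by decide +kernel
  have k4 : pw (ps * pa * ps⁻¹) 0 * pw (ps * pf * ps⁻¹) 0 * pw (ps * pz * ps⁻¹) 1 = pa * pf * pz := by decide +kernel
  rw [k1, k2, k3, k4] at e4
  have e5 := e4.mul e1
  have l1 : pa * (pw (pa * pf) 0 * pw pa 0 * pw (pa * pf * pz) 0) = pa := by decide +kernel
  have l2 : pw (pa * pf) 0 * pw pa 1 * pw (pa * pf * pz) 0 = pa := by decide +kernel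
  have l3 : pw (pa * pf) 1 * pw pa 0 * pw (pa * pf * pz) 1 = pz := by decide +kernel
  have l4 : pw (pa * pf) 1 * pw pa 1 * pw (pa * pf * pz) 0 = pf := by decide +kernel
  rw [l1, l2, l3, l4] at e5
  exact e5

end Gamma

end Cfsg.Agent.OddHalf.D6.SixU
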