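import Cfsg.Agent.OddHalf.D6.SixU.GamB

/-!
# ODD D6, `q = 9`, case C3a (B): the end of pattern gamma, part 3 (helper680)
-/

set_option autoImplicit false

namespace Cfsg.Agent.OddHalf.D6.SixU

open Subgroup Equiv

variable {G : Type*} [Group G]

namespace Gamma

variable {x : G} {φ : P6 →* G} {y Y : G}

theorem y_mem (H : Gamma x φ y Y) [Finite G] : y ∈ HH x φ ⊓ normalizer (B0 x φ) := by
  refine ⟨⟨mem_XA_of H.acts_y ?_, mem_FZ_of H.acts_y (Or.inl ⟨rfl, rfl⟩)⟩, mem_B0_of H.acts_y ?_⟩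
  · decide +kernel
  · decide +kernel

theorem g_mem (H : Gamma x φ y Y) [Finite G] : gg φ y ∈ HH x φ ⊓ normalizer (B0 x φ) := by
  refine ⟨⟨mem_XA_of H.acts_g ?_, mem_FZ_of H.acts_g (Or.inr ⟨rfl, rfl⟩)⟩, mem_B0_of H.acts_g ?_⟩
  · decide +kernel
  · decide +kernel

theorem Y_mem (H : Gamma x φ y Y) [Finite G] : Y ∈ HH x φ := by
  refine ⟨mem_XA_of H.acts_Y ?_, mem_FZ_of H.acts_Y (Or.inl ⟨rfl, rfl⟩)⟩
  decide +kernel

/-- an element of `x φ(A₁)` in `B₀` -/
theorem mem_B0 (H : Gamma x φ y Y) {u : P6} : x * φ u ∈ B0 x φ ↔ InS u := by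
  constructor
  · rintro ⟨v, hv, h⟩
    rw [H.inj (mul_left_cancel h)]
    exact hv
  · exact fun h => ⟨u, h, rfl⟩

theorem x_mem_B0 (_ : Gamma x φ y Y) : x ∈ B0 x φ := ⟨1, Or.inl rfl, by rw [map_one, mul_one]⟩

theorem Y_notMem (H : Gamma x φ y Y) : Y ∉ normalizer (B0 x φ) := by
  intro h
  have h1 := (Subgroup.mem_set_normalizer_iff.1 h x).1 H.x_mem_B0
  rw [H.Yx, H.mem_B0] at h1
  exact absurd h1 (by decide +kernel)

theorem pw_mem {K : Subgroup G} {g : G} (hg : g ∈ K) (i : ZMod 2) : pw g i ∈ K := by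
  rcases zmod2 i with rfl | rfl
  · exact K.one_mem
  · exact hg

/-- the decomposition of `H` -/
theorem decomp (H : Gamma x φ y Y) [Finite G] {n : G} (hn : n ∈ HH x φ) :
    ∃ k i j : ZMod 2, ∃ t ∈ Tee x φ, n = pw Y k * (pw (gg φ y) i * (pw y j * t)) := by
  obtain ⟨s0, s1, s2, s3, h0, -, -, -, ha⟩ := H.exists_acts hn.1
  obtain ⟨a, f, z, rfl⟩ := exists_inB s0 h0
  -- the action of the product on `x`
  have key : ∀ k i j : ZMod 2, (pw Y k * (pw (gg φ y) i * pw y j)) * x * (pw Y k * (pw (gg φ y) i * pw y j))⁻¹ =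
      x * φ (pw ph k * (pw pa i * (pw pf (j * (1 + i)) * pw pz (j * i)))) := by
    intro k i j
    have e1 : pw y j * x * (pw y j)⁻¹ = x * φ (pw pf j) := by
      rcases zmod2 j with rfl | rfl
      · simp
      · exact H.yx
    have e2 : pw (gg φ y) i * (x * φ (pw pf j)) * (pw (gg φ y) i)⁻¹ =
        x * φ (pw pa i * (pw pf (j * (1 + i)) * pw pz (j * i))) := by
      rcases zmod2 i with rfl | rfl
      · simp
      · have hg := H.acts_g.xpu 0 j 0
        have k1 : pu 0 0 j 0 = pw pf j := by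
          rcases zmod2 j with rfl | rfl <;> decide +kernel
        rw [k1] at hg
        rw [pw_one, hg]
        congr 2
        rcases zmod2 j with rfl | rfl <;> decide +kernel
    have e3 : ∀ u, InB u → pw Y k * (x * φ u) * (pw Y k)⁻¹ = x * φ (pw ph k * u) := by
      intro u hu
      rcases zmod2 k with rfl | rfl
      · simp
      · obtain ⟨a, f, z, rfl⟩ := exists_inB u hu
        rw [pw_one, H.acts_Y.xpu a f z]
        congr 2
    calc (pw Y k * (pw (gg φ y) i * pw y j)) * x * (pw Y k * (pw (gg φ y) i * pw y j))⁻¹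
        = pw Y k * (pw (gg φ y) i * (pw y j * x * (pw y j)⁻¹) * (pw (gg φ y) i)⁻¹) * (pw Y k)⁻¹ := by group
      _ = _ := by
          rw [e1, e2, e3]
          exact (by decide +kernel : ∀ i j : ZMod 2, InB (pw pa i * (pw pf (j * (1 + i)) * pw pz (j * i)))) i j
  have surj : ∀ a f z : ZMod 2, ∃ k i j : ZMod 2,
      pu a 0 f z = pw ph k * (pw pa i * (pw pf (j * (1 + i)) * pw pz (j * i))) := by decide +kernel
  obtain ⟨k, i, j, hk⟩ := surj a f z
  have h1 := key k i j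
  rw [← hk, ← ha.ax] at h1
  refine ⟨k, i, j, (pw Y k * (pw (gg φ y) i * pw y j))⁻¹ * n, ?_, by group⟩
  apply H.HH_cent
  · refine (HH x φ).mul_mem ((HH x φ).inv_mem ((HH x φ).mul_mem (pw_mem H.Y_mem k)
      ((HH x φ).mul_mem (pw_mem H.g_mem.1 i) (pw_mem H.y_mem.1 j)))) hn
  · exact Six.Parity.aux h1

/-- `|H| = 256` -/
theorem card_HH (H : Gamma x φ y Y) [Finite G] : Nat.card (HH x φ) = 256 := by
  rw [Six.Parity.card_orbit x (HH x φ)]
  have h1 : (HH x φ ⊓ centralizer {x} : Subgroup G) = Tee x φ := by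
    apply le_antisymm
    · rintro n ⟨hn, hx⟩
      exact H.HH_cent hn (mem_centralizer_singleton_iff.1 hx)
    · intro t ht
      exact ⟨H.Tee_le_HH ht, H.Tee_le ht⟩
  have h2 : {d : G | ∃ h ∈ HH x φ, h * x * h⁻¹ = d} = XA x φ := by
    ext d
    constructor
    · rintro ⟨n, hn, rfl⟩
      exact (Subgroup.mem_set_normalizer_iff.1 hn.1 x).1 ⟨1, by decide +kernel, by rw [map_one, mul_one]⟩
    · rintro ⟨u, hu, rfl⟩
      obtain ⟨a, f, z, rfl⟩ := exists_inB u hu
      have e1 : ∀ n ∈ HH x φ, ∀ m ∈ HH x φ, n * m ∈ HH x φ := fun n hn m hm => (HH x φ).mul_mem hn hm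
      -- explicit elements
      rcases zmod2 a with rfl | rfl
      · -- `pu 0 0 f z`, by `elt`
        refine ⟨elt x φ y Y (0, f + z, z, 0, 0) 0 0, H.elt_mem_HH _ _ _, ?_⟩
        rw [H.elt_x, zz_eq_pu]
        congr 3
        revert f z; decide
      · refine ⟨gg φ y * elt x φ y Y (0, z + f, f, 0, 0) 0 0, e1 _ H.g_mem.1 _ (H.elt_mem_HH _ _ _), ?_⟩
        have h3 := H.elt_x (0, z + f, f, 0, 0) 0 0
        rw [zz_eq_pu] at h3
        have h4 := H.acts_g.xpu 0 (z + f + f) f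
        calc gg φ y * elt x φ y Y (0, z + f, f, 0, 0) 0 0 * x * (gg φ y * elt x φ y Y (0, z + f, f, 0, 0) 0 0)⁻¹
            = gg φ y * (elt x φ y Y (0, z + f, f, 0, 0) 0 0 * x * (elt x φ y Y (0, z + f, f, 0, 0) 0 0)⁻¹) *
                (gg φ y)⁻¹ := by group
          _ = x * φ (pu 1 0 f z) := by
              rw [h3]
              rw [h4]
              congr 2
              exact (by decide +kernel : ∀ f z : ZMod 2,
                pa * (pw pa 0 * pw pz (z + f + f) * pw pf f) = pu 1 0 f z) f z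
  rw [h1, h2, H.card_Tee]
  have h3 : (XA x φ).ncard = 8 := by
    have h4 : XA x φ = (fun p : ZMod 2 × ZMod 2 × ZMod 2 => x * φ (pu p.1 0 p.2.1 p.2.2)) '' Set.univ := by
      ext d
      constructor
      · rintro ⟨u, hu, rfl⟩
        obtain ⟨a, f, z, rfl⟩ := exists_inB u hu
        exact ⟨(a, f, z), Set.mem_univ _, rfl⟩
      · rintro ⟨p, -, rfl⟩
        exact ⟨_, inB_pu _ _ _, rfl⟩
    rw [h4, Set.ncard_image_of_injective, Set.ncard_univ, Nat.card_eq_fintype_card]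
    · rfl
    · rintro ⟨a, f, z⟩ ⟨a', f', z'⟩ h
      have h5 := pu_inj _ _ _ _ _ _ _ _ (H.inj (mul_left_cancel h))
      obtain ⟨h6, -, h7, h8⟩ := h5
      have h6' : a = a' := h6
      have h7' : f = f' := h7
      have h8' : z = z' := h8
      rw [h6', h7', h8']
  rw [h3]

/-- an element of `H` which centralizes `pf` is in `T₁` -/
theorem mem_T1 (H : Gamma x φ y Y) [Finite G] {n : G} (hn : n ∈ HH x φ) (hf : n * φ pf * n⁻¹ = φ pf) :
    ∃ v f z, n = elt x φ y Y v f z := by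
  obtain ⟨k, i, j, t, ht, rfl⟩ := H.decomp hn
  obtain ⟨v, f, z, rfl, hv⟩ := H.mem_T1_of_Tee ht
  have hi : i = 0 := by
    rcases zmod2 i with rfl | rfl
    · rfl
    · exfalso
      have e1 := H.elt_zz v f z 1 0
      have k1 : zz 1 0 = pf := by decide +kernel
      rw [k1] at e1
      have e2 : pw y j * φ pf * (pw y j)⁻¹ = φ pf := by
        rcases zmod2 j with rfl | rfl
        · simp
        · rw [pw_one, H.yf, mul_inv_cancel_right]
      have e3 : pw Y k * φ pz * (pw Y k)⁻¹ = φ pz := by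
        rcases zmod2 k with rfl | rfl
        · simp
        · rw [pw_one, H.Yz, mul_inv_cancel_right]
      have e4 : pw Y k * (pw (gg φ y) 1 * (pw y j * elt x φ y Y v f z)) * φ pf *
          (pw Y k * (pw (gg φ y) 1 * (pw y j * elt x φ y Y v f z)))⁻¹ = φ pz := by
        calc pw Y k * (pw (gg φ y) 1 * (pw y j * elt x φ y Y v f z)) * φ pf *
              (pw Y k * (pw (gg φ y) 1 * (pw y j * elt x φ y Y v f z)))⁻¹
            = pw Y k * (pw (gg φ y) 1 * (pw y j * (elt x φ y Y v f z * φ pf * (elt x φ y Y v f z)⁻¹) *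
                (pw y j)⁻¹) * (pw (gg φ y) 1)⁻¹) * (pw Y k)⁻¹ := by group
          _ = φ pz := by rw [e1, e2, pw_one, H.acts_g.af, e3]
      rw [hf] at e4
      exact absurd (H.inj e4) (by decide +kernel)
  subst hi
  have e1 : pw Y k = elt x φ y Y (0, 0, k, 0, 0) 0 0 := by simp [elt, pu_zero]
  have e2 : pw y j = elt x φ y Y (0, j, 0, 0, 0) 0 0 := by simp [elt, pu_zero]
  rw [pw_zero, one_mul, e1, e2, H.elt_mul, H.elt_mul]
  exact ⟨_, _, _, rfl⟩

end Gamma

end Cfsg.Agent.OddHalf.D6.SixU
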