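import Cfsg.Agent.OddHalf.D6.SixU.GamC

/-!
# ODD D6, `q = 9`, case C3a (B): the end of pattern gamma, part 4 (helper680)
-/

set_option autoImplicit false

namespace Cfsg.Agent.OddHalf.D6.SixU

open Subgroup Equiv

variable {G : Type*} [Group G]

namespace SixB

variable {x : G} {φ : P6 →* G}

/-- conjugation of an action by `φ r` -/
theorem conj_act {n : G} {v w : P6} (h : n * φ v * n⁻¹ = φ w) (r : P6) :
    (φ r * n * (φ r)⁻¹) * φ (r * v * r⁻¹) * (φ r * n * (φ r)⁻¹)⁻¹ = φ (r * w * r⁻¹) := by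
  rw [map_mul, map_mul, map_inv, map_mul, map_mul, map_inv, ← h]
  group

/-- `φ(ps)` normalizes `x φ(A₁)` -/
theorem ps_mem [Finite G] (H : SixB x φ) : φ ps ∈ normalizer (XA x φ) := by
  apply mem_XA_of (H.acts_phi ps)
  decide +kernel

end SixB

namespace Gamma

variable {x : G} {φ : P6 →* G} {y Y : G}

theorem list_aux : ∀ v : Code, v ∈ listC → ¬ (v.2.1 = 1 ∧ v.2.2.2.2 = 1) := by decide +kernel

/-- no conjugate of `x` in `H ∩ C(pf)` acts on `pa` as `pa ↦ pa ph` -/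
theorem no_ph (H : Gamma x φ y Y) [Finite G] {m : G} (hm : m ∈ HH x φ) (hd : IsConj x m)
    (hf : m * φ pf * m⁻¹ = φ pf) (ha : m * φ pa * m⁻¹ = φ (pa * ph)) : False := by
  obtain ⟨v, f, z, rfl⟩ := H.mem_T1 hm hf
  rw [H.elt_pa] at ha
  have h1 : pa * ph = pu 1 0 1 1 := by decide +kernel
  rw [h1] at ha
  obtain ⟨-, -, h2, h3⟩ := pu_inj _ _ _ _ _ _ _ _ (H.inj ha)
  rw [one_mul] at h2
  exact list_aux v ((H.tab v f z).1 hd) ⟨h2, h3⟩

set_option maxHeartbeats 400000 in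
/-- every conjugate of `x` in `H` centralizes `pf` -/
theorem fix_pf (H : Gamma x φ y Y) [Finite G] {n : G} (hn : n ∈ HH x φ) (hd : IsConj x n) :
    n * φ pf * n⁻¹ = φ pf := by
  rcases H.FZ_cases hn.2 with ⟨h1, -⟩ | ⟨h1, h2⟩
  · exact h1
  exfalso
  have hnn : n * n = 1 := by
    obtain ⟨c, rfl⟩ := isConj_iff.1 hd
    calc c * x * c⁻¹ * (c * x * c⁻¹) = c * (x * x) * c⁻¹ := by group
      _ = 1 := by rw [H.xx]; group
  obtain ⟨s0, s1, s2, s3, -, k1, -, -, ha⟩ := H.exists_acts hn.1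
  obtain ⟨a, f, z, rfl⟩ := exists_inB s1 k1
  have hact : Acts x φ n s0 (pu a 0 f z) pz pf := ⟨ha.ax, ha.aa, h1, h2⟩
  have h3 : φ (pw (pu a 0 f z) a * pw pz f * pw pf z) = φ pa := by
    rw [← hact.pu, ← ha.aa]
    calc n * (n * φ pa * n⁻¹) * n⁻¹ = (n * n) * φ pa * (n * n)⁻¹ := by group
      _ = φ pa := by rw [hnn]; group
  have h4 : ∀ a f z : ZMod 2, pw (pu a 0 f z) a * pw pz f * pw pf z = pa →
      pu a 0 f z = pa ∨ pu a 0 f z = pa * ph := by decide +kernel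
  have hXA : ∀ r ∈ normalizer (XA x φ), r * n * r⁻¹ ∈ normalizer (XA x φ) := fun r hr =>
    (normalizer (XA x φ)).mul_mem ((normalizer (XA x φ)).mul_mem hr hn.1) ((normalizer (XA x φ)).inv_mem hr)
  rcases h4 a f z (H.inj h3) with h5 | h5
  · -- `n` fixes `f₂`
    have haa : n * φ pa * n⁻¹ = φ pa := by rw [ha.aa, h5]
    have e0 : φ ps⁻¹ ∈ normalizer (XA x φ) := by
      rw [map_inv]; exact (normalizer (XA x φ)).inv_mem H.ps_mem
    have e1 := SixB.conj_act haa ps⁻¹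
    have i1 : ps⁻¹ * pa * ps⁻¹⁻¹ = pf := by decide +kernel
    rw [i1] at e1
    -- `pz`
    have haz : n * φ (pa * pz * pf) * n⁻¹ = φ (pa * pf * pz) := by
      rw [map_mul, map_mul, map_mul, map_mul]
      calc n * (φ pa * φ pz * φ pf) * n⁻¹ = (n * φ pa * n⁻¹) * (n * φ pz * n⁻¹) * (n * φ pf * n⁻¹) := by group
        _ = _ := by rw [haa, h1, h2]
    have e2 := SixB.conj_act haz ps⁻¹
    have i2 : ps⁻¹ * (pa * pz * pf) * ps⁻¹⁻¹ = pz := by decide +kernel
    have i3 : ps⁻¹ * (pa * pf * pz) * ps⁻¹⁻¹ = pz := by decide +kernel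
    rw [i2, i3] at e2
    have hap : n * φ (pa * pz) * n⁻¹ = φ (pa * pf) := by
      rw [map_mul, map_mul]
      calc n * (φ pa * φ pz) * n⁻¹ = (n * φ pa * n⁻¹) * (n * φ pz * n⁻¹) := by group
        _ = _ := by rw [haa, h2]
    have e3 := SixB.conj_act hap ps⁻¹
    have i4 : ps⁻¹ * (pa * pz) * ps⁻¹⁻¹ = pa := by decide +kernel
    have i5 : ps⁻¹ * (pa * pf) * ps⁻¹⁻¹ = pa * ph := by decide +kernel
    rw [i4, i5] at e3
    have e4 : φ ps⁻¹ * n * (φ ps⁻¹)⁻¹ ∈ normalizer (FZ φ) := by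
      apply mem_normalizer_of
      rintro d (rfl | hd')
      · exact Or.inl e1
      · rw [hd']; exact Or.inr e2
    have e5 : φ ps⁻¹ * n * (φ ps⁻¹)⁻¹ ∈ HH x φ := Subgroup.mem_inf.2 ⟨hXA _ e0, e4⟩
    have e6 : IsConj x (φ ps⁻¹ * n * (φ ps⁻¹)⁻¹) := hd.trans (isConj_iff.2 ⟨φ ps⁻¹, rfl⟩)
    exact H.no_ph e5 e6 e1 e3
  · -- `n` fixes `f₃`
    have haa : n * φ pa * n⁻¹ = φ (pa * ph) := by rw [ha.aa, h5]
    have e0 := H.ps_mem
    have k5 : pa * ph * pf = pa * pz := by decide +kernel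
    have k6 : pa * ph * pz = pa * pf := by decide +kernel
    have hap : n * φ (pa * pz) * n⁻¹ = φ (pa * pz) := by
      rw [map_mul]
      calc n * (φ pa * φ pz) * n⁻¹ = (n * φ pa * n⁻¹) * (n * φ pz * n⁻¹) := by group
        _ = φ (pa * ph * pf) := by rw [haa, h2, ← map_mul]
        _ = φ pa * φ pz := by rw [k5, map_mul]
    have e1 := SixB.conj_act hap ps
    have i1 : ps * (pa * pz) * ps⁻¹ = pf := by decide +kernel
    rw [i1] at e1
    have haz : n * φ (pa * pf) * n⁻¹ = φ (pa * pf) := by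
      rw [map_mul]
      calc n * (φ pa * φ pf) * n⁻¹ = (n * φ pa * n⁻¹) * (n * φ pf * n⁻¹) := by group
        _ = φ (pa * ph * pz) := by rw [haa, h1, ← map_mul]
        _ = φ pa * φ pf := by rw [k6, map_mul]
    have e2 := SixB.conj_act haz ps
    have i2 : ps * (pa * pf) * ps⁻¹ = pz := by decide +kernel
    rw [i2] at e2
    have e3 := SixB.conj_act h1 ps
    have i4 : ps * pf * ps⁻¹ = pa := by decide +kernel
    have i5 : ps * pz * ps⁻¹ = pa * ph := by decide +kernel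
    rw [i4, i5] at e3
    have e4 : φ ps * n * (φ ps)⁻¹ ∈ normalizer (FZ φ) := by
      apply mem_normalizer_of
      rintro d (rfl | hd')
      · exact Or.inl e1
      · rw [hd']; exact Or.inr e2
    have e5 : φ ps * n * (φ ps)⁻¹ ∈ HH x φ := Subgroup.mem_inf.2 ⟨hXA _ e0, e4⟩
    have e6 : IsConj x (φ ps * n * (φ ps)⁻¹) := hd.trans (isConj_iff.2 ⟨φ ps, rfl⟩)
    exact H.no_ph e5 e6 e1 e3

/-- the conjugates of `x` in `H` which exchange the blocks -/
theorem swap_set (H : Gamma x φ y Y) [Finite G] :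
    {d : G | IsConj x d ∧ d ∈ HH x φ ∧ d ∉ normalizer (B0 x φ)} =
      H.psi '' {m | m.v = (1, 0, 1, 0, 1) ∨ m.v = (1, 1, 1, 0, 0)} := by
  ext d
  constructor
  · rintro ⟨h1, h2, h3⟩
    obtain ⟨v, f, z, rfl⟩ := H.mem_T1 h2 (H.fix_pf h2 h1)
    refine ⟨⟨v, f, z⟩, ?_, rfl⟩
    have h4 := (H.tab v f z).1 h1
    by_contra h5
    apply h3
    have key : ∀ v : Code, v ∈ listC → ¬ (v = (1, 0, 1, 0, 1) ∨ v = (1, 1, 1, 0, 0)) →
        ∀ a f z : ZMod 2, InS (pu a 0 f z) →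
        InS (zz (v.2.1 + v.2.2.1) v.2.2.1 * (pw (pu 1 0 (1 * v.2.1) v.2.2.2.2) a * pw pf f * pw pz z)) := by
      decide +kernel
    exact mem_B0_of (H.acts_elt v f z) (key v h4 h5)
  · rintro ⟨⟨v, f, z⟩, hv, rfl⟩
    rw [H.psi_apply]
    have h1 : v ∈ listC := by
      have hv' : v = (1, 0, 1, 0, 1) ∨ v = (1, 1, 1, 0, 0) := hv
      rcases hv' with rfl | rfl <;> decide
    refine ⟨(H.tab v f z).2 h1, H.elt_mem_HH v f z, ?_⟩
    intro h2
    have h3 := (Subgroup.mem_set_normalizer_iff.1 h2 x).1 H.x_mem_B0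
    rw [H.elt_x, H.mem_B0] at h3
    have hv' : v = (1, 0, 1, 0, 1) ∨ v = (1, 1, 1, 0, 0) := hv
    rcases hv' with rfl | rfl
    · exact (by decide +kernel : ¬ InS (zz (0 + 1) 1)) h3
    · exact (by decide +kernel : ¬ InS (zz (1 + 1) 1)) h3

/-- THE END OF PATTERN GAMMA -/
theorem false (H : Gamma x φ y Y) [Finite G] (hG : ∀ H : Subgroup G, H.index ≠ 2) : False := by
  have h1 : {d : G | IsConj x d ∧ d ∈ HH x φ ∧ d ∉ normalizer (B0 x φ)}.ncard *
      Nat.card (centralizer ({x} : Set G)) = 45 * Nat.card (HH x φ) := by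
    rw [H.swap_set, Set.ncard_image_of_injective _ H.psi_inj, H.card_C, H.card_HH]
    have h2 : ({m : Md 1 1 0 1 | m.v = (1, 0, 1, 0, 1) ∨ m.v = (1, 1, 1, 0, 0)}).ncard = 8 := by
      have h3 : ({m : Md 1 1 0 1 | m.v = (1, 0, 1, 0, 1) ∨ m.v = (1, 1, 1, 0, 0)}) =
          (Md.equiv 1 1 0 1).symm '' ((({(1, 0, 1, 0, 1), (1, 1, 1, 0, 0)} : Finset Code) ×ˢ
            (Finset.univ : Finset (ZMod 2 × ZMod 2)) : Finset (Code × ZMod 2 × ZMod 2)) :
              Set (Code × ZMod 2 × ZMod 2)) := by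
        ext m
        constructor
        · intro hm
          refine ⟨(m.v, m.f, m.z), ?_, rfl⟩
          rw [Finset.mem_coe, Finset.mem_product]
          refine ⟨?_, Finset.mem_univ _⟩
          have hm' : m.v = (1, 0, 1, 0, 1) ∨ m.v = (1, 1, 1, 0, 0) := hm
          rw [Finset.mem_insert, Finset.mem_singleton]
          exact hm'
        · rintro ⟨⟨v, f, z⟩, hp, rfl⟩
          rw [Finset.mem_coe, Finset.mem_product] at hp
          have h4 := hp.1
          rw [Finset.mem_insert, Finset.mem_singleton] at h4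
          exact h4
      rw [h3, Set.ncard_image_of_injective _ (Equiv.injective _), Set.ncard_coe_finset]
      rfl
    rw [h2]
  have h5 := Ends0.even_of_swap (hom_trivial hG) H.xx (HH x φ) (normalizer (B0 x φ)) H.Y_mem H.Y_notMem (by
    intro n hn
    obtain ⟨k, i, j, t, ht, rfl⟩ := H.decomp hn
    have h6 : pw (gg φ y) i * (pw y j * t) ∈ normalizer (B0 x φ) :=
      (normalizer (B0 x φ)).mul_mem (pw_mem H.g_mem.2 i) ((normalizer (B0 x φ)).mul_mem
        (pw_mem H.y_mem.2 j) (H.Tee_le_K ht))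
    rcases zmod2 k with rfl | rfl
    · left; rw [pw_zero, one_mul]; exact h6
    · right; rw [pw_one, inv_mul_cancel_left]; exact h6) h1
  exact absurd h5 (by decide)

end Gamma

end Cfsg.Agent.OddHalf.D6.SixU
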