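import Cfsg.Agent.OddHalf.D6.SixU.Tee

/-!
# ODD D6, `q = 9`, case C3a (B): the normalizer of `T` (helper680)

For `u ∈ {pf, pz, ph}` there is `n ∈ N(T)` with `n x n⁻¹ = x φ(u)`. An element `n` of `N(T)` normalizes `φ(U)`,
centralizes `φ(pz)`, maps `φ(pf)` to `φ(pf)` or `φ(ph)`, and fixes or exchanges `A₁ = ⟨Z, pa⟩` and `A₂ = ⟨Z, pe⟩`.
-/

set_option autoImplicit false

namespace Cfsg.Agent.OddHalf.D6.SixU

open Subgroup Equiv

/-- powers with exponents in `ZMod 2` -/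
def pw {M : Type*} [Monoid M] (g : M) (i : ZMod 2) : M := if i = 0 then 1 else g

@[simp] theorem pw_zero {M : Type*} [Monoid M] (g : M) : pw g 0 = 1 := rfl
@[simp] theorem pw_one {M : Type*} [Monoid M] (g : M) : pw g 1 = g := rfl

theorem zmod2 (i : ZMod 2) : i = 0 ∨ i = 1 := by
  revert i; decide

/-- the elements of `Z = ⟨pf, pz⟩` -/
def zz (i j : ZMod 2) : P6 := pw pf i * pw pz j

/-- the elements of `U` -/
def pu (a e f z : ZMod 2) : P6 := pw pa a * pw pe e * pw pf f * pw pz z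

theorem pu_inj : ∀ a e f z a' e' f' z' : ZMod 2, pu a e f z = pu a' e' f' z' → a = a' ∧ e = e' ∧ f = f' ∧ z = z' := by
  decide +kernel

theorem inU_pu : ∀ a e f z : ZMod 2, InU (pu a e f z) := by decide +kernel

theorem exists_pu : ∀ u : P6, InU u → ∃ a e f z : ZMod 2, u = pu a e f z := by decide +kernel

theorem pu_mul : ∀ a e f z a' e' f' z' : ZMod 2,
    pu a e f z * pu a' e' f' z' = pu (a + a') (e + e') (f + f') (z + z' + e * a') := by decide +kernel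

theorem zz_eq_pu : ∀ i j : ZMod 2, zz i j = pu 0 0 i j := by decide +kernel

theorem zz_comm : ∀ i j a e f z : ZMod 2, zz i j * pu a e f z = pu a e f z * zz i j := by decide +kernel

theorem zz_sq : ∀ i j : ZMod 2, zz i j * zz i j = 1 := by decide +kernel

variable {G : Type*} [Group G]

namespace SixB

variable {x : G} {φ : P6 →* G}

theorem mul_self_eq (H : SixB x φ) (u : P6) : x * φ u * (x * φ u) = φ (u * u) := by
  calc x * φ u * (x * φ u) = x * (φ u * x) * φ u := by group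
    _ = (x * x) * (φ u * φ u) := by rw [H.comm' u]; group
    _ = φ (u * u) := by rw [H.xx, one_mul, map_mul]

/-- `D ∩ C(x)` -/
theorem of_isConj (H : SixB x φ) {g : G} (hc : g * x = x * g) (hg : IsConj x g) :
    ∃ u, u * u = 1 ∧ g = x * φ u := by
  have hgg : g * g = 1 := by
    obtain ⟨c, rfl⟩ := isConj_iff.1 hg
    calc c * x * c⁻¹ * (c * x * c⁻¹) = c * (x * x) * c⁻¹ := by group
      _ = 1 := by rw [H.xx]; group
  obtain ⟨u, rfl | rfl⟩ := H.cases hc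
  · exfalso
    have h1 : u * u = 1 := H.phi_eq_one (by rw [map_mul, hgg])
    by_cases h2 : u = 1
    · rw [h2, map_one] at hg; exact H.not_isConj_one hg
    · exact H.nfus u h1 h2 hg
  · refine ⟨u, ?_, rfl⟩
    apply H.phi_eq_one
    rw [← H.mul_self_eq, hgg]

theorem isConj_x_mul (H : SixB x φ) {u : P6} (hu : u * u = 1) : IsConj x (x * φ u) := by
  by_cases h : u = 1
  · rw [h, map_one, mul_one]
  · exact H.fus u hu h

theorem not_isConj_phi (H : SixB x φ) (u : P6) : ¬ IsConj x (φ u) := by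
  intro h
  obtain ⟨v, -, hv⟩ := H.of_isConj (H.comm' u) h
  exact H.xne _ _ hv

theorem exists_n [Finite G] (H : SixB x φ) {u : P6} (hu : u = pf ∨ u = pz ∨ u = ph) :
    ∃ n ∈ normalizer (Tee x φ : Set G), n * x * n⁻¹ = x * φ u := by
  have h1 : u * u = 1 := by
    rcases hu with rfl | rfl | rfl <;> decide +kernel
  have hz : ∀ v, InU v → v * u = u * v := by
    intro v hv
    rcases hu with rfl | rfl | rfl
    · exact hv.1
    · exact hv.2
    · have : ph = pf * pz := by decide +kernel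
      rw [this, ← mul_assoc, hv.1, mul_assoc, hv.2, mul_assoc]
  obtain ⟨g, h2, h3⟩ := H.conj_T_of_card (P := Tee x φ) H.card_Tee (H.isConj_x_mul h1) (by
    intro p hp
    obtain ⟨v, hv, h | h⟩ := H.mem_Tee_iff.1 hp
    · rw [h, ← mul_assoc, H.comm' v, mul_assoc, mul_assoc, ← map_mul, ← map_mul, hz v hv]
    · rw [h, mul_assoc, mul_assoc]
      congr 1
      rw [← mul_assoc, ← mul_assoc, H.comm' v, H.comm' u, mul_assoc, mul_assoc, ← map_mul, ← map_mul, hz v hv])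
  refine ⟨g, ?_, h2⟩
  rw [Subgroup.mem_normalizer_iff]
  intro t
  have h4 := h3 (g * t * g⁻¹)
  have h5 : g⁻¹ * (g * t * g⁻¹) * g = t := by group
  rw [h5] at h4
  exact h4.symm

variable {n : G}

theorem n_mem (_ : SixB x φ) (hn : n ∈ normalizer (Tee x φ : Set G)) {t : G} (ht : t ∈ Tee x φ) :
    n * t * n⁻¹ ∈ Tee x φ :=
  (Subgroup.mem_normalizer_iff.1 hn t).1 ht

theorem phi_pu_mem (H : SixB x φ) (a e f z : ZMod 2) : φ (pu a e f z) ∈ Tee x φ := H.phi_mem_Tee (inU_pu a e f z)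

theorem comm_Tee (_ : SixB x φ) {t : G} (ht : t ∈ Tee x φ) : t * x = x * t := (mem_Tee.1 ht).1

theorem cent_aux : ∀ a e f z : ZMod 2, pu a e f z * pa = pa * pu a e f z → pu a e f z * pe = pe * pu a e f z →
    a = 0 ∧ e = 0 := by decide +kernel

/-- `n x n⁻¹ ∈ x Z` -/
theorem n_x (H : SixB x φ) (hn : n ∈ normalizer (Tee x φ : Set G)) : ∃ i j, n * x * n⁻¹ = x * φ (zz i j) := by
  have h1 := H.n_mem hn H.x_mem_Tee
  obtain ⟨u, hu1, hu⟩ := H.of_isConj (H.comm_Tee h1) (isConj_iff.2 ⟨n, rfl⟩)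
  have h2 : ∀ v, InU v → v * u = u * v := by
    intro v hv
    have h3 : n⁻¹ * φ v * n ∈ Tee x φ := by
      have := (Subgroup.mem_normalizer_iff.1 ((normalizer (Tee x φ : Set G)).inv_mem hn) (φ v)).1 (H.phi_mem_Tee hv)
      rwa [inv_inv] at this
    have h4 := H.comm_Tee h3
    have h5 : φ v * (n * x * n⁻¹) = n * x * n⁻¹ * φ v := by
      calc φ v * (n * x * n⁻¹) = n * (n⁻¹ * φ v * n * x) * n⁻¹ := by group
        _ = n * (x * (n⁻¹ * φ v * n)) * n⁻¹ := by rw [h4]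
        _ = n * x * n⁻¹ * φ v := by group
    rw [hu] at h5
    apply H.inj
    apply mul_left_cancel (a := x)
    rw [map_mul, map_mul]
    calc x * (φ v * φ u) = (x * φ v) * φ u := by group
      _ = φ v * x * φ u := by rw [H.comm v]
      _ = φ v * (x * φ u) := by group
      _ = x * φ u * φ v := h5
      _ = x * (φ u * φ v) := by group
  have huU : InU u := by
    have h6 : InU pf := by decide +kernel
    have h7 : InU pz := by decide +kernel
    exact ⟨(h2 pf h6).symm, (h2 pz h7).symm⟩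
  obtain ⟨a, e, f, z, rfl⟩ := exists_pu u huU
  have h8 : InU pa := by decide +kernel
  have h9 : InU pe := by decide +kernel
  obtain ⟨rfl, rfl⟩ := cent_aux a e f z (h2 pa h8).symm (h2 pe h9).symm
  exact ⟨f, z, by rw [hu, zz_eq_pu]⟩

theorem pu_gen : ∀ a e f z : ZMod 2, pu a e f z = pw pa a * pw pe e * pw pf f * pw pz z := fun _ _ _ _ => rfl

/-- `n φ(u) n⁻¹ ∈ φ(U)` for involutions `u ∈ U` -/
theorem n_invol (H : SixB x φ) (hn : n ∈ normalizer (Tee x φ : Set G)) {u : P6} (hu : InU u) (huu : u * u = 1) :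
    ∃ a e f z, n * φ u * n⁻¹ = φ (pu a e f z) := by
  obtain ⟨i, j, h1⟩ := H.n_x hn
  have h2 : x * φ u ∈ Tee x φ := H.mem_Tee_iff.2 ⟨u, hu, Or.inr rfl⟩
  have h3 := H.n_mem hn h2
  obtain ⟨v, hv, h4⟩ := H.of_isConj (H.comm_Tee h3) ((H.isConj_x_mul huu).trans (isConj_iff.2 ⟨n, rfl⟩))
  have h5 : n * φ u * n⁻¹ = φ (zz i j * v) := by
    calc n * φ u * n⁻¹ = (n * x * n⁻¹) * (n * (x * φ u) * n⁻¹) := by
          calc n * φ u * n⁻¹ = n * 1 * φ u * n⁻¹ := by group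
            _ = n * (x * x) * φ u * n⁻¹ := by rw [H.xx]
            _ = _ := by group
      _ = x * φ (zz i j) * (x * φ v) := by rw [h1, h4]
      _ = x * (φ (zz i j) * x) * φ v := by group
      _ = (x * x) * (φ (zz i j) * φ v) := by rw [H.comm' (zz i j)]; group
      _ = φ (zz i j * v) := by rw [H.xx, one_mul, map_mul]
  have h6 : InU (zz i j * v) := by
    rw [h4] at h3
    obtain ⟨w, hw, h7 | h7⟩ := H.mem_Tee_iff.1 h3
    · exact absurd h7.symm (H.xne _ _)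
    · rw [zz_eq_pu]
      rw [H.inj (mul_left_cancel h7)]
      exact (inU_pu _ _ _ _).mul hw
  obtain ⟨a, e, f, z, h7⟩ := exists_pu _ h6
  exact ⟨a, e, f, z, by rw [h5, h7]⟩

theorem invU_aux : InU pa ∧ InU pe ∧ InU pf ∧ InU pz ∧ pa * pa = 1 ∧ pe * pe = 1 ∧ pf * pf = 1 ∧ pz * pz = 1 := by
  decide +kernel

theorem comm_aux : ∀ a e f z a' e' f' z' : ZMod 2, pu a e f z * pu a' e' f' z' * (pu a e f z)⁻¹ * (pu a' e' f' z')⁻¹ ≠ 1 →
    pu a e f z * pu a' e' f' z' * (pu a e f z)⁻¹ * (pu a' e' f' z')⁻¹ = pz := by decide +kernel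

theorem comm_ae : pa * pe * pa⁻¹ * pe⁻¹ = pz := by decide +kernel

theorem pz_ne : pz ≠ 1 := by decide +kernel

theorem conj_comm {g h : G} : n * (g * h * g⁻¹ * h⁻¹) * n⁻¹ =
    (n * g * n⁻¹) * (n * h * n⁻¹) * (n * g * n⁻¹)⁻¹ * (n * h * n⁻¹)⁻¹ := by group

/-- `n` centralizes `φ(pz)` -/
theorem n_z (H : SixB x φ) (hn : n ∈ normalizer (Tee x φ : Set G)) : n * φ pz * n⁻¹ = φ pz := by
  obtain ⟨ha, he, hf, hz, haa, hee, hff, hzz⟩ := invU_aux
  obtain ⟨a, e, f, z, h1⟩ := H.n_invol hn ha haa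
  obtain ⟨a', e', f', z', h2⟩ := H.n_invol hn he hee
  have h3 : n * φ pz * n⁻¹ = φ (pu a e f z * pu a' e' f' z' * (pu a e f z)⁻¹ * (pu a' e' f' z')⁻¹) := by
    rw [← comm_ae]
    simp only [map_mul, map_inv]
    rw [conj_comm, h1, h2]
  rw [h3, comm_aux]
  intro h4
  rw [h4, map_one, mul_inv_eq_one] at h3
  exact pz_ne (H.phi_eq_one (mul_left_cancel (h3.trans (mul_one n).symm)))

/-- the two possibilities for the action of `n` on `A₁`, `A₂` -/
theorem n_ae (H : SixB x φ) (hn : n ∈ normalizer (Tee x φ : Set G)) :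
    ((∃ f z, n * φ pa * n⁻¹ = φ (pu 1 0 f z)) ∧ ∃ f z, n * φ pe * n⁻¹ = φ (pu 0 1 f z)) ∨
    ((∃ f z, n * φ pa * n⁻¹ = φ (pu 0 1 f z)) ∧ ∃ f z, n * φ pe * n⁻¹ = φ (pu 1 0 f z)) := by
  obtain ⟨ha, he, hf, hz, haa, hee, hff, hzz⟩ := invU_aux
  obtain ⟨a, e, f, z, h1⟩ := H.n_invol hn ha haa
  obtain ⟨a', e', f', z', h2⟩ := H.n_invol hn he hee
  have h3 : φ pz = φ (pu a e f z * pu a' e' f' z' * (pu a e f z)⁻¹ * (pu a' e' f' z')⁻¹) := by
    rw [← H.n_z hn, ← comm_ae]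
    simp only [map_mul, map_inv]
    rw [conj_comm, h1, h2]
  have h4 := H.inj h3
  have h5 : pu a e f z * pu a e f z = 1 := by
    apply H.phi_eq_one
    rw [map_mul, ← h1]
    calc n * φ pa * n⁻¹ * (n * φ pa * n⁻¹) = n * (φ pa * φ pa) * n⁻¹ := by group
      _ = 1 := by rw [← map_mul, haa, map_one]; group
  have h6 : pu a' e' f' z' * pu a' e' f' z' = 1 := by
    apply H.phi_eq_one
    rw [map_mul, ← h2]
    calc n * φ pe * n⁻¹ * (n * φ pe * n⁻¹) = n * (φ pe * φ pe) * n⁻¹ := by group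
      _ = 1 := by rw [← map_mul, hee, map_one]; group
  have key : ∀ a e f z a' e' f' z' : ZMod 2, pu a e f z * pu a e f z = 1 → pu a' e' f' z' * pu a' e' f' z' = 1 →
      pz = pu a e f z * pu a' e' f' z' * (pu a e f z)⁻¹ * (pu a' e' f' z')⁻¹ →
      (a = 1 ∧ e = 0 ∧ a' = 0 ∧ e' = 1) ∨ (a = 0 ∧ e = 1 ∧ a' = 1 ∧ e' = 0) := by decide +kernel
  rcases key a e f z a' e' f' z' h5 h6 h4 with ⟨rfl, rfl, rfl, rfl⟩ | ⟨rfl, rfl, rfl, rfl⟩
  · exact Or.inl ⟨⟨f, z, h1⟩, ⟨f', z', h2⟩⟩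
  · exact Or.inr ⟨⟨f, z, h1⟩, ⟨f', z', h2⟩⟩

/-- `n φ(pf) n⁻¹ = φ(pf)` or `φ(ph)` -/
theorem n_f (H : SixB x φ) (hn : n ∈ normalizer (Tee x φ : Set G)) :
    n * φ pf * n⁻¹ = φ pf ∨ n * φ pf * n⁻¹ = φ ph := by
  obtain ⟨ha, he, hf, hz, haa, hee, hff, hzz⟩ := invU_aux
  obtain ⟨a, e, f, z, h1⟩ := H.n_invol hn hf hff
  have hc : ∀ v, InU v → ∀ w, n * φ v * n⁻¹ = φ w → pu a e f z * w = w * pu a e f z := by
    intro v hv w hw
    apply H.inj
    rw [map_mul, map_mul, ← hw, ← h1]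
    have h3 : φ pf * φ v = φ v * φ pf := by rw [← map_mul, ← map_mul, hv.1]
    calc n * φ pf * n⁻¹ * (n * φ v * n⁻¹) = n * (φ pf * φ v) * n⁻¹ := by group
      _ = n * φ v * n⁻¹ * (n * φ pf * n⁻¹) := by rw [h3]; group
  have key : ∀ a e f z f1 z1 f2 z2 : ZMod 2, pu a e f z * pu 1 0 f1 z1 = pu 1 0 f1 z1 * pu a e f z →
      pu a e f z * pu 0 1 f2 z2 = pu 0 1 f2 z2 * pu a e f z → a = 0 ∧ e = 0 := by decide +kernel
  have h2 : a = 0 ∧ e = 0 := by
    rcases H.n_ae hn with ⟨⟨f1, z1, h3⟩, ⟨f2, z2, h4⟩⟩ | ⟨⟨f1, z1, h3⟩, ⟨f2, z2, h4⟩⟩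
    · exact key a e f z f1 z1 f2 z2 (hc _ ha _ h3) (hc _ he _ h4)
    · exact key a e f z f2 z2 f1 z1 (hc _ he _ h4) (hc _ ha _ h3)
  obtain ⟨rfl, rfl⟩ := h2
  have h5 : f = 1 := by
    rcases zmod2 f with rfl | h
    · exfalso
      have e1 : ∀ z : ZMod 2, pu 0 0 0 z = 1 ∨ pu 0 0 0 z = pz := by decide +kernel
      rcases e1 z with h | h
      · rw [h, map_one, mul_inv_eq_one] at h1
        have h2 := H.phi_eq_one (mul_left_cancel (h1.trans (mul_one n).symm))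
        exact absurd h2 (by decide +kernel)
      · rw [h, ← H.n_z hn] at h1
        exact absurd (H.inj (mul_left_cancel (mul_right_cancel h1))) (by decide +kernel)
    · exact h
  subst h5
  have e2 : ∀ z : ZMod 2, pu 0 0 1 z = pf ∨ pu 0 0 1 z = ph := by decide +kernel
  rcases e2 z with h | h
  · left; rw [h1, h]
  · right; rw [h1, h]

/-- `n` normalizes `φ(U)` -/
theorem n_U (H : SixB x φ) (hn : n ∈ normalizer (Tee x φ : Set G)) {u : P6} (hu : InU u) :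
    ∃ u', InU u' ∧ n * φ u * n⁻¹ = φ u' := by
  obtain ⟨ha, he, hf, hz, haa, hee, hff, hzz⟩ := invU_aux
  have key : ∀ g, InU g → g * g = 1 → ∀ i : ZMod 2, ∃ u', InU u' ∧ n * φ (pw g i) * n⁻¹ = φ u' := by
    intro g hg hgg i
    rcases zmod2 i with rfl | rfl
    · exact ⟨1, inU_one, by rw [pw_zero, map_one]; group⟩
    · obtain ⟨a, e, f, z, h⟩ := H.n_invol hn hg hgg
      exact ⟨_, inU_pu a e f z, h⟩
  obtain ⟨a, e, f, z, rfl⟩ := exists_pu u hu
  obtain ⟨u1, h1, k1⟩ := key pa ha haa a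
  obtain ⟨u2, h2, k2⟩ := key pe he hee e
  obtain ⟨u3, h3, k3⟩ := key pf hf hff f
  obtain ⟨u4, h4, k4⟩ := key pz hz hzz z
  refine ⟨u1 * u2 * u3 * u4, ((h1.mul h2).mul h3).mul h4, ?_⟩
  rw [pu, map_mul, map_mul, map_mul, map_mul, map_mul, map_mul, ← k1, ← k2, ← k3, ← k4]
  group

end SixB

end Cfsg.Agent.OddHalf.D6.SixU
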