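import Cfsg.Agent.OddHalf.D6.SixU.CaseB
import Cfsg.Agent.OddHalf.D6.SixU.TLevel

/-!
# ODD D6, `q = 9`, case C3a (B): case 3b in the form of helper680's frame (helper708)
-/

set_option autoImplicit false

namespace Cfsg.Agent.OddHalf.D6.SixU

open Subgroup Equiv
open Cfsg.Agent.OddHalf.D6.Six

variable {G : Type*} [Group G] {x : G} {φ : P6 →* G}

theorem SixB.uniOf (H : SixB x φ) : Uni x φ where
  xx := H.xx
  inj := H.inj
  comm := H.comm
  nx := H.ne
  cx := fun _ hg => H.cases hg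
  uni := fun p h1 h2 => isConj_iff.1 (H.fus p h1 h2)
  disj := fun p g hg => H.not_isConj_phi p (isConj_iff.2 ⟨g, hg⟩)

theorem SixB.ofUni (U : Uni x φ) : SixB x φ where
  xx := U.xx
  inj := U.inj
  comm := U.comm
  cent := fun g hg => by
    obtain ⟨p, h | h⟩ := U.cx g hg
    · exact Or.inl ⟨p, h⟩
    · exact Or.inr ⟨p, h⟩
  ne := U.nx
  fus := fun p h1 h2 => isConj_iff.2 (U.uni p h1 h2)
  nfus := fun p _ _ h => by
    obtain ⟨g, hg⟩ := isConj_iff.1 h
    exact U.disj p g hg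

theorem Tee_eq_TT (x : G) (φ : P6 →* G) : Tee x φ = TT x φ := rfl

theorem pu_comm : ∀ f z : ZMod 2, pu 0 1 f z * pa ≠ pa * pu 0 1 f z := by decide +kernel

/-- **case 3b** -/
theorem SixB.no_swap [Finite G] (hG : ∀ H : Subgroup G, H.index ≠ 2) (H : SixB x φ) {n : G}
    (hn : n ∈ normalizer (Tee x φ : Set G)) (hs : ∃ f z, n * φ pa * n⁻¹ = φ (pu 0 1 f z)) : False := by
  obtain ⟨f, z, h⟩ := hs
  have h1 := (SixU.no_swap (hom_trivial hG) H.uniOf hn).1
  have h2 : n * φ pa * n⁻¹ * φ pa = φ pa * (n * φ pa * n⁻¹) := h1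
  rw [h] at h2
  exact pu_comm f z (H.uniOf.toSSix.comm_iff.1 h2)

end Cfsg.Agent.OddHalf.D6.SixU
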