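import Cfsg.Agent.OddHalf.D6.SixU.YExist

/-!
# ODD D6, `q = 9`, case C3a (B): the pair `y`, `Y` in case 3a (helper680)
-/

set_option autoImplicit false

namespace Cfsg.Agent.OddHalf.D6.SixU

open Subgroup Equiv

theorem pf_ph_pz : pf = ph * pz ∧ ph = pf * pz ∧ ph * pz = pz * ph := by decide +kernel

theorem theta_pu_aux : ∀ a e f z : ZMod 2, pw (pe * ph) a * pw (pa * pf) e * pw ph f * pw pz z =
    pu e a (a + e + f) (a + f + z + a * e) := by decide +kernel

theorem theta_pw (g : P6) (i : ZMod 2) : theta (pw g i) = pw (theta g) i := by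
  rcases zmod2 i with rfl | rfl
  · rw [pw_zero, pw_zero, map_one]
  · rw [pw_one, pw_one]

theorem theta_pu (a e f z : ZMod 2) : theta (pu a e f z) = pu e a (a + e + f) (a + f + z + a * e) := by
  rw [← theta_pu_aux, pu, map_mul, map_mul, map_mul, theta_pw, theta_pw, theta_pw, theta_pw, theta_pa, theta_pe,
    theta_pf, theta_pz]

variable {G : Type*} [Group G]

namespace SixB

variable {x : G} {φ : P6 →* G}

theorem Tee_dual (_ : SixB x φ) : Tee x (φ.comp theta) = Tee x φ := by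
  obtain ⟨h1, h2, h3⟩ := pf_ph_pz
  ext g
  rw [mem_Tee, mem_Tee]
  simp only [MonoidHom.comp_apply, theta_pf, theta_pz]
  constructor
  · rintro ⟨k1, k2, k3⟩
    refine ⟨k1, ?_, k3⟩
    rw [h1, map_mul, ← mul_assoc, k2, mul_assoc, k3, mul_assoc]
  · rintro ⟨k1, k2, k3⟩
    refine ⟨k1, ?_, k3⟩
    rw [h2, map_mul, ← mul_assoc, k2, mul_assoc, k3, mul_assoc]

variable {n : G}

/-- an element of `N(T)` which does not exchange `A₁` and `A₂` normalizes `A₂` -/
theorem na_of_not_swap (H : SixB x φ) (hn : n ∈ normalizer (Tee x φ : Set G))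
    (hs : ¬ ∃ f z, n * φ pa * n⁻¹ = φ (pu 0 1 f z)) : NA φ n := by
  refine na_of_gens ?_ ⟨pz, gens_aux.2.1, H.n_z hn⟩ ?_
  · rcases H.n_f hn with h | h
    · exact ⟨pf, gens_aux.1, h⟩
    · exact ⟨ph, by decide +kernel, h⟩
  · rcases H.n_ae hn with h | h
    · obtain ⟨f, z, h⟩ := h.2
      exact ⟨_, inA_pu 1 f z, h⟩
    · exact absurd h.1 hs

theorem not_swap_inv (H : SixB x φ) (hn : n ∈ normalizer (Tee x φ : Set G))
    (hs : ¬ ∃ f z, n * φ pa * n⁻¹ = φ (pu 0 1 f z)) : ¬ ∃ f z, n⁻¹ * φ pa * n⁻¹⁻¹ = φ (pu 0 1 f z) := by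
  rintro ⟨f, z, h⟩
  have h1 : φ pa = n * φ (pu 0 1 f z) * n⁻¹ := by rw [← h]; group
  obtain ⟨v, hv, h2⟩ := H.na_of_not_swap hn hs _ (inA_pu 1 f z)
  rw [h2] at h1
  have h3 := H.inj h1
  rw [← h3] at hv
  exact absurd hv (by decide +kernel)

theorem NA_conj {g : G} (h : NA φ g⁻¹) : ∀ u, InA u → ∃ u', InA u' ∧ g⁻¹ * φ u * g = φ u' := by
  intro u hu
  obtain ⟨v, hv, h1⟩ := h u hu
  rw [inv_inv] at h1
  exact ⟨v, hv, h1⟩

/-- the dual of a non-exchanging element is non-exchanging -/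
theorem not_swap_dual (H : SixB x φ) (hn : n ∈ normalizer (Tee x φ : Set G))
    (hs : ¬ ∃ f z, n * φ pa * n⁻¹ = φ (pu 0 1 f z)) :
    ¬ ∃ f z, n * (φ.comp theta) pa * n⁻¹ = (φ.comp theta) (pu 0 1 f z) := by
  rintro ⟨f, z, h⟩
  rw [MonoidHom.comp_apply, MonoidHom.comp_apply, theta_pa, theta_pu] at h
  have e1 : pe * ph = pu 0 1 1 1 := by decide +kernel
  rw [e1] at h
  obtain ⟨v, hv, h2⟩ := H.na_of_not_swap hn hs _ (inA_pu 1 1 1)
  rw [h2] at h
  have h3 := H.inj h
  rw [h3] at hv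
  obtain ⟨e, f', z', h4⟩ := exists_inA _ hv
  have h5 := (pu_inj _ _ _ _ _ _ _ _ h4).1
  exact absurd h5 (by decide)

theorem comm_cent_aux : ∀ a e f z : ZMod 2, pu a e f z * pa = pa * pu a e f z →
    pu a e f z * pe = pe * pu a e f z → ∃ r s, pu a e f z = zz r s := by
  decide +kernel

/-- the centralizer of `T` -/
theorem mem_Z (H : SixB x φ) {g : G} (hx : g * x = x * g) (hf : g * φ pf = φ pf * g) (hz : g * φ pz = φ pz * g)
    (ha : g * φ pa = φ pa * g) (he : g * φ pe = φ pe * g) :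
    ∃ r s : ZMod 2, g = φ (zz r s) ∨ g = x * φ (zz r s) := by
  have key : ∀ u, u * pf = pf * u → u * pz = pz * u → u * pa = pa * u → u * pe = pe * u →
      ∃ r s : ZMod 2, u = zz r s := by
    intro u h1 h2 h3 h4
    obtain ⟨a, e, f, z, rfl⟩ := exists_pu u ⟨h1, h2⟩
    exact comm_cent_aux a e f z h3 h4
  obtain ⟨u, rfl | rfl⟩ := H.cases hx
  · obtain ⟨r, s, rfl⟩ := key u (H.inj (by rw [map_mul, map_mul, hf])) (H.inj (by rw [map_mul, map_mul, hz]))
      (H.inj (by rw [map_mul, map_mul, ha])) (H.inj (by rw [map_mul, map_mul, he]))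
    exact ⟨r, s, Or.inl rfl⟩
  · have h0 : ∀ v, x * φ u * φ v = φ v * (x * φ u) → u * v = v * u := by
      intro v h
      apply H.inj
      apply mul_left_cancel (a := x)
      rw [map_mul, map_mul, ← mul_assoc, h, ← mul_assoc, ← mul_assoc, H.comm v]
    obtain ⟨r, s, rfl⟩ := key u (h0 _ hf) (h0 _ hz) (h0 _ ha) (h0 _ he)
    exact ⟨r, s, Or.inr rfl⟩

/-- CASE 3a: the pair `y`, `Y` -/
theorem exists_pair [Finite G] (H : SixB x φ)
    (hs : ∀ n ∈ normalizer (Tee x φ : Set G), ¬ ∃ f z, n * φ pa * n⁻¹ = φ (pu 0 1 f z)) :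
    ∃ (y Y : G) (c d r s : ZMod 2), SixY x φ y Y c d r s := by
  obtain ⟨pf1, ph1, phz⟩ := pf_ph_pz
  obtain ⟨n, hn, nx⟩ := H.exists_n (Or.inl rfl)
  obtain ⟨m, hm, mx⟩ := H.exists_n (Or.inr (Or.inr rfl))
  obtain ⟨y, c, yy, yx, yf, yz, ye, yr, ya⟩ := H.exists_y nx (H.na_of_not_swap hn (hs n hn))
    (H.na_of_not_swap ((normalizer (Tee x φ : Set G)).inv_mem hn) (H.not_swap_inv hn (hs n hn)))
  have hm' : m ∈ normalizer (Tee x (φ.comp theta) : Set G) := by rw [H.Tee_dual]; exact hm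
  have hm'' := H.not_swap_dual hm (hs m hm)
  obtain ⟨Y, d, YY, Yx, Yh, Yz, Yaf, Ys, Yeh⟩ := H.dual.exists_y (n := m)
    (by rw [MonoidHom.comp_apply, theta_pf]; exact mx)
    (H.dual.na_of_not_swap hm' hm'')
    (H.dual.na_of_not_swap ((normalizer (Tee x (φ.comp theta) : Set G)).inv_mem hm') (H.dual.not_swap_inv hm' hm''))
  simp only [MonoidHom.comp_apply, theta_pf, theta_pz, theta_pe, theta_pr, theta_pa, map_mul, theta_pw] at Yx Yh Yz Yaf Ys Yeh
  -- translate
  have Yf : Y * φ pf = φ pf * Y := by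
    rw [pf1, map_mul, ← mul_assoc, Yh, mul_assoc, Yz, mul_assoc]
  have haf : pa = pa * pf * pf := by decide +kernel
  have Ya : Y * φ pa = φ pa * Y := by
    calc Y * φ pa = Y * (φ pa * φ pf) * φ pf := by rw [mul_assoc, ← map_mul, ← map_mul, ← haf]
      _ = φ pa * φ pf * (Y * φ pf) := by rw [Yaf]; group
      _ = φ pa * φ pf * φ pf * Y := by rw [Yf]; group
      _ = φ pa * Y := by rw [← map_mul, ← map_mul, ← haf]
  have heh : pe = pe * ph * ph := by decide +kernel
  have hphw : ∀ i : ZMod 2, ph * pw ph i = pw ph i * ph := by decide +kernel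
  have Yinv : Y⁻¹ = Y := inv_eq_of_mul_eq_one_left YY
  have Ye : Y * φ pe * Y⁻¹ = φ (pe * pw ph d) := by
    have h1 : Y * φ ph * Y⁻¹ = φ ph := by rw [Yh, mul_inv_cancel_right]
    calc Y * φ pe * Y⁻¹ = Y * φ (pe * ph * ph) * Y⁻¹ := by rw [← heh]
      _ = (Y * (φ pe * φ ph) * Y⁻¹) * (Y * φ ph * Y⁻¹) := by rw [map_mul, map_mul]; group
      _ = φ pe * φ ph * φ (pw ph d) * φ ph := by rw [Yeh, h1]
      _ = φ (pe * ph * pw ph d * ph) := by simp only [map_mul]
      _ = φ (pe * pw ph d) := by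
          congr 1
          rw [mul_assoc (pe * ph), ← hphw, ← mul_assoc, ← heh]
  -- the commutator of `y` and `Y`
  have yinv : y⁻¹ = y := inv_eq_of_mul_eq_one_left yy
  have hff : φ pf * φ pf = 1 := by rw [← map_mul, show pf * pf = 1 by decide +kernel, map_one]
  have hhh : φ ph * φ ph = 1 := by rw [← map_mul, show ph * ph = 1 by decide +kernel, map_one]
  have yx' : y * x = x * φ pf * y := by rw [← yx]; group
  have Yx' : Y * x = x * φ ph * Y := by rw [← Yx]; group
  have yh : y * φ ph = φ ph * y := by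
    rw [ph1, map_mul, ← mul_assoc, yf, mul_assoc, yz, mul_assoc]
  have hfh : φ pf * φ ph = φ ph * φ pf := by rw [← map_mul, ← map_mul, show pf * ph = ph * pf by decide +kernel]
  have kx : y * Y * y * Y * x = x * (y * Y * y * Y) := by
    calc y * Y * y * Y * x = y * Y * y * (Y * x) := by group
      _ = y * Y * y * (x * φ ph * Y) := by rw [Yx']
      _ = y * Y * (y * x) * φ ph * Y := by group
      _ = y * Y * (x * φ pf * y) * φ ph * Y := by rw [yx']
      _ = y * (Y * x) * φ pf * y * φ ph * Y := by group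
      _ = y * (x * φ ph * Y) * φ pf * y * φ ph * Y := by rw [Yx']
      _ = (y * x) * φ ph * Y * φ pf * y * φ ph * Y := by group
      _ = (x * φ pf * y) * φ ph * Y * φ pf * y * φ ph * Y := by rw [yx']
      _ = x * φ pf * (y * φ ph) * (Y * φ pf) * (y * φ ph) * Y := by group
      _ = x * φ pf * (φ ph * y) * (φ pf * Y) * (φ ph * y) * Y := by rw [yh, Yf]
      _ = x * (φ pf * φ ph) * (y * φ pf) * (Y * φ ph) * y * Y := by group
      _ = x * (φ ph * φ pf) * (φ pf * y) * (φ ph * Y) * y * Y := by rw [yf, Yh, hfh]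
      _ = x * φ ph * (φ pf * φ pf) * (y * φ ph) * Y * y * Y := by group
      _ = x * φ ph * (φ ph * y) * Y * y * Y := by rw [hff, yh, mul_one]
      _ = x * (φ ph * φ ph) * y * Y * y * Y := by group
      _ = x * (y * Y * y * Y) := by rw [hhh]; group
  have comm4 : ∀ g, y * g = g * y → Y * g = g * Y → y * Y * y * Y * g = g * (y * Y * y * Y) := by
    intro g h1 h2
    calc y * Y * y * Y * g = y * Y * y * (Y * g) := by group
      _ = y * Y * (y * g) * Y := by rw [h2]; group
      _ = y * (Y * g) * y * Y := by rw [h1]; group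
      _ = (y * g) * Y * y * Y := by rw [h2]; group
      _ = g * (y * Y * y * Y) := by rw [h1]; group
  have hya' : y * φ pa = φ pa * φ (pw pf c) * y := by rw [← map_mul, ← ya]; group
  have hYe' : Y * φ pe = φ pe * φ (pw ph d) * Y := by rw [← map_mul, ← Ye]; group
  have yfc : y * φ (pw pf c) = φ (pw pf c) * y := by
    rcases zmod2 c with rfl | rfl
    · rw [pw_zero, map_one, mul_one, one_mul]
    · exact yf
  have Yfc : Y * φ (pw pf c) = φ (pw pf c) * Y := by
    rcases zmod2 c with rfl | rfl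
    · rw [pw_zero, map_one, mul_one, one_mul]
    · exact Yf
  have yhd : y * φ (pw ph d) = φ (pw ph d) * y := by
    rcases zmod2 d with rfl | rfl
    · rw [pw_zero, map_one, mul_one, one_mul]
    · exact yh
  have Yhd : Y * φ (pw ph d) = φ (pw ph d) * Y := by
    rcases zmod2 d with rfl | rfl
    · rw [pw_zero, map_one, mul_one, one_mul]
    · exact Yh
  have hcc : φ (pw pf c) * φ (pw pf c) = 1 := by
    rw [← map_mul, (by decide +kernel : ∀ i : ZMod 2, pw pf i * pw pf i = 1), map_one]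
  have hdd : φ (pw ph d) * φ (pw ph d) = 1 := by
    rw [← map_mul, (by decide +kernel : ∀ i : ZMod 2, pw ph i * pw ph i = 1), map_one]
  have ka : y * Y * y * Y * φ pa = φ pa * (y * Y * y * Y) := by
    calc y * Y * y * Y * φ pa = y * Y * y * (Y * φ pa) := by group
      _ = y * Y * (y * φ pa) * Y := by rw [Ya]; group
      _ = y * Y * (φ pa * φ (pw pf c) * y) * Y := by rw [hya']
      _ = y * (Y * φ pa) * φ (pw pf c) * y * Y := by group
      _ = y * (φ pa * Y) * φ (pw pf c) * y * Y := by rw [Ya]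
      _ = (y * φ pa) * (Y * φ (pw pf c)) * y * Y := by group
      _ = (φ pa * φ (pw pf c) * y) * (φ (pw pf c) * Y) * y * Y := by rw [hya', Yfc]
      _ = φ pa * φ (pw pf c) * (y * φ (pw pf c)) * Y * y * Y := by group
      _ = φ pa * (φ (pw pf c) * φ (pw pf c)) * y * Y * y * Y := by rw [yfc]; group
      _ = φ pa * (y * Y * y * Y) := by rw [hcc]; group
  have ke : y * Y * y * Y * φ pe = φ pe * (y * Y * y * Y) := by
    calc y * Y * y * Y * φ pe = y * Y * y * (Y * φ pe) := by group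
      _ = y * Y * y * (φ pe * φ (pw ph d) * Y) := by rw [hYe']
      _ = y * Y * (y * φ pe) * φ (pw ph d) * Y := by group
      _ = y * Y * (φ pe * y) * φ (pw ph d) * Y := by rw [ye]
      _ = y * (Y * φ pe) * (y * φ (pw ph d)) * Y := by group
      _ = y * (φ pe * φ (pw ph d) * Y) * (φ (pw ph d) * y) * Y := by rw [hYe', yhd]
      _ = (y * φ pe) * φ (pw ph d) * (Y * φ (pw ph d)) * y * Y := by group
      _ = (φ pe * y) * φ (pw ph d) * (φ (pw ph d) * Y) * y * Y := by rw [ye, Yhd]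
      _ = φ pe * y * (φ (pw ph d) * φ (pw ph d)) * Y * y * Y := by group
      _ = φ pe * (y * Y * y * Y) := by rw [hdd]; group
  obtain ⟨r, s, hrs⟩ := H.mem_Z kx (comm4 _ yf Yf) (comm4 _ yz Yz) ka ke
  have hzzc : y * φ (zz r s) = φ (zz r s) * y := by
    have h1 : y * φ (pw pf r) = φ (pw pf r) * y := by
      rcases zmod2 r with rfl | rfl
      · rw [pw_zero, map_one, mul_one, one_mul]
      · exact yf
    have h2 : y * φ (pw pz s) = φ (pw pz s) * y := by
      rcases zmod2 s with rfl | rfl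
      · rw [pw_zero, map_one, mul_one, one_mul]
      · exact yz
    rw [zz, map_mul, ← mul_assoc, h1, mul_assoc, h2, mul_assoc]
  have hYzc : Y * φ (zz r s) = φ (zz r s) * Y := by
    have h1 : Y * φ (pw pf r) = φ (pw pf r) * Y := by
      rcases zmod2 r with rfl | rfl
      · rw [pw_zero, map_one, mul_one, one_mul]
      · exact Yf
    have h2 : Y * φ (pw pz s) = φ (pw pz s) * Y := by
      rcases zmod2 s with rfl | rfl
      · rw [pw_zero, map_one, mul_one, one_mul]
      · exact Yz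
    rw [zz, map_mul, ← mul_assoc, h1, mul_assoc, h2, mul_assoc]
  have hzz2 : φ (zz r s) * φ (zz r s) = 1 := by rw [← map_mul, zz_sq, map_one]
  suffices hyY : y * Y = Y * y * φ (zz r s) from
    ⟨y, Y, c, d, r, s, ⟨H, yy, YY, yx, Yx, yf, yz, ye, yr, ya, Yf, Yz, Ya, Ys, Ye, hyY⟩⟩
  rcases hrs with h | h
  · -- `y Y y Y = φ(zz r s)`
    calc y * Y = (y * Y * y * Y) * (Y⁻¹ * y⁻¹) := by group
      _ = φ (zz r s) * (Y * y) := by rw [h, yinv, Yinv]
      _ = φ (zz r s) * Y * y := by group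
      _ = Y * φ (zz r s) * y := by rw [hYzc]
      _ = Y * (φ (zz r s) * y) := by group
      _ = Y * y * φ (zz r s) := by rw [← hzzc, mul_assoc]
  · exfalso
    -- `y Y y = x ζ Y` has square `φ(ph)`
    have h1 : y * Y * y = x * φ (zz r s) * Y := by
      calc y * Y * y = (y * Y * y * Y) * Y⁻¹ := by group
        _ = x * φ (zz r s) * Y := by rw [h, Yinv]
    have h2 : (y * Y * y) * (y * Y * y) = 1 := by
      calc (y * Y * y) * (y * Y * y) = y * Y * (y * y) * Y * y := by group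
        _ = y * (Y * Y) * y := by rw [yy]; group
        _ = 1 := by rw [YY, mul_one, yy]
    have h3 : (x * φ (zz r s) * Y) * (x * φ (zz r s) * Y) = φ ph := by
      calc (x * φ (zz r s) * Y) * (x * φ (zz r s) * Y) = x * φ (zz r s) * (Y * x) * φ (zz r s) * Y := by group
        _ = x * φ (zz r s) * (x * φ ph * Y) * φ (zz r s) * Y := by rw [Yx']
        _ = x * (φ (zz r s) * x) * φ ph * (Y * φ (zz r s)) * Y := by group
        _ = x * (x * φ (zz r s)) * φ ph * (φ (zz r s) * Y) * Y := by rw [H.comm', hYzc]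
        _ = (x * x) * (φ (zz r s) * φ ph * φ (zz r s)) * (Y * Y) := by group
        _ = φ (zz r s * ph * zz r s) := by rw [H.xx, YY, map_mul, map_mul, one_mul, mul_one]
        _ = φ ph := by
            congr 1
            exact (by decide +kernel : ∀ r s : ZMod 2, zz r s * ph * zz r s = ph) r s
    rw [← h1, h2] at h3
    exact absurd (H.phi_eq_one h3.symm) (by decide +kernel)

end SixB

end Cfsg.Agent.OddHalf.D6.SixU
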