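import Cfsg.Agent.OddHalf.D6.SixU.Enum
import Cfsg.Agent.OddHalf.D6.SixU.YPair

/-!
# ODD D6, `q = 9`, case C3a (B): the survivors alpha, beta, gamma (helper680)
-/

set_option autoImplicit false

namespace Cfsg.Agent.OddHalf.D6.SixU

open Subgroup Equiv

variable {G : Type*} [Group G]

namespace SixY

variable {x : G} {φ : P6 →* G} {y Y : G} {c d r s : ZMod 2}

theorem table_of [Finite G] (H : SixY x φ y Y c d r s) {L : List Code}
    (h : ∀ v, bt x φ y Y v = true ↔ v ∈ L) : Table x φ y Y L := by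
  intro v f z
  rw [H.full_iff v f z 0 0, ← bt_iff, h]

theorem y_ph (H : SixY x φ y Y c d r s) : y * φ ph = φ ph * y := by
  have h := H.y_zz 1 1
  have h4 : zz 1 1 = ph := by decide +kernel
  rwa [h4] at h

theorem Y_ph (H : SixY x φ y Y c d r s) : Y * φ ph = φ ph * Y := by
  have h := H.Y_zz 1 1
  have h4 : zz 1 1 = ph := by decide +kernel
  rwa [h4] at h

theorem theta_zz (r s : ZMod 2) : theta (zz r s) = zz r (r + s) := by
  rw [zz_eq_pu, theta_pu, zz_eq_pu]
  revert r s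
  decide +kernel

/-- the dual pair -/
theorem dual (H : SixY x φ y Y c d r s) : SixY x (φ.comp theta) Y y d c r (r + s) := by
  refine ⟨H.toSixB.dual, H.YY, H.yy, ?_, ?_, ?_, ?_, ?_, ?_, ?_, ?_, ?_, ?_, ?_, ?_, ?_⟩
  · rw [MonoidHom.comp_apply, theta_pf]; exact H.Yx
  · rw [MonoidHom.comp_apply, theta_ph]; exact H.yx
  · rw [MonoidHom.comp_apply, theta_pf]; exact H.Y_ph
  · rw [MonoidHom.comp_apply, theta_pz]; exact H.Yz
  · rw [MonoidHom.comp_apply, theta_pe, map_mul, ← mul_assoc, H.Ya, mul_assoc, H.Yf, mul_assoc]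
  · rw [MonoidHom.comp_apply, theta_pr]; exact H.Ys
  · rw [MonoidHom.comp_apply, MonoidHom.comp_apply, theta_pa, map_mul theta, theta_pa, theta_pw, theta_pf]
    have h1 : Y * φ ph * Y⁻¹ = φ ph := by rw [H.Y_ph, mul_inv_cancel_right]
    calc Y * φ (pe * ph) * Y⁻¹ = (Y * φ pe * Y⁻¹) * (Y * φ ph * Y⁻¹) := by rw [map_mul]; group
      _ = φ (pe * pw ph d * ph) := by rw [H.Ye, h1, ← map_mul]
      _ = φ (pe * ph * pw ph d) := by
          congr 1
          rcases zmod2 d with rfl | rfl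
          · simp
          · simp
  · rw [MonoidHom.comp_apply, theta_pf]; exact H.y_ph
  · rw [MonoidHom.comp_apply, theta_pz]; exact H.yz
  · rw [MonoidHom.comp_apply, theta_pa, map_mul, ← mul_assoc, H.ye, mul_assoc, H.y_ph, mul_assoc]
  · rw [MonoidHom.comp_apply, theta_ps]; exact H.yr
  · rw [MonoidHom.comp_apply, MonoidHom.comp_apply, theta_pe, map_mul theta, theta_pe, theta_pw, theta_ph]
    have h1 : y * φ pf * y⁻¹ = φ pf := by rw [H.yf, mul_inv_cancel_right]
    calc y * φ (pa * pf) * y⁻¹ = (y * φ pa * y⁻¹) * (y * φ pf * y⁻¹) := by rw [map_mul]; group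
      _ = φ (pa * pw pf c * pf) := by rw [H.ya, h1, ← map_mul]
      _ = φ (pa * pf * pw pf c) := by
          congr 1
          rcases zmod2 c with rfl | rfl
          · simp
          · simp
  · rw [MonoidHom.comp_apply, theta_zz]
    have h1 : r + (r + s) = s := by
      rw [← add_assoc, z2_add_self, zero_add]
    rw [h1, H.yY, mul_assoc (Y * y), ← map_mul, zz_sq, map_one, mul_one]

theorem elt_dual (H : SixY x φ y Y c d r s) (v : Code) (f z : ZMod 2) :
    ∃ f' z', elt x (φ.comp theta) Y y v f z = elt x φ y Y (v.1, v.2.2.1, v.2.1, v.2.2.2.2, v.2.2.2.1) f' z' := by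
  obtain ⟨i, j, k, a, e⟩ := v
  simp only [elt]
  rw [MonoidHom.comp_apply, theta_pu]
  have h1 : pw x i * pw Y j * pw y k * φ (pu e a (a + e + f) (a + f + z + a * e)) =
      pw x i * (pw Y j * pw y k) * φ (pu e a (a + e + f) (a + f + z + a * e)) := by group
  rw [h1, H.Y_y]
  refine ⟨r * j * k + (a + e + f), s * j * k + (a + f + z + a * e), ?_⟩
  have h2 : pu 0 0 (r * j * k) (s * j * k) * pu e a (a + e + f) (a + f + z + a * e) =
      pu e a (r * j * k + (a + e + f)) (s * j * k + (a + f + z + a * e)) := by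
    rw [pu_mul]
    simp
  rw [← h2, map_mul]
  group

theorem list_dual : ∀ v : Code, (v.1, v.2.2.1, v.2.1, v.2.2.2.2, v.2.2.2.1) ∈ listBd ↔ v ∈ listB := by
  decide +kernel

/-- THE SURVIVORS -/
theorem survivors [Finite G] (hG : ∀ H : Subgroup G, H.index ≠ 2) (H : SixY x φ y Y c d r s) :
    Alpha x φ y Y ∨ Beta x φ y Y ∨ Beta x (φ.comp theta) Y y ∨ Gamma x φ y Y := by
  rcases (H.tab hG).cases with ⟨rfl, rfl, rfl, rfl, h⟩ | ⟨rfl, rfl, rfl, rfl, h⟩ | ⟨rfl, rfl, rfl, rfl, h⟩ |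
    ⟨rfl, rfl, rfl, rfl, h⟩
  · exact Or.inl ⟨H, H.table_of h⟩
  · exact Or.inr (Or.inl ⟨H, H.table_of h⟩)
  · refine Or.inr (Or.inr (Or.inl ⟨H.dual, ?_⟩))
    intro v f z
    obtain ⟨f', z', h1⟩ := H.elt_dual v f z
    rw [h1, H.table_of h]
    exact list_dual v
  · exact Or.inr (Or.inr (Or.inr ⟨H, H.table_of h⟩))

end SixY

end Cfsg.Agent.OddHalf.D6.SixU
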