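import Cfsg.Agent.OddHalf.D6.SixU.YDefs

/-!
# ODD D6, `q = 9`, case C3a (B): the explicit model of `T₁` (helper680)

`Md c d r s`: a group of order 128, the multiplication table of `T₁ = ⟨x, y, Y, φ(U)⟩`; `SixY.psi : Md c d r s →* G`.
-/

set_option autoImplicit false

namespace Cfsg.Agent.OddHalf.D6.SixU

open Subgroup Equiv

/-- the `pf`-part of the cocycle -/
def kf (c d r : ZMod 2) (u v : Code) : ZMod 2 :=
  u.2.1 * v.1 + u.2.2.1 * v.1 + r * u.2.2.1 * v.2.1 + c * u.2.2.2.1 * v.2.1 + d * u.2.2.2.2 * v.2.2.1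

/-- the `pz`-part of the cocycle -/
def kz (d s : ZMod 2) (u v : Code) : ZMod 2 :=
  u.2.2.1 * v.1 + s * u.2.2.1 * v.2.1 + d * u.2.2.2.2 * v.2.2.1 + u.2.2.2.2 * v.2.2.2.1

theorem kf_add_left (c d r : ZMod 2) (u u' v : Code) : kf c d r (u + u') v = kf c d r u v + kf c d r u' v := by
  simp only [kf, Prod.fst_add, Prod.snd_add]; ring

theorem kf_add_right (c d r : ZMod 2) (u v v' : Code) : kf c d r u (v + v') = kf c d r u v + kf c d r u v' := by
  simp only [kf, Prod.fst_add, Prod.snd_add]; ring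

theorem kz_add_left (d s : ZMod 2) (u u' v : Code) : kz d s (u + u') v = kz d s u v + kz d s u' v := by
  simp only [kz, Prod.fst_add, Prod.snd_add]; ring

theorem kz_add_right (d s : ZMod 2) (u v v' : Code) : kz d s u (v + v') = kz d s u v + kz d s u v' := by
  simp only [kz, Prod.fst_add, Prod.snd_add]; ring

theorem kf_zero_left (c d r : ZMod 2) (v : Code) : kf c d r 0 v = 0 := by simp [kf]

theorem kf_zero_right (c d r : ZMod 2) (v : Code) : kf c d r v 0 = 0 := by simp [kf]

theorem kz_zero_left (d s : ZMod 2) (v : Code) : kz d s 0 v = 0 := by simp [kz]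

theorem kz_zero_right (d s : ZMod 2) (v : Code) : kz d s v 0 = 0 := by simp [kz]

/-- the model -/
@[ext] structure Md (c d r s : ZMod 2) where
  v : Code
  f : ZMod 2
  z : ZMod 2

namespace Md

variable {c d r s : ZMod 2}

instance : Mul (Md c d r s) := ⟨fun m n => ⟨m.v + n.v, m.f + n.f + kf c d r m.v n.v, m.z + n.z + kz d s m.v n.v⟩⟩

instance : One (Md c d r s) := ⟨⟨0, 0, 0⟩⟩

instance : Inv (Md c d r s) := ⟨fun m => ⟨m.v, m.f + kf c d r m.v m.v, m.z + kz d s m.v m.v⟩⟩

theorem mul_v (m n : Md c d r s) : (m * n).v = m.v + n.v := rfl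
theorem mul_f (m n : Md c d r s) : (m * n).f = m.f + n.f + kf c d r m.v n.v := rfl
theorem mul_z (m n : Md c d r s) : (m * n).z = m.z + n.z + kz d s m.v n.v := rfl
theorem one_v : (1 : Md c d r s).v = 0 := rfl
theorem one_f : (1 : Md c d r s).f = 0 := rfl
theorem one_z : (1 : Md c d r s).z = 0 := rfl
theorem inv_v (m : Md c d r s) : (m⁻¹).v = m.v := rfl
theorem inv_f (m : Md c d r s) : (m⁻¹).f = m.f + kf c d r m.v m.v := rfl
theorem inv_z (m : Md c d r s) : (m⁻¹).z = m.z + kz d s m.v m.v := rfl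

theorem code_add_self (v : Code) : v + v = 0 := by
  revert v; decide +kernel

instance : Group (Md c d r s) where
  mul_assoc m n k := by
    ext1
    · simp only [mul_v]; ring
    · simp only [mul_v, mul_f, kf_add_left, kf_add_right]; ring
    · simp only [mul_v, mul_z, kz_add_left, kz_add_right]; ring
  one_mul m := by
    ext1
    · simp only [mul_v, one_v, zero_add]
    · simp only [mul_f, one_f, one_v, kf_zero_left, zero_add, add_zero]
    · simp only [mul_z, one_z, one_v, kz_zero_left, zero_add, add_zero]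
  mul_one m := by
    ext1
    · simp only [mul_v, one_v, add_zero]
    · simp only [mul_f, one_f, one_v, kf_zero_right, add_zero]
    · simp only [mul_z, one_z, one_v, kz_zero_right, add_zero]
  inv_mul_cancel m := by
    ext1
    · simp only [mul_v, inv_v, one_v, code_add_self]
    · simp only [mul_f, inv_f, inv_v, one_f]
      generalize kf c d r m.v m.v = k
      generalize m.f = l
      revert k l; decide
    · simp only [mul_z, inv_z, inv_v, one_z]
      generalize kz d s m.v m.v = k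
      generalize m.z = l
      revert k l; decide

/-- the underlying type -/
def equiv (c d r s : ZMod 2) : Md c d r s ≃ Code × ZMod 2 × ZMod 2 where
  toFun m := ⟨m.v, m.f, m.z⟩
  invFun p := ⟨p.1, p.2.1, p.2.2⟩
  left_inv _ := rfl
  right_inv _ := rfl

instance : Finite (Md c d r s) := Finite.of_equiv _ (equiv c d r s).symm

theorem card : Nat.card (Md c d r s) = 128 := by
  rw [Nat.card_congr (equiv c d r s), Nat.card_eq_fintype_card]
  rfl

end Md

variable {G : Type*} [Group G]

theorem pw_add_of {M : Type*} [Monoid M] {g : M} (h : g * g = 1) (i j : ZMod 2) : pw g i * pw g j = pw g (i + j) := by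
  rcases zmod2 i with rfl | rfl <;> rcases zmod2 j with rfl | rfl
  · rw [pw_zero, mul_one, add_zero, pw_zero]
  · rw [pw_zero, pw_one, one_mul, zero_add, pw_one]
  · rw [pw_zero, pw_one, mul_one, add_zero, pw_one]
  · rw [pw_one, h]; rfl

theorem pu_zero : pu 0 0 0 0 = 1 := by decide +kernel

theorem pw_pf (i : ZMod 2) : pw pf i = pu 0 0 i 0 := by
  rcases zmod2 i with rfl | rfl <;> decide +kernel

theorem pu_split : ∀ a e f z : ZMod 2, pu a e f z = pw pa a * pw pe e * zz f z := by decide +kernel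

namespace SixY

variable {x : G} {φ : P6 →* G} {y Y : G} {c d r s : ZMod 2}

theorem comm_pw {g k : G} (h : g * k = k * g) (i : ZMod 2) : g * pw k i = pw k i * g := by
  rcases zmod2 i with rfl | rfl
  · rw [pw_zero, mul_one, one_mul]
  · exact h

theorem phi_pw (u : P6) (i : ZMod 2) : φ (pw u i) = pw (φ u) i := by
  rcases zmod2 i with rfl | rfl
  · rw [pw_zero, pw_zero, map_one]
  · rw [pw_one, pw_one]

theorem y_zz (H : SixY x φ y Y c d r s) (f z : ZMod 2) : y * φ (zz f z) = φ (zz f z) * y := by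
  rw [zz, map_mul, phi_pw, phi_pw, ← mul_assoc, comm_pw H.yf, mul_assoc, comm_pw H.yz, mul_assoc]

theorem Y_zz (H : SixY x φ y Y c d r s) (f z : ZMod 2) : Y * φ (zz f z) = φ (zz f z) * Y := by
  rw [zz, map_mul, phi_pw, phi_pw, ← mul_assoc, comm_pw H.Yf, mul_assoc, comm_pw H.Yz, mul_assoc]

theorem pu_y_aux : ∀ a e f z c : ZMod 2, pw (pa * pw pf c) a * pw pe e * zz f z = pu a e (f + c * a) z := by
  decide +kernel

theorem pu_Y_aux : ∀ a e f z d : ZMod 2, pw pa a * pw (pe * pw ph d) e * zz f z = pu a e (f + d * e) (z + d * e) := by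
  decide +kernel

theorem y_inv (H : SixY x φ y Y c d r s) : y⁻¹ = y := inv_eq_of_mul_eq_one_left H.yy

theorem Y_inv (H : SixY x φ y Y c d r s) : Y⁻¹ = Y := inv_eq_of_mul_eq_one_left H.YY

theorem pu_y (H : SixY x φ y Y c d r s) (a e f z : ZMod 2) :
    φ (pu a e f z) * y = y * φ (pu a e (f + c * a) z) := by
  have h1 : y * pw (φ pa) a = pw (φ (pa * pw pf c)) a * y := by
    rcases zmod2 a with rfl | rfl
    · rw [pw_zero, pw_zero, mul_one, one_mul]
    · rw [pw_one, pw_one, ← H.ya]; group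
  have h2 : y * φ (pu a e f z) = φ (pu a e (f + c * a) z) * y := by
    rw [← pu_y_aux, pu_split, map_mul, map_mul, map_mul, map_mul, phi_pw, phi_pw, phi_pw]
    calc y * (pw (φ pa) a * pw (φ pe) e * φ (zz f z)) = y * pw (φ pa) a * pw (φ pe) e * φ (zz f z) := by group
      _ = pw (φ (pa * pw pf c)) a * (y * pw (φ pe) e) * φ (zz f z) := by rw [h1]; group
      _ = pw (φ (pa * pw pf c)) a * pw (φ pe) e * (y * φ (zz f z)) := by rw [comm_pw H.ye]; group
      _ = pw (φ (pa * pw pf c)) a * pw (φ pe) e * φ (zz f z) * y := by rw [H.y_zz]; group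
  calc φ (pu a e f z) * y = (y * y) * φ (pu a e f z) * y := by rw [H.yy, one_mul]
    _ = y * (y * φ (pu a e f z)) * y := by group
    _ = y * φ (pu a e (f + c * a) z) * (y * y) := by rw [h2]; group
    _ = y * φ (pu a e (f + c * a) z) := by rw [H.yy, mul_one]

theorem pu_Y (H : SixY x φ y Y c d r s) (a e f z : ZMod 2) :
    φ (pu a e f z) * Y = Y * φ (pu a e (f + d * e) (z + d * e)) := by
  have h1 : Y * pw (φ pe) e = pw (φ (pe * pw ph d)) e * Y := by
    rcases zmod2 e with rfl | rfl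
    · rw [pw_zero, pw_zero, mul_one, one_mul]
    · rw [pw_one, pw_one, ← H.Ye]; group
  have h2 : Y * φ (pu a e f z) = φ (pu a e (f + d * e) (z + d * e)) * Y := by
    rw [← pu_Y_aux, pu_split, map_mul, map_mul, map_mul, map_mul, phi_pw, phi_pw, phi_pw]
    calc Y * (pw (φ pa) a * pw (φ pe) e * φ (zz f z)) = Y * pw (φ pa) a * pw (φ pe) e * φ (zz f z) := by group
      _ = pw (φ pa) a * (Y * pw (φ pe) e) * φ (zz f z) := by rw [comm_pw H.Ya]; group
      _ = pw (φ pa) a * pw (φ (pe * pw ph d)) e * (Y * φ (zz f z)) := by rw [h1]; group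
      _ = pw (φ pa) a * pw (φ (pe * pw ph d)) e * φ (zz f z) * Y := by rw [H.Y_zz]; group
  calc φ (pu a e f z) * Y = (Y * Y) * φ (pu a e f z) * Y := by rw [H.YY, one_mul]
    _ = Y * (Y * φ (pu a e f z)) * Y := by group
    _ = Y * φ (pu a e (f + d * e) (z + d * e)) * (Y * Y) := by rw [h2]; group
    _ = Y * φ (pu a e (f + d * e) (z + d * e)) := by rw [H.YY, mul_one]

theorem pu_pw_x (H : SixY x φ y Y c d r s) (u : P6) (i : ZMod 2) : φ u * pw x i = pw x i * φ u :=
  comm_pw (H.comm' u) i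

theorem pu_pw_y (H : SixY x φ y Y c d r s) (a e f z j : ZMod 2) :
    φ (pu a e f z) * pw y j = pw y j * φ (pu a e (f + c * a * j) z) := by
  rcases zmod2 j with rfl | rfl
  · rw [pw_zero, mul_zero, add_zero, one_mul, mul_one]
  · rw [pw_one, mul_one, H.pu_y]

theorem pu_pw_Y (H : SixY x φ y Y c d r s) (a e f z k : ZMod 2) :
    φ (pu a e f z) * pw Y k = pw Y k * φ (pu a e (f + d * e * k) (z + d * e * k)) := by
  rcases zmod2 k with rfl | rfl
  · rw [pw_zero, mul_zero, add_zero, add_zero, one_mul, mul_one]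
  · rw [pw_one, mul_one, H.pu_Y]

theorem zz_pw_y (H : SixY x φ y Y c d r s) (f z j : ZMod 2) :
    φ (pu 0 0 f z) * pw y j = pw y j * φ (pu 0 0 f z) := by
  rw [H.pu_pw_y, mul_zero, zero_mul, add_zero]

theorem zz_pw_Y (H : SixY x φ y Y c d r s) (f z k : ZMod 2) :
    φ (pu 0 0 f z) * pw Y k = pw Y k * φ (pu 0 0 f z) := by
  rw [H.pu_pw_Y, mul_zero, zero_mul, add_zero, add_zero]

theorem Y_x (H : SixY x φ y Y c d r s) (k i : ZMod 2) :
    pw Y k * pw x i = pw x i * pw Y k * φ (pu 0 0 (k * i) (k * i)) := by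
  rcases zmod2 k with rfl | rfl
  · rw [pw_zero, zero_mul, pu_zero, map_one, one_mul, mul_one, mul_one]
  rcases zmod2 i with rfl | rfl
  · rw [pw_zero, mul_zero, pu_zero, map_one, one_mul, mul_one]
  have h : pu 0 0 (1 * 1) (1 * 1) = ph := by decide +kernel
  rw [pw_one, pw_one, h]
  have h2 : Y * x = x * φ ph * Y := by rw [← H.Yx]; group
  have h3 : Y * φ ph = φ ph * Y := by
    have := H.Y_zz 1 1
    have h4 : zz 1 1 = ph := by decide +kernel
    rwa [h4] at this
  rw [h2, mul_assoc, mul_assoc, h3]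

theorem y_x (H : SixY x φ y Y c d r s) (j i : ZMod 2) :
    pw y j * pw x i = pw x i * pw y j * φ (pu 0 0 (j * i) 0) := by
  rcases zmod2 j with rfl | rfl
  · rw [pw_zero, zero_mul, pu_zero, map_one, one_mul, mul_one, mul_one]
  rcases zmod2 i with rfl | rfl
  · rw [pw_zero, mul_zero, pu_zero, map_one, one_mul, mul_one]
  have h : pu 0 0 (1 * 1) 0 = pf := by decide +kernel
  rw [pw_one, pw_one, h]
  have h2 : y * x = x * φ pf * y := by rw [← H.yx]; group
  rw [h2, mul_assoc, mul_assoc, H.yf]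

theorem Y_y (H : SixY x φ y Y c d r s) (k j : ZMod 2) :
    pw Y k * pw y j = pw y j * pw Y k * φ (pu 0 0 (r * k * j) (s * k * j)) := by
  rcases zmod2 k with rfl | rfl
  · rw [pw_zero, mul_zero, mul_zero, zero_mul, pu_zero, map_one, one_mul, mul_one, mul_one]
  rcases zmod2 j with rfl | rfl
  · rw [pw_zero, mul_zero, mul_zero, pu_zero, map_one, one_mul, mul_one]
  rw [pw_one, pw_one, mul_one, mul_one, mul_one, mul_one, ← zz_eq_pu, H.yY, mul_assoc (Y * y), ← map_mul, zz_sq,
    map_one, mul_one]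

/-- THE MULTIPLICATION TABLE OF `T₁` -/
theorem elt_mul (H : SixY x φ y Y c d r s) (v : Code) (f z : ZMod 2) (v' : Code) (f' z' : ZMod 2) :
    elt x φ y Y v f z * elt x φ y Y v' f' z' =
      elt x φ y Y (v + v') (f + f' + kf c d r v v') (z + z' + kz d s v v') := by
  obtain ⟨i, j, k, a, e⟩ := v
  obtain ⟨i', j', k', a', e'⟩ := v'
  simp only [elt, kf, kz, Prod.mk_add_mk]
  calc pw x i * pw y j * pw Y k * φ (pu a e f z) * (pw x i' * pw y j' * pw Y k' * φ (pu a' e' f' z'))
      = pw x i * pw y j * pw Y k * (φ (pu a e f z) * pw x i') * pw y j' * pw Y k' * φ (pu a' e' f' z') := by group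
    _ = pw x i * pw y j * (pw Y k * pw x i') * (φ (pu a e f z) * pw y j') * pw Y k' * φ (pu a' e' f' z') := by
        rw [H.pu_pw_x]; group
    _ = pw x i * pw y j * (pw x i' * pw Y k * φ (pu 0 0 (k * i') (k * i'))) *
          (pw y j' * φ (pu a e (f + c * a * j') z)) * pw Y k' * φ (pu a' e' f' z') := by
        rw [H.Y_x, H.pu_pw_y]
    _ = pw x i * (pw y j * pw x i') * pw Y k * (φ (pu 0 0 (k * i') (k * i')) * pw y j') *
          (φ (pu a e (f + c * a * j') z) * pw Y k') * φ (pu a' e' f' z') := by group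
    _ = pw x i * (pw x i' * pw y j * φ (pu 0 0 (j * i') 0)) * pw Y k * (pw y j' * φ (pu 0 0 (k * i') (k * i'))) *
          (pw Y k' * φ (pu a e (f + c * a * j' + d * e * k') (z + d * e * k'))) * φ (pu a' e' f' z') := by
        rw [H.y_x, H.zz_pw_y, H.pu_pw_Y]
    _ = (pw x i * pw x i') * pw y j * (φ (pu 0 0 (j * i') 0) * pw Y k) * pw y j' *
          (φ (pu 0 0 (k * i') (k * i')) * pw Y k') *
          φ (pu a e (f + c * a * j' + d * e * k') (z + d * e * k')) * φ (pu a' e' f' z') := by group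
    _ = pw x (i + i') * pw y j * (pw Y k * φ (pu 0 0 (j * i') 0)) * pw y j' *
          (pw Y k' * φ (pu 0 0 (k * i') (k * i'))) *
          φ (pu a e (f + c * a * j' + d * e * k') (z + d * e * k')) * φ (pu a' e' f' z') := by
        rw [H.zz_pw_Y, H.zz_pw_Y, pw_add_of H.xx]
    _ = pw x (i + i') * pw y j * pw Y k * (φ (pu 0 0 (j * i') 0) * pw y j') * pw Y k' *
          φ (pu 0 0 (k * i') (k * i')) *
          φ (pu a e (f + c * a * j' + d * e * k') (z + d * e * k')) * φ (pu a' e' f' z') := by group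
    _ = pw x (i + i') * pw y j * (pw Y k * pw y j') * (φ (pu 0 0 (j * i') 0) * pw Y k') *
          φ (pu 0 0 (k * i') (k * i')) *
          φ (pu a e (f + c * a * j' + d * e * k') (z + d * e * k')) * φ (pu a' e' f' z') := by
        rw [H.zz_pw_y]; group
    _ = pw x (i + i') * pw y j * (pw y j' * pw Y k * φ (pu 0 0 (r * k * j') (s * k * j'))) *
          (pw Y k' * φ (pu 0 0 (j * i') 0)) * φ (pu 0 0 (k * i') (k * i')) *
          φ (pu a e (f + c * a * j' + d * e * k') (z + d * e * k')) * φ (pu a' e' f' z') := by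
        rw [H.Y_y, H.zz_pw_Y]
    _ = pw x (i + i') * (pw y j * pw y j') * pw Y k * (φ (pu 0 0 (r * k * j') (s * k * j')) * pw Y k') *
          φ (pu 0 0 (j * i') 0) * φ (pu 0 0 (k * i') (k * i')) *
          φ (pu a e (f + c * a * j' + d * e * k') (z + d * e * k')) * φ (pu a' e' f' z') := by group
    _ = pw x (i + i') * pw y (j + j') * pw Y k * (pw Y k' * φ (pu 0 0 (r * k * j') (s * k * j'))) *
          φ (pu 0 0 (j * i') 0) * φ (pu 0 0 (k * i') (k * i')) *
          φ (pu a e (f + c * a * j' + d * e * k') (z + d * e * k')) * φ (pu a' e' f' z') := by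
        rw [H.zz_pw_Y, pw_add_of H.yy]
    _ = pw x (i + i') * pw y (j + j') * (pw Y k * pw Y k') * (φ (pu 0 0 (r * k * j') (s * k * j')) *
          φ (pu 0 0 (j * i') 0) * φ (pu 0 0 (k * i') (k * i')) *
          φ (pu a e (f + c * a * j' + d * e * k') (z + d * e * k')) * φ (pu a' e' f' z')) := by group
    _ = pw x (i + i') * pw y (j + j') * pw Y (k + k') * φ (pu (a + a') (e + e')
          (f + f' + (j * i' + k * i' + r * k * j' + c * a * j' + d * e * k'))
          (z + z' + (k * i' + s * k * j' + d * e * k' + e * a'))) := by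
        rw [pw_add_of H.YY]
        congr 1
        rw [← map_mul, ← map_mul, ← map_mul, ← map_mul, pu_mul, pu_mul, pu_mul, pu_mul]
        congr 2 <;> ring

/-- the homomorphism onto `T₁` -/
def psi (H : SixY x φ y Y c d r s) : Md c d r s →* G where
  toFun m := elt x φ y Y m.v m.f m.z
  map_one' := by
    show elt x φ y Y 0 0 0 = 1
    simp [elt, pu_zero]
  map_mul' m n := (H.elt_mul m.v m.f m.z n.v n.f n.z).symm

theorem psi_apply (H : SixY x φ y Y c d r s) (m : Md c d r s) : H.psi m = elt x φ y Y m.v m.f m.z := rfl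

theorem psi_inj (H : SixY x φ y Y c d r s) : Function.Injective H.psi := by
  rw [injective_iff_map_eq_one]
  rintro ⟨⟨i, j, k, a, e⟩, f, z⟩ h
  rw [psi_apply] at h
  simp only [elt] at h
  -- conjugate `x`
  have h1 : pw y j * pw Y k = (pw x i)⁻¹ * (φ (pu a e f z))⁻¹ := by
    calc pw y j * pw Y k = (pw x i)⁻¹ * (pw x i * pw y j * pw Y k * φ (pu a e f z)) * (φ (pu a e f z))⁻¹ := by
          group
      _ = (pw x i)⁻¹ * (φ (pu a e f z))⁻¹ := by rw [h, mul_one]
  have h2 : x * (pw y j * pw Y k) = (pw y j * pw Y k) * x := by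
    rw [h1]
    have e1 : x * (pw x i)⁻¹ = (pw x i)⁻¹ * x := by
      rcases zmod2 i with rfl | rfl
      · simp
      · simp
    have e2 : x * (φ (pu a e f z))⁻¹ = (φ (pu a e f z))⁻¹ * x := by rw [← map_inv, H.comm]
    rw [← mul_assoc, e1, mul_assoc, e2, mul_assoc]
  have h3 : (pw y j * pw Y k) * x = x * (pw y j * pw Y k) * φ (pu 0 0 (j + k) k) := by
    have e1 := H.Y_x k 1
    have e2 := H.y_x j 1
    rw [pw_one, mul_one] at e1 e2
    calc (pw y j * pw Y k) * x = pw y j * (pw Y k * x) := by group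
      _ = (pw y j * x) * pw Y k * φ (pu 0 0 k k) := by rw [e1]; group
      _ = x * pw y j * (φ (pu 0 0 j 0) * pw Y k) * φ (pu 0 0 k k) := by rw [e2]; group
      _ = x * (pw y j * pw Y k) * (φ (pu 0 0 j 0) * φ (pu 0 0 k k)) := by rw [H.zz_pw_Y]; group
      _ = x * (pw y j * pw Y k) * φ (pu 0 0 (j + k) k) := by
          rw [← map_mul, pu_mul, zero_mul, add_zero, add_zero, zero_add]
  have h4 : φ (pu 0 0 (j + k) k) = 1 := by
    rw [h2] at h3
    exact (mul_eq_left.1 h3.symm)
  have h5 := H.phi_eq_one h4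
  rw [← pu_zero] at h5
  obtain ⟨-, -, h6, h7⟩ := pu_inj _ _ _ _ _ _ _ _ h5
  subst h7
  rw [add_zero] at h6
  subst h6
  simp only [pw_zero, mul_one] at h
  rcases zmod2 i with rfl | rfl
  · rw [pw_zero, one_mul] at h
    have h5 := H.phi_eq_one h
    rw [← pu_zero] at h5
    obtain ⟨rfl, rfl, rfl, rfl⟩ := pu_inj _ _ _ _ _ _ _ _ h5
    rfl
  · exfalso
    rw [pw_one] at h
    apply H.xne 1 (pu a e f z)
    rw [h, map_one]

end SixY

end Cfsg.Agent.OddHalf.D6.SixU
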