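import Cfsg.Agent.OddHalf.D6.Six.SylowSix

/-!
# ODD D6, `C_G(x) = ⟨x⟩ × S₆`, uniform pattern: the normaliser of the Sylow 2-subgroup `T` of `C_G(x)` (helper708)

`P = N_G(T)` has order 128, `P/T` is regular on the four conjugates `x φ(s)` of `x` in `Z(T)`.
`clean`: if `d ∈ x^G` and `w ≠ d` is an involution commuting with `d` then exactly one of `w`, `d w` is in `x^G`.
-/

set_option autoImplicit false

namespace Cfsg.Agent.OddHalf.D6.SixU.NT

open Subgroup Equiv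
open Cfsg.Agent.OddHalf.D6.Six

variable {G : Type*} [Group G]

/-- two subgroups of order `32` are conjugate in a group of order not divisible by 64 -/
theorem conj_of_card [Finite G] {C P Q : Subgroup G} (hP : P ≤ C) (hQ : Q ≤ C)
    (cP : Nat.card P = 32) (cQ : Nat.card Q = 32) (cC : ¬ 64 ∣ Nat.card C) :
    ∃ c ∈ C, ∀ t, t ∈ P ↔ c * t * c⁻¹ ∈ Q := by
  have : Fact (Nat.Prime 2) := ⟨Nat.prime_two⟩
  have key : ∀ R : Subgroup G, R ≤ C → Nat.card R = 32 → ∃ S : Sylow 2 C, (S : Subgroup C) = R.subgroupOf C := by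
    intro R hR cR
    have c1 : Nat.card (R.subgroupOf C) = 32 := by
      rw [Nat.card_congr (subgroupOfEquivOfLe hR).toEquiv, cR]
    have p1 : IsPGroup 2 (R.subgroupOf C) := IsPGroup.of_card (n := 5) (by rw [c1]; norm_num)
    obtain ⟨S, hS⟩ := p1.exists_le_sylow
    refine ⟨S, ?_⟩
    obtain ⟨n, hn⟩ := IsPGroup.iff_card.1 S.isPGroup'
    have h1 : Nat.card (S : Subgroup C) ∣ Nat.card C := card_subgroup_dvd_card _
    have h2 : n ≤ 5 := by
      by_contra h
      have h3 : 2 ^ 6 ∣ Nat.card C := (pow_dvd_pow 2 (by omega : 6 ≤ n)).trans (hn ▸ h1)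
      exact cC (by simpa using h3)
    symm
    apply eq_of_le_of_card_ge hS
    rw [c1, hn]
    calc 2 ^ n ≤ 2 ^ 5 := Nat.pow_le_pow_right (by decide) h2
      _ = 32 := by norm_num
  obtain ⟨S, hS⟩ := key P hP cP
  obtain ⟨S', hS'⟩ := key Q hQ cQ
  obtain ⟨c, hc⟩ := MulAction.exists_smul_eq C S S'
  refine ⟨c, c.2, fun t => ?_⟩
  have h1 : ∀ t : C, t ∈ (S : Subgroup C) ↔ c * t * c⁻¹ ∈ (S' : Subgroup C) := by
    intro t
    rw [← hc, Sylow.coe_subgroup_smul]
    constructor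
    · intro ht
      exact ⟨t, ht, rfl⟩
    · rintro ⟨s, hs, h⟩
      have h' : c * s * c⁻¹ = c * t * c⁻¹ := h
      have : s = t := mul_left_cancel (mul_right_cancel h')
      rwa [← this]
  rw [hS, hS'] at h1
  constructor
  · intro ht
    exact (h1 ⟨t, hP ht⟩).1 ht
  · intro ht
    have h2 : c * t * (c : G)⁻¹ ∈ C := hQ ht
    have h3 : t ∈ C := by
      have := C.mul_mem (C.mul_mem (C.inv_mem c.2) h2) c.2
      have e : (c : G)⁻¹ * (c * t * (c : G)⁻¹) * c = t := by group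
      rwa [e] at this
    exact (h1 ⟨t, h3⟩).2 ht

/-- the centre of `PP` -/
def ZZ (s : Perm (Fin 6)) : Prop := s = 1 ∨ s = c1 ∨ s = c2 ∨ s = c3

instance : DecidablePred ZZ := fun s => by unfold ZZ; infer_instance

theorem ZZ_sq {s : Perm (Fin 6)} (h : ZZ s) : s * s = 1 := by
  rcases h with rfl | rfl | rfl | rfl <;> decide

theorem ZZ_mul {s t : Perm (Fin 6)} (h : ZZ s) (h' : ZZ t) : ZZ (s * t) := by
  rcases h with rfl | rfl | rfl | rfl <;> rcases h' with rfl | rfl | rfl | rfl <;> decide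

theorem ZZ_comm {s t : Perm (Fin 6)} (h : ZZ s) (h' : ZZ t) : s * t = t * s := by
  rcases h with rfl | rfl | rfl | rfl <;> rcases h' with rfl | rfl | rfl | rfl <;> decide

theorem card_ZZ : (Finset.univ.filter fun p : Perm (Fin 6) => ZZ p).card = 4 := by decide +kernel

theorem c1_mem : ZZ c1 := Or.inr (Or.inl rfl)
theorem c2_mem : ZZ c2 := Or.inr (Or.inr (Or.inl rfl))
theorem c3_mem : ZZ c3 := Or.inr (Or.inr (Or.inr rfl))
theorem one_mem' : ZZ 1 := Or.inl rfl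

theorem ZZ_PP {s p : Perm (Fin 6)} (h : ZZ s) (hp : PP p) : p * s = s * p := by
  rcases h with rfl | rfl | rfl | rfl
  · rw [mul_one, one_mul]
  · exact hp.1
  · exact hp.2
  · rw [← show c1 * c2 = c3 by decide, ← mul_assoc p, hp.1, mul_assoc c1, hp.2, ← mul_assoc]

theorem ZZ_is_PP {s : Perm (Fin 6)} (h : ZZ s) : PP s := by
  rcases h with rfl | rfl | rfl | rfl <;> decide

theorem norm_PP : ∀ p : Perm (Fin 6), PP (p * c1 * p⁻¹) → PP (p * c2 * p⁻¹) → PP (p * a0 * p⁻¹) →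
    PP (p * e0 * p⁻¹) → PP p := by decide +kernel

theorem comm_PP : ∀ p : Perm (Fin 6), PP p → ∀ q : Perm (Fin 6), PP q →
    p * q * p⁻¹ * q⁻¹ = 1 ∨ p * q * p⁻¹ * q⁻¹ = c2 := by decide +kernel

variable {x : G} {φ : Perm (Fin 6) →* G}

theorem phi_mem (S : SSix x φ) {p : Perm (Fin 6)} : φ p ∈ TT x φ ↔ PP p := by
  rw [S.mem_TT_iff]
  constructor
  · rintro ⟨q, hq, h | h⟩
    · rwa [S.inj h]
    · exact absurd h (S.ne p q)
  · intro h
    exact ⟨p, h, Or.inl rfl⟩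

theorem xphi_mem (S : SSix x φ) {p : Perm (Fin 6)} : x * φ p ∈ TT x φ ↔ PP p := by
  rw [S.mem_TT_iff]
  constructor
  · rintro ⟨q, hq, h | h⟩
    · exact absurd h.symm (S.ne q p)
    · rwa [S.mul_inj h]
  · intro h
    exact ⟨p, h, Or.inr rfl⟩

theorem x_mem (S : SSix x φ) : x ∈ TT x φ := mem_TT.2 ⟨rfl, S.comm c1, S.comm c2⟩

/-- the elements `φ s`, `x φ s`, `s ∈ ZZ`, centralise `T` -/
theorem phi_comm (S : SSix x φ) {s : Perm (Fin 6)} (hs : ZZ s) {t : G} (ht : t ∈ TT x φ) :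
    t * φ s = φ s * t := by
  obtain ⟨p, hp, rfl | rfl⟩ := S.mem_TT_iff.1 ht
  · rw [← map_mul, ← map_mul, ZZ_PP hs hp]
  · rw [mul_assoc, ← map_mul, ZZ_PP hs hp, map_mul, ← mul_assoc, S.comm s, mul_assoc]

theorem xphi_comm (S : SSix x φ) {s : Perm (Fin 6)} (hs : ZZ s) {t : G} (ht : t ∈ TT x φ) :
    t * (x * φ s) = x * φ s * t := by
  rw [← mul_assoc, (mem_TT.1 ht).1, mul_assoc, phi_comm S hs ht, mul_assoc]

/-- growth inside `N ≥ T` -/
theorem exists_norm [Finite G] (S : SSix x φ) {N : Subgroup G} (hN : TT x φ ≤ N) {g : G} (hg : g ∈ N)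
    (hy : ∀ t ∈ TT x φ, t * (g * x * g⁻¹) = g * x * g⁻¹ * t) :
    ∃ n ∈ N, n ∈ normalizer (TT x φ : Set G) ∧ n * x * n⁻¹ = g * x * g⁻¹ := by
  set y := g * x * g⁻¹ with hyd
  let Q : Subgroup G := (TT x φ).map (MulAut.conj g).toMonoidHom
  have cQ : Nat.card Q = 32 := by
    rw [← S.card_TT]
    exact (Nat.card_congr ((TT x φ).equivMapOfInjective _ (MulAut.conj g).injective).toEquiv).symm
  have hQ : Q ≤ N ⊓ centralizer ({y} : Set G) := by
    rintro _ ⟨t, ht, rfl⟩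
    refine ⟨N.mul_mem (N.mul_mem hg (hN ht)) (N.inv_mem hg), mem_centralizer_singleton_iff.2 ?_⟩
    show g * t * g⁻¹ * y = y * (g * t * g⁻¹)
    rw [hyd]
    calc g * t * g⁻¹ * (g * x * g⁻¹) = g * (t * x) * g⁻¹ := by group
      _ = g * (x * t) * g⁻¹ := by rw [(mem_TT.1 ht).1]
      _ = g * x * g⁻¹ * (g * t * g⁻¹) := by group
  have hT : TT x φ ≤ N ⊓ centralizer ({y} : Set G) := fun t ht =>
    ⟨hN ht, mem_centralizer_singleton_iff.2 (hy t ht)⟩
  obtain ⟨c, hc, h⟩ := conj_of_card hQ hT cQ S.card_TT (by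
    intro h
    have h1 : Nat.card ((N ⊓ centralizer ({y} : Set G) : Subgroup G)) ∣ Nat.card (centralizer ({y} : Set G)) :=
      card_dvd_of_le inf_le_right
    rw [S.card_of_conj (isConj_iff.2 ⟨g, rfl⟩)] at h1
    exact absurd (h.trans h1) (by decide))
  refine ⟨c * g, N.mul_mem hc.1 hg, ?_, ?_⟩
  · rw [mem_normalizer_iff]
    intro t
    have h1 := h (g * t * g⁻¹)
    rw [show c * (g * t * g⁻¹) * c⁻¹ = c * g * t * (c * g)⁻¹ by group] at h1
    rw [← h1]
    constructor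
    · intro ht
      exact ⟨t, ht, rfl⟩
    · rintro ⟨s, hs, h2⟩
      have h' : g * s * g⁻¹ = g * t * g⁻¹ := h2
      have : s = t := mul_left_cancel (mul_right_cancel h')
      rwa [← this]
  · have h2 := mem_centralizer_singleton_iff.1 hc.2
    calc c * g * x * (c * g)⁻¹ = c * (g * x * g⁻¹) * c⁻¹ := by group
      _ = c * y * c⁻¹ := by rw [hyd]
      _ = y := by rw [h2, mul_inv_cancel_right]

/-- `P` moves `x` to every `x φ(s)` -/
theorem exists_P [Finite G] (U : Uni x φ) {s : Perm (Fin 6)} (hs : ZZ s) :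
    ∃ n ∈ normalizer (TT x φ : Set G), n * x * n⁻¹ = x * φ s := by
  by_cases h1 : s = 1
  · exact ⟨1, one_mem _, by rw [h1, map_one]; group⟩
  obtain ⟨g, hg⟩ := U.uni s (ZZ_sq hs) h1
  obtain ⟨n, -, hn, h⟩ := exists_norm U.toSSix (N := ⊤) le_top (mem_top g) (by
    rw [hg]; intro t ht; exact xphi_comm U.toSSix hs ht)
  exact ⟨n, hn, h.trans hg⟩

theorem mem_P {n : G} : n ∈ normalizer (TT x φ : Set G) ↔ ∀ t, t ∈ TT x φ ↔ n * t * n⁻¹ ∈ TT x φ :=
  mem_normalizer_iff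

theorem T_le : TT x φ ≤ normalizer (TT x φ : Set G) := le_normalizer

theorem conj_mem {n t : G} (hn : n ∈ normalizer (TT x φ : Set G)) (ht : t ∈ TT x φ) : n * t * n⁻¹ ∈ TT x φ :=
  (mem_P.1 hn t).1 ht

/-- an element of `P` fixing `x` is in `T` -/
theorem fix (S : SSix x φ) {n : G} (hn : n ∈ normalizer (TT x φ : Set G)) (h : n * x * n⁻¹ = x) : n ∈ TT x φ := by
  have hc : n * x = x * n := mul_inv_eq_iff_eq_mul.1 h
  obtain ⟨p, hp⟩ := S.cx n hc
  have key : ∀ q, PP q → PP (p * q * p⁻¹) := by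
    intro q hq
    have h1 := conj_mem hn ((phi_mem S).2 hq)
    have h2 : n * φ q * n⁻¹ = φ (p * q * p⁻¹) := by
      rcases hp with rfl | rfl
      · rw [map_mul, map_mul, map_inv]
      · rw [mul_inv_rev, S.xinv]
        calc x * φ p * φ q * ((φ p)⁻¹ * x) = x * (φ p * φ q * (φ p)⁻¹) * x := by group
          _ = x * φ (p * q * p⁻¹) * x := by rw [map_mul, map_mul, map_inv]
          _ = x * x * φ (p * q * p⁻¹) := by rw [mul_assoc, S.comm', ← mul_assoc]
          _ = φ (p * q * p⁻¹) := by rw [S.xx, one_mul]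
    rw [h2] at h1
    exact (phi_mem S).1 h1
  have hpp : PP p := norm_PP p (key _ (ZZ_is_PP c1_mem)) (key _ (ZZ_is_PP c2_mem)) (key _ (by decide))
    (key _ (by decide))
  exact S.mem_TT_iff.2 ⟨p, hpp, hp⟩

/-- commutators in `T` -/
theorem comm_TT (S : SSix x φ) {w w' : G} (hw : w ∈ TT x φ) (hw' : w' ∈ TT x φ) :
    w * w' * w⁻¹ * w'⁻¹ = 1 ∨ w * w' * w⁻¹ * w'⁻¹ = φ c2 := by
  obtain ⟨p, hp, h⟩ := S.mem_TT_iff.1 hw
  obtain ⟨q, hq, h'⟩ := S.mem_TT_iff.1 hw'
  have hx : ∀ r : G, (∃ q, r = φ q) → x * r * x⁻¹ = r := by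
    rintro _ ⟨q, rfl⟩
    rw [S.comm, mul_inv_cancel_right]
  have h0 : w * w' * w⁻¹ * w'⁻¹ = φ (p * q * p⁻¹ * q⁻¹) := by
    rcases h with rfl | rfl <;> rcases h' with rfl | rfl
    · simp only [map_mul, map_inv]
    · rw [mul_inv_rev, S.xinv]
      calc φ p * (x * φ q) * (φ p)⁻¹ * ((φ q)⁻¹ * x) = (φ p * x) * (φ q * (φ p)⁻¹ * (φ q)⁻¹) * x := by group
        _ = x * (φ p * φ q * (φ p)⁻¹ * (φ q)⁻¹) * x := by rw [S.comm' p]; group
        _ = x * φ (p * q * p⁻¹ * q⁻¹) * x⁻¹ := by rw [S.xinv]; simp only [map_mul, map_inv]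
        _ = _ := hx _ ⟨_, rfl⟩
    · rw [mul_inv_rev, S.xinv]
      calc x * φ p * φ q * ((φ p)⁻¹ * x) * (φ q)⁻¹ = x * (φ p * φ q * (φ p)⁻¹) * (x * (φ q)⁻¹) := by group
        _ = x * (φ p * φ q * (φ p)⁻¹) * ((φ q)⁻¹ * x) := by rw [← map_inv φ q, S.comm q⁻¹]
        _ = x * φ (p * q * p⁻¹ * q⁻¹) * x⁻¹ := by rw [S.xinv]; simp only [map_mul, map_inv]; group
        _ = _ := hx _ ⟨_, rfl⟩
    · rw [mul_inv_rev, mul_inv_rev, S.xinv]
      calc x * φ p * (x * φ q) * ((φ p)⁻¹ * x) * ((φ q)⁻¹ * x)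
          = x * (φ p * x) * (φ q * (φ p)⁻¹) * (x * (φ q)⁻¹) * x := by group
        _ = x * (x * φ p) * (φ q * (φ p)⁻¹) * ((φ q)⁻¹ * x) * x := by rw [S.comm' p, ← map_inv φ q, S.comm q⁻¹]
        _ = (x * x) * (φ p * φ q * (φ p)⁻¹ * (φ q)⁻¹) * (x * x) := by group
        _ = φ (p * q * p⁻¹ * q⁻¹) := by rw [S.xx]; simp only [map_mul, map_inv, one_mul, mul_one]
  rw [h0]
  rcases comm_PP p hp q hq with h1 | h1
  · left; rw [h1, map_one]
  · right; rw [h1]

theorem fix_c2 (S : SSix x φ) {n : G} (hn : n ∈ normalizer (TT x φ : Set G)) : n * φ c2 * n⁻¹ = φ c2 := by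
  have h1 := comm_TT S (conj_mem hn ((phi_mem S).2 (show PP a0 by decide)))
    (conj_mem hn ((phi_mem S).2 (show PP e0 by decide)))
  have h2 : n * φ a0 * n⁻¹ * (n * φ e0 * n⁻¹) * (n * φ a0 * n⁻¹)⁻¹ * (n * φ e0 * n⁻¹)⁻¹ = n * φ c2 * n⁻¹ := by
    rw [← show a0 * e0 * a0⁻¹ * e0⁻¹ = c2 by decide]
    simp only [map_mul, map_inv]
    group
  rw [h2] at h1
  rcases h1 with h1 | h1
  · exfalso
    have h3 : φ c2 = 1 := by
      calc φ c2 = n⁻¹ * (n * φ c2 * n⁻¹) * n := by group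
        _ = 1 := by rw [h1]; group
    have := S.inj (h3.trans (map_one φ).symm)
    revert this
    decide
  · exact h1

theorem conj_x (U : Uni x φ) {n : G} (hn : n ∈ normalizer (TT x φ : Set G)) :
    ∃ s, ZZ s ∧ n * x * n⁻¹ = x * φ s := by
  have S := U.toSSix
  obtain ⟨p, hp, h | h⟩ := S.center_TT (conj_mem hn (x_mem S)) (by
    intro t ht
    have h1 : n⁻¹ * t * n ∈ TT x φ := by
      have := conj_mem (inv_mem hn) ht
      rwa [inv_inv] at this
    have h2 := (mem_TT.1 h1).1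
    calc t * (n * x * n⁻¹) = n * (n⁻¹ * t * n * x) * n⁻¹ := by group
      _ = n * (x * (n⁻¹ * t * n)) * n⁻¹ := by rw [h2]
      _ = n * x * n⁻¹ * t := by group)
  · exact absurd h (U.disj p n)
  · exact ⟨p, hp, h⟩

theorem conj_xs [Finite G] (U : Uni x φ) {n : G} (hn : n ∈ normalizer (TT x φ : Set G)) {s : Perm (Fin 6)}
    (hs : ZZ s) : ∃ s', ZZ s' ∧ n * (x * φ s) * n⁻¹ = x * φ s' := by
  obtain ⟨m, hm, h⟩ := exists_P U hs
  obtain ⟨s', hs', h'⟩ := conj_x U (mul_mem hn hm)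
  refine ⟨s', hs', ?_⟩
  rw [← h', ← h]
  group

/-- an element of `P` fixing some `x φ(s)` is in `T` -/
theorem fix_xs [Finite G] (U : Uni x φ) {n : G} (hn : n ∈ normalizer (TT x φ : Set G)) {s : Perm (Fin 6)}
    (hs : ZZ s) (h : n * (x * φ s) * n⁻¹ = x * φ s) : n ∈ TT x φ := by
  obtain ⟨m, hm, h'⟩ := exists_P U hs
  have h1 : m⁻¹ * n * m ∈ TT x φ := by
    apply fix U.toSSix (mul_mem (mul_mem (inv_mem hm) hn) hm)
    rw [← h'] at h
    calc m⁻¹ * n * m * x * (m⁻¹ * n * m)⁻¹ = m⁻¹ * (n * (m * x * m⁻¹) * n⁻¹) * m := by group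
      _ = x := by rw [h]; group
  have h2 := conj_mem hm h1
  rwa [show m * (m⁻¹ * n * m) * m⁻¹ = n by group] at h2

theorem conj_s [Finite G] (U : Uni x φ) {n : G} (hn : n ∈ normalizer (TT x φ : Set G)) {s : Perm (Fin 6)}
    (hs : ZZ s) : ∃ s', ZZ s' ∧ n * φ s * n⁻¹ = φ s' := by
  have S := U.toSSix
  obtain ⟨s1, hs1, h1⟩ := conj_x U hn
  obtain ⟨s2, hs2, h2⟩ := conj_xs U hn hs
  refine ⟨s1 * s2, ZZ_mul hs1 hs2, ?_⟩
  calc n * φ s * n⁻¹ = (n * x * n⁻¹)⁻¹ * (n * (x * φ s) * n⁻¹) := by group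
    _ = (x * φ s1)⁻¹ * (x * φ s2) := by rw [h1, h2]
    _ = (φ s1)⁻¹ * φ s2 := by group
    _ = φ (s1 * s2) := by
      rw [map_mul]
      congr 1
      rw [inv_eq_iff_mul_eq_one, ← map_mul, ZZ_sq hs1, map_one]

theorem conj_c1 [Finite G] (U : Uni x φ) {n : G} (hn : n ∈ normalizer (TT x φ : Set G)) :
    n * φ c1 * n⁻¹ = φ c1 ∨ n * φ c1 * n⁻¹ = φ c3 := by
  have S := U.toSSix
  obtain ⟨s, hs, h⟩ := conj_s U hn c1_mem
  have hinv : φ c1 = n⁻¹ * (n * φ c1 * n⁻¹) * n := by group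
  rcases hs with rfl | rfl | rfl | rfl
  · exfalso
    rw [h, map_one] at hinv
    have : φ c1 = 1 := by rw [hinv]; group
    have := S.inj (this.trans (map_one φ).symm)
    revert this
    decide
  · exact Or.inl h
  · exfalso
    rw [← fix_c2 S hn] at h
    have := S.inj (mul_left_cancel (mul_right_cancel h))
    revert this
    decide
  · exact Or.inr h

open Classical in
theorem card_of_mem [Finite G] (S : SSix x φ) (K : Subgroup G) (Q : Perm (Fin 6) → Prop)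
    (h : ∀ g, g ∈ K ↔ ∃ p, Q p ∧ (g = φ p ∨ g = x * φ p)) :
    Nat.card K = 2 * (Finset.univ.filter Q).card := by
  let e : Bool × {p // Q p} ≃ K := Equiv.ofBijective
    (fun b => ⟨(if b.1 then x else 1) * φ b.2, by
      rw [h]
      refine ⟨b.2, b.2.2, ?_⟩
      split_ifs
      · exact Or.inr rfl
      · exact Or.inl (one_mul _)⟩) (by
    constructor
    · rintro ⟨b, p⟩ ⟨c, q⟩ h
      have h1 : (if b then x else 1) * φ p = (if c then x else 1) * φ q := congrArg Subtype.val h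
      cases b <;> cases c
      · simp only [Bool.false_eq_true, if_false, one_mul] at h1
        rw [Subtype.ext (S.inj h1)]
      · simp only [Bool.false_eq_true, if_false, one_mul, if_true] at h1
        exact absurd h1 (S.ne p q)
      · simp only [Bool.false_eq_true, if_false, one_mul, if_true] at h1
        exact absurd h1.symm (S.ne q p)
      · simp only [if_true] at h1
        rw [Subtype.ext (S.mul_inj h1)]
    · rintro ⟨g, hg⟩
      obtain ⟨p, hp, rfl | rfl⟩ := (h g).1 hg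
      · exact ⟨(false, ⟨p, hp⟩), Subtype.ext (by simp)⟩
      · exact ⟨(true, ⟨p, hp⟩), Subtype.ext (by simp)⟩)
  rw [← Nat.card_congr e, Nat.card_prod]
  have h1 : Nat.card {p // Q p} = (Finset.univ.filter Q).card := by
    rw [Nat.card_eq_fintype_card, Fintype.card_subtype]
  rw [h1]
  simp

theorem P_inf (S : SSix x φ) : normalizer (TT x φ : Set G) ⊓ centralizer {x} = TT x φ := by
  ext g
  constructor
  · rintro ⟨h1, h2⟩
    exact fix S h1 (mul_inv_eq_iff_eq_mul.2 (mem_centralizer_singleton_iff.1 h2))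
  · intro h
    exact ⟨T_le h, mem_centralizer_singleton_iff.2 (mem_TT.1 h).1⟩

theorem card_P [Finite G] (U : Uni x φ) : Nat.card (normalizer (TT x φ : Set G)) = 128 := by
  have S := U.toSSix
  have h := Parity.card_orbit x (normalizer (TT x φ : Set G))
  rw [P_inf S, S.card_TT] at h
  have h1 : {d : G | ∃ h ∈ normalizer (TT x φ : Set G), h * x * h⁻¹ = d} = (fun s => x * φ s) '' {s | ZZ s} := by
    ext d
    constructor
    · rintro ⟨n, hn, rfl⟩
      obtain ⟨s, hs, h⟩ := conj_x U hn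
      exact ⟨s, hs, h.symm⟩
    · rintro ⟨s, hs, rfl⟩
      exact exists_P U hs
  have h2 : {s | ZZ s}.ncard = 4 := by
    rw [← card_ZZ, ← Set.ncard_coe_finset]
    congr 1
    ext p
    simp
  rw [h1, Set.ncard_image_of_injective _ (fun p q h => S.mul_inj h), h2] at h
  rw [h]

theorem isConj_conj {d : G} (g : G) : IsConj x (g⁻¹ * d * g) ↔ IsConj x d := by
  have h : IsConj (g⁻¹ * d * g) d := isConj_iff.2 ⟨g, by group⟩
  exact ⟨fun h1 => h1.trans h, fun h1 => h1.trans h.symm⟩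

/-- **the clean rule** -/
theorem clean (U : Uni x φ) {d w : G} (hd : IsConj x d) (hw : w * w = 1) (h1 : w ≠ 1) (hne : w ≠ d)
    (hc : w * d = d * w) : IsConj x w ↔ ¬ IsConj x (d * w) := by
  have S := U.toSSix
  obtain ⟨g, rfl⟩ := isConj_iff.1 hd
  rw [← isConj_conj g (d := w), ← isConj_conj g (d := g * x * g⁻¹ * w)]
  have e1 : g⁻¹ * (g * x * g⁻¹ * w) * g = x * (g⁻¹ * w * g) := by group
  rw [e1]
  set v := g⁻¹ * w * g with hv
  have hvx : v * x = x * v := by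
    calc v * x = g⁻¹ * (w * (g * x * g⁻¹)) * g := by rw [hv]; group
      _ = g⁻¹ * (g * x * g⁻¹ * w) * g := by rw [hc]
      _ = x * v := by rw [hv]; group
  have hvv : v * v = 1 := by
    calc v * v = g⁻¹ * (w * w) * g := by rw [hv]; group
      _ = 1 := by rw [hw]; group
  have hv1 : v ≠ 1 := by
    intro h
    apply h1
    calc w = g * v * g⁻¹ := by rw [hv]; group
      _ = 1 := by rw [h]; group
  have hvx' : v ≠ x := by
    intro h
    apply hne
    calc w = g * v * g⁻¹ := by rw [hv]; group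
      _ = g * x * g⁻¹ := by rw [h]
  obtain ⟨p, h | h⟩ := S.cx v hvx
  · have hp : p * p = 1 := S.inj (by rw [map_mul, ← h, hvv, map_one])
    have hp1 : p ≠ 1 := by
      rintro rfl
      exact hv1 (h.trans (map_one φ))
    rw [h]
    constructor
    · intro h2
      obtain ⟨g', hg'⟩ := isConj_iff.1 h2
      exact absurd hg' (U.disj p g')
    · intro h2
      obtain ⟨g', hg'⟩ := U.uni p hp hp1
      exact absurd (isConj_iff.2 ⟨g', hg'⟩) h2
  · have hp : p * p = 1 := by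
      apply S.inj
      rw [map_mul, map_one, ← hvv, h]
      calc φ p * φ p = (x * x) * φ p * φ p := by rw [S.xx, one_mul]
        _ = x * (x * φ p) * φ p := by group
        _ = x * (φ p * x) * φ p := by rw [S.comm p]
        _ = x * φ p * (x * φ p) := by group
    have hp1 : p ≠ 1 := by
      rintro rfl
      exact hvx' (h.trans (by rw [map_one, mul_one]))
    rw [h, ← mul_assoc, S.xx, one_mul]
    constructor
    · intro _ h2
      obtain ⟨g', hg'⟩ := isConj_iff.1 h2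
      exact absurd hg' (U.disj p g')
    · intro _
      obtain ⟨g', hg'⟩ := U.uni p hp hp1
      exact isConj_iff.2 ⟨g', hg'⟩

end Cfsg.Agent.OddHalf.D6.SixU.NT
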