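import Cfsg.Agent.OddHalf.TFormula

/-!
# The transfer formula, counting form, abelian target (ODD, helper751)

`G` finite perfect, `x` an involution, `H ≤ G`, `φ : H →* A`, `A` abelian, `a : A` with `a ≠ 1`, `a * a = 1`.
If `φ` takes only the values `1`, `a` on the conjugates of `x` in `H`, the number of the conjugates of `x` in
`H` with value `a`, times `|C(x)|`, is an even multiple of `|H|`.
-/

set_option autoImplicit false

namespace Cfsg.Agent.OddHalf.D6.SixU.TFab

open Subgroup

variable {G : Type*} [Group G]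

/-- the conjugates of `x` in `H` with value `a` -/
def Val {A : Type*} [CommGroup A] (x : G) (H : Subgroup G) (φ : H →* A) (a : A) : Set G :=
  {d | IsConj x d ∧ ∃ h : d ∈ H, φ ⟨d, h⟩ = a}

theorem exists_even {A : Type*} [CommGroup A] [Finite G] (hG : commutator G = ⊤) {x : G}
    (hx : x * x = 1) (H : Subgroup G) (φ : H →* A) {a : A} (ha1 : a ≠ 1) (ha : a * a = 1)
    (hv : ∀ (d : G) (h : d ∈ H), IsConj x d → φ ⟨d, h⟩ = 1 ∨ φ ⟨d, h⟩ = a) :
    ∃ m : ℕ, Even m ∧ m * Nat.card H = (Val x H φ a).ncard * Nat.card (centralizer ({x} : Set G)) := by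
  classical
  have : Fintype G := Fintype.ofFinite G
  have : Fintype (G ⧸ H) := Fintype.ofFinite _
  obtain ⟨f, hf, s, hs, hprod⟩ := TFormula.transfer_eq_prod H φ x hx ⊥ IsPGroup.of_bot
    (fun y hy => by rw [mem_bot.1 hy]; simp)
  rw [TFormula.hom_eq_one hG (MonoidHom.transfer φ) x] at hprod
  have mem_s : ∀ g : G, (g : G ⧸ H) ∈ s ↔ g⁻¹ * x * g ∈ H := by
    intro g
    rw [hs]
    constructor
    · rintro ⟨h, -⟩
      have h1 : ((x * g : G) : G ⧸ H) = (g : G ⧸ H) := h
      rw [eq_comm, QuotientGroup.eq] at h1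
      rwa [← mul_assoc] at h1
    · intro h
      refine ⟨?_, fun y hy => by rw [mem_bot.1 hy, one_smul]⟩
      show ((x * g : G) : G ⧸ H) = (g : G ⧸ H)
      rw [eq_comm, QuotientGroup.eq, ← mul_assoc]
      exact h
  have hcj : ∀ g : G, IsConj x (g⁻¹ * x * g) := fun g =>
    isConj_iff.2 ⟨g⁻¹, by rw [inv_inv]⟩
  -- the fixed cosets with value `a`
  set s' := s.filter (fun q => f q = a) with hs'
  have heven : Even s'.card := by
    have h1 : ∏ q ∈ s, f q = a ^ s'.card := by
      rw [← Finset.prod_filter_mul_prod_filter_not s (fun q => f q = a)]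
      have h2 : ∏ q ∈ s.filter (fun q => ¬ f q = a), f q = 1 := by
        apply Finset.prod_eq_one
        intro q hq
        obtain ⟨g, rfl⟩ := QuotientGroup.mk_surjective q
        have hg := (mem_s g).1 (Finset.mem_filter.1 hq).1
        rcases hv _ hg (hcj g) with h | h
        · rw [hf _ g rfl hg]; exact h
        · exact absurd (by rw [hf _ g rfl hg]; exact h) (Finset.mem_filter.1 hq).2
      rw [h2, mul_one, Finset.prod_congr rfl (fun q hq => (Finset.mem_filter.1 hq).2),
        Finset.prod_const]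
    rw [h1] at hprod
    by_contra h
    rw [Nat.not_even_iff_odd] at h
    obtain ⟨k, hk⟩ := h
    rw [hk, pow_succ, pow_mul, pow_two, ha, one_pow, one_mul] at hprod
    exact ha1 hprod.symm
  refine ⟨s'.card, heven, ?_⟩
  let A' : Set G := {g | ∃ h : g⁻¹ * x * g ∈ H, φ ⟨g⁻¹ * x * g, h⟩ = a}
  have mem_s' : ∀ g : G, (g : G ⧸ H) ∈ s' ↔ g ∈ A' := by
    intro g
    rw [hs', Finset.mem_filter, mem_s]
    constructor
    · rintro ⟨h, h1⟩
      exact ⟨h, by rw [← hf _ g rfl h]; exact h1⟩
    · rintro ⟨h, h1⟩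
      exact ⟨h, by rw [hf _ g rfl h]; exact h1⟩
  -- count `A'` by cosets of `H`
  have hA1 : A'.ncard = s'.card * Nat.card H := by
    let e : A' ≃ s' × H :=
      { toFun := fun g => ⟨⟨(g : G), (mem_s' g).2 g.2⟩, ⟨(Quotient.out ((g : G) : G ⧸ H))⁻¹ * g, by
          have h1 : ((Quotient.out ((g : G) : G ⧸ H) : G) : G ⧸ H) = ((g : G) : G ⧸ H) :=
            Quotient.out_eq _
          exact QuotientGroup.eq.1 h1⟩⟩
        invFun := fun p => ⟨Quotient.out (p.1 : G ⧸ H) * p.2, by
          rw [← mem_s']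
          have h1 : ((Quotient.out (p.1 : G ⧸ H) * (p.2 : G) : G) : G ⧸ H) = p.1 := by
            rw [QuotientGroup.mk_mul_of_mem _ p.2.2]
            exact Quotient.out_eq _
          rw [h1]
          exact p.1.2⟩
        left_inv := fun g => Subtype.ext (by
          show Quotient.out ((g : G) : G ⧸ H) * ((Quotient.out ((g : G) : G ⧸ H))⁻¹ * (g : G)) = g
          rw [mul_inv_cancel_left])
        right_inv := fun p => by
          have h1 : ((Quotient.out (p.1 : G ⧸ H) * (p.2 : G) : G) : G ⧸ H) = p.1 := by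
            rw [QuotientGroup.mk_mul_of_mem _ p.2.2]
            exact Quotient.out_eq _
          refine Prod.ext (Subtype.ext h1) (Subtype.ext ?_)
          show (Quotient.out ((Quotient.out (p.1 : G ⧸ H) * (p.2 : G) : G) : G ⧸ H))⁻¹ *
            (Quotient.out (p.1 : G ⧸ H) * (p.2 : G)) = p.2
          rw [h1, inv_mul_cancel_left] }
    have h2 := Nat.card_congr e
    rw [Nat.card_prod] at h2
    have h3 : Nat.card s' = s'.card := by
      rw [Nat.card_eq_fintype_card, Fintype.card_coe]
    rw [← h3, ← h2]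
    rfl
  -- count `A'` by `g ↦ g⁻¹ x g`
  have hA2 : A'.ncard = (Val x H φ a).ncard * Nat.card (centralizer ({x} : Set G)) := by
    have hch : ∀ d : Val x H φ a, ∃ g : G, g⁻¹ * x * g = d := by
      rintro ⟨d, hd, -⟩
      obtain ⟨c, hc⟩ := isConj_iff.1 hd
      exact ⟨c⁻¹, by rw [inv_inv]; exact hc⟩
    choose w hw using hch
    let e : A' ≃ Val x H φ a × centralizer ({x} : Set G) :=
      { toFun := fun g =>
          let d : Val x H φ a := ⟨(g : G)⁻¹ * x * g, hcj g, g.2⟩
          ⟨d, ⟨(g : G) * (w d)⁻¹, by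
            rw [mem_centralizer_singleton_iff]
            have h1 := hw d
            have h2 : x = w d * ((g : G)⁻¹ * x * g) * (w d)⁻¹ := by
              rw [show ((g : G)⁻¹ * x * g) = (w d)⁻¹ * x * w d from h1.symm]; group
            calc (g : G) * (w d)⁻¹ * x = (g : G) * (w d)⁻¹ * (w d * ((g : G)⁻¹ * x * g) * (w d)⁻¹) := by
                  rw [← h2]
              _ = x * ((g : G) * (w d)⁻¹) := by group⟩⟩
        invFun := fun p => ⟨(p.2 : G) * w p.1, by
          obtain ⟨h1, h2⟩ := p.1.2.2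
          have h3 : ((p.2 : G) * w p.1)⁻¹ * x * ((p.2 : G) * w p.1) = p.1 := by
            have h4 := mem_centralizer_singleton_iff.1 p.2.2
            calc ((p.2 : G) * w p.1)⁻¹ * x * ((p.2 : G) * w p.1)
                = (w p.1)⁻¹ * (p.2 : G)⁻¹ * (x * p.2) * w p.1 := by group
              _ = (w p.1)⁻¹ * (p.2 : G)⁻¹ * (p.2 * x) * w p.1 := by rw [h4]
              _ = (w p.1)⁻¹ * x * w p.1 := by group
              _ = p.1 := hw p.1
          refine ⟨by rw [h3]; exact h1, ?_⟩
          exact (congrArg φ (Subtype.ext h3)).trans h2⟩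
        left_inv := fun g => Subtype.ext (by
          show (g : G) * (w _)⁻¹ * w _ = g
          rw [inv_mul_cancel_right])
        right_inv := fun p => by
          have h3 : ((p.2 : G) * w p.1)⁻¹ * x * ((p.2 : G) * w p.1) = p.1 := by
            have h4 := mem_centralizer_singleton_iff.1 p.2.2
            calc ((p.2 : G) * w p.1)⁻¹ * x * ((p.2 : G) * w p.1)
                = (w p.1)⁻¹ * (p.2 : G)⁻¹ * (x * p.2) * w p.1 := by group
              _ = (w p.1)⁻¹ * (p.2 : G)⁻¹ * (p.2 * x) * w p.1 := by rw [h4]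
              _ = (w p.1)⁻¹ * x * w p.1 := by group
              _ = p.1 := hw p.1
          have h5 : ∀ (d : Val x H φ a), (d : G) = p.1 → (p.2 : G) * w p.1 * (w d)⁻¹ = p.2 := by
            intro d hd
            rw [show d = p.1 from Subtype.ext hd, mul_inv_cancel_right]
          exact Prod.ext (Subtype.ext h3) (Subtype.ext (h5 _ h3)) }
    have h2 := Nat.card_congr e
    rw [Nat.card_prod] at h2
    exact h2
  rw [← hA1, hA2]

/-- as a divisibility: `2 |H|` divides `|Val| |C(x)|` -/
theorem dvd {A : Type*} [CommGroup A] [Finite G] (hG : commutator G = ⊤) {x : G}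
    (hx : x * x = 1) (H : Subgroup G) (φ : H →* A) {a : A} (ha1 : a ≠ 1) (ha : a * a = 1)
    (hv : ∀ (d : G) (h : d ∈ H), IsConj x d → φ ⟨d, h⟩ = 1 ∨ φ ⟨d, h⟩ = a) :
    2 * Nat.card H ∣ (Val x H φ a).ncard * Nat.card (centralizer ({x} : Set G)) := by
  obtain ⟨m, ⟨k, hk⟩, h⟩ := exists_even hG hx H φ ha1 ha hv
  exact ⟨k, by rw [← h, hk]; ring⟩

end Cfsg.Agent.OddHalf.D6.SixU.TFab
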