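import Cfsg.Agent.OddHalf.D6.SixU.Model

/-!
# ODD D6, `q = 9`, case C3a (B): the constraints for the table of `D` on `T₁` (helper680)
-/

set_option autoImplicit false

namespace Cfsg.Agent.OddHalf.D6.SixU

open Subgroup Equiv

/-- the codes commute -/
def com (c d r s : ZMod 2) (u v : Code) : Prop := kf c d r u v = kf c d r v u ∧ kz d s u v = kz d s v u

instance (c d r s : ZMod 2) (u v : Code) : Decidable (com c d r s u v) := by unfold com; infer_instance

/-- a linear functional -/
def dot (l v : Code) : ZMod 2 :=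
  l.1 * v.1 + l.2.1 * v.2.1 + l.2.2.1 * v.2.2.1 + l.2.2.2.1 * v.2.2.2.1 + l.2.2.2.2 * v.2.2.2.2

theorem dot_add (l u v : Code) : dot l (u + v) = dot l u + dot l v := by
  simp only [dot, Prod.fst_add, Prod.snd_add]; ring

/-- the constraints -/
structure Tab (c d r s : ZMod 2) (b : Code → Bool) : Prop where
  hx : b (1, 0, 0, 0, 0) = true
  hxa : b (1, 0, 0, 1, 0) = true
  hxe : b (1, 0, 0, 0, 1) = true
  ha : b (0, 0, 0, 1, 0) = false
  he : b (0, 0, 0, 0, 1) = false
  h0 : b 0 = false
  sqf : ∀ v, kf c d r v v ≠ 0 → b v = false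
  sqz : ∀ v, kz d s v v ≠ 0 → b v = false
  ext : ∀ v, 8 < Fintype.card {u // com c d r s v u} → b v = false
  clean : ∀ u v, com c d r s u v → kf c d r v v = 0 → kz d s v v = 0 → v ≠ 0 → v ≠ u → b u = true →
    b v = !b (u + v)
  par : ∀ l : Code, Even (Finset.univ.filter (fun v => b v = true ∧ dot l v = 1)).card

/-- the xor over a list -/
def xs (b : Code → Bool) (l : Code) : List Code → Bool
  | [] => false
  | v :: L => if dot l v = 1 then xor (b v) (xs b l L) else xs b l L

theorem xs_eq (b : Code → Bool) (l : Code) (L : List Code) :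
    xs b l L = decide (Odd (L.filter (fun v => decide (b v = true ∧ dot l v = 1))).length) := by
  induction L with
  | nil => rfl
  | cons v L ih =>
    rw [xs, List.filter_cons, ih]
    by_cases h : dot l v = 1
    · rw [if_pos h]
      cases hb : b v
      · rw [if_neg (by simp), Bool.false_xor]
      · rw [if_pos (by simp [h]), List.length_cons, Bool.true_xor]
        simp only [Nat.odd_add_one, decide_not]
    · rw [if_neg h, if_neg (by simp [h])]

theorem Tab.xor_list {c d r s : ZMod 2} {b : Code → Bool} (h : Tab c d r s b) (l : Code) (L : List Code)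
    (hn : L.Nodup) (hL : ∀ v, b v = true → v ∈ L) : xs b l L = false := by
  rw [xs_eq, decide_eq_false_iff_not, Nat.not_odd_iff_even]
  have h1 := h.par l
  have h2 : Finset.univ.filter (fun v => b v = true ∧ dot l v = 1) =
      (L.filter (fun v => decide (b v = true ∧ dot l v = 1))).toFinset := by
    ext v
    simp only [Finset.mem_filter, Finset.mem_univ, true_and, List.mem_toFinset, List.mem_filter,
      decide_eq_true_eq]
    exact ⟨fun h => ⟨hL v h.1, h⟩, fun h => h.2⟩
  rw [h2, List.toFinset_card_of_nodup (hn.filter _)] at h1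
  exact h1

variable {G : Type*} [Group G]

namespace SixY

variable {x : G} {φ : P6 →* G} {y Y : G} {c d r s : ZMod 2}

theorem isPGroup_Md : IsPGroup 2 (Md c d r s) := IsPGroup.of_card (n := 7) (by rw [Md.card]; norm_num)

theorem z2_add_self (i : ZMod 2) : i + i = 0 := by revert i; decide

/-- an element of `D ∩ T₁` has at most `32` commuting elements in `T₁` -/
theorem card_com [Finite G] (H : SixY x φ y Y c d r s) {v : Code} {f z : ZMod 2}
    (h : IsConj x (elt x φ y Y v f z)) : Fintype.card {u // com c d r s v u} ≤ 8 := by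
  let m0 : Md c d r s := ⟨v, f, z⟩
  let P : Subgroup (Md c d r s) := centralizer {m0}
  have hP : IsPGroup 2 (P.map H.psi) := (isPGroup_Md.to_subgroup P).map _
  have h1 : ∀ p ∈ P.map H.psi, p * elt x φ y Y v f z = elt x φ y Y v f z * p := by
    rintro _ ⟨m, hm, rfl⟩
    have h2 : m * m0 = m0 * m := mem_centralizer_singleton_iff.1 hm
    have h3 := congrArg H.psi h2
    rw [map_mul, map_mul] at h3
    exact h3
  have h2 := H.card_le hP h h1
  rw [← Nat.card_congr (P.equivMapOfInjective _ H.psi_inj).toEquiv] at h2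
  have e : P ≃ {u // com c d r s v u} × ZMod 2 × ZMod 2 :=
    { toFun := fun m => ⟨⟨m.1.v, by
        have h3 : m.1 * m0 = m0 * m.1 := mem_centralizer_singleton_iff.1 m.2
        have h4 := congrArg Md.f h3
        have h5 := congrArg Md.z h3
        rw [Md.mul_f, Md.mul_f, add_comm m0.f] at h4
        rw [Md.mul_z, Md.mul_z, add_comm m0.z] at h5
        exact ⟨(add_left_cancel h4).symm, (add_left_cancel h5).symm⟩⟩, m.1.f, m.1.z⟩
      invFun := fun p => ⟨⟨p.1.1, p.2.1, p.2.2⟩, by
        rw [mem_centralizer_singleton_iff]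
        ext1
        · exact add_comm _ _
        · rw [Md.mul_f, Md.mul_f, add_comm m0.f]
          congr 1
          exact p.1.2.1.symm
        · rw [Md.mul_z, Md.mul_z, add_comm m0.z]
          congr 1
          exact p.1.2.2.symm⟩
      left_inv := fun m => rfl
      right_inv := fun p => rfl }
  rw [Nat.card_congr e, Nat.card_prod, Nat.card_prod, Nat.card_eq_fintype_card, Nat.card_zmod] at h2
  omega

theorem onto_aux : ∀ c d r s : ZMod 2, ∀ v : Code, Fintype.card {u // com c d r s v u} ≤ 8 → ∀ f z : ZMod 2,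
    ∃ u : Code, kf c d r u v + kf c d r v u = f ∧ kz d s u v + kz d s v u = z := by
  decide +kernel

/-- `D ∩ T₁` is a union of cosets of `Z` -/
theorem full [Finite G] (H : SixY x φ y Y c d r s) {v : Code} {f z : ZMod 2}
    (h : IsConj x (elt x φ y Y v f z)) (f' z' : ZMod 2) : IsConj x (elt x φ y Y v f' z') := by
  obtain ⟨u, h1, h2⟩ := onto_aux c d r s v (H.card_com h) (f + f') (z + z')
  refine h.trans (isConj_iff.2 ⟨elt x φ y Y u 0 0, ?_⟩)
  rw [mul_inv_eq_iff_eq_mul, H.elt_mul, H.elt_mul, add_comm u v]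
  have key : ∀ a b f f' : ZMod 2, a + b = f + f' → 0 + f + a = f' + 0 + b := by decide
  rw [key _ _ _ _ h1, key _ _ _ _ h2]

theorem full_iff [Finite G] (H : SixY x φ y Y c d r s) (v : Code) (f z f' z' : ZMod 2) :
    IsConj x (elt x φ y Y v f z) ↔ IsConj x (elt x φ y Y v f' z') := ⟨fun h => H.full h _ _, fun h => H.full h _ _⟩

theorem elt_eq_iff (H : SixY x φ y Y c d r s) (v : Code) (f z : ZMod 2) (v' : Code) (f' z' : ZMod 2) :
    elt x φ y Y v f z = elt x φ y Y v' f' z' ↔ v = v' ∧ f = f' ∧ z = z' := by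
  constructor
  · intro h
    have h1 : (⟨v, f, z⟩ : Md c d r s) = ⟨v', f', z'⟩ := H.psi_inj h
    exact ⟨congrArg Md.v h1, congrArg Md.f h1, congrArg Md.z h1⟩
  · rintro ⟨rfl, rfl, rfl⟩
    rfl

theorem elt_zero (_ : SixY x φ y Y c d r s) : elt x φ y Y 0 0 0 = 1 := by
  simp [elt, pu_zero]

theorem elt_sq (H : SixY x φ y Y c d r s) (v : Code) (f z : ZMod 2) :
    elt x φ y Y v f z * elt x φ y Y v f z = elt x φ y Y 0 (kf c d r v v) (kz d s v v) := by
  rw [H.elt_mul, Md.code_add_self, z2_add_self, z2_add_self, zero_add, zero_add]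

theorem sq_of_isConj (H : SixY x φ y Y c d r s) {v : Code} {f z : ZMod 2}
    (h : IsConj x (elt x φ y Y v f z)) : kf c d r v v = 0 ∧ kz d s v v = 0 := by
  have h1 : elt x φ y Y v f z * elt x φ y Y v f z = 1 := by
    obtain ⟨g, hg⟩ := isConj_iff.1 h
    rw [← hg]
    calc g * x * g⁻¹ * (g * x * g⁻¹) = g * (x * x) * g⁻¹ := by group
      _ = 1 := by rw [H.xx]; group
  rw [H.elt_sq, ← H.elt_zero, H.elt_eq_iff] at h1
  exact h1.2

/-- the sign attached to a linear functional -/
def lam (c d r s : ZMod 2) (l : Code) : Md c d r s →* ℤˣ where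
  toFun m := if dot l m.v = 0 then 1 else -1
  map_one' := by
    have : dot l (1 : Md c d r s).v = 0 := by rw [Md.one_v]; simp [dot]
    rw [if_pos this]
  map_mul' m n := by
    rw [Md.mul_v, dot_add]
    rcases zmod2 (dot l m.v) with h1 | h1 <;> rcases zmod2 (dot l n.v) with h2 | h2 <;> rw [h1, h2] <;> decide

theorem lam_eq (l : Code) (m : Md c d r s) : lam c d r s l m = -1 ↔ dot l m.v = 1 := by
  show (if dot l m.v = 0 then (1 : ℤˣ) else -1) = -1 ↔ _
  rcases zmod2 (dot l m.v) with h1 | h1
  · rw [h1]; decide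
  · rw [h1]; decide

open Classical in
/-- the table -/
noncomputable def bt (x : G) (φ : P6 →* G) (y Y : G) (v : Code) : Bool := decide (IsConj x (elt x φ y Y v 0 0))

theorem bt_iff (v : Code) : bt x φ y Y v = true ↔ IsConj x (elt x φ y Y v 0 0)  :=
  @decide_eq_true_iff _ (Classical.propDecidable _)

theorem bt_false (v : Code) : bt x φ y Y v = false ↔ ¬ IsConj x (elt x φ y Y v 0 0)  :=
  @decide_eq_false_iff_not _ (Classical.propDecidable _)

theorem even_card [Finite G] (hG : ∀ H : Subgroup G, H.index ≠ 2) (H : SixY x φ y Y c d r s) (l : Code) :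
    Even (Finset.univ.filter (fun v => bt x φ y Y v = true ∧ dot l v = 1)).card := by
  have h1 := tf_hom hG H.xx H.psi H.psi_inj (lam c d r s l)
  rw [Md.card, H.card_C] at h1
  have e : {m : Md c d r s // IsConj x (H.psi m) ∧ lam c d r s l m = -1} ≃
      {v : Code // v ∈ Finset.univ.filter (fun v => bt x φ y Y v = true ∧ dot l v = 1)} × ZMod 2 × ZMod 2 :=
    { toFun := fun m => ⟨⟨m.1.v, by
        rw [Finset.mem_filter]
        refine ⟨Finset.mem_univ _, ?_, (lam_eq l m.1).1 m.2.2⟩
        rw [bt_iff]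
        exact H.full m.2.1 _ _⟩, m.1.f, m.1.z⟩
      invFun := fun p => ⟨⟨p.1.1, p.2.1, p.2.2⟩, by
        have h2 := Finset.mem_filter.1 p.1.2
        exact ⟨H.full ((bt_iff _).1 h2.2.1) _ _, (lam_eq l _).2 h2.2.2⟩⟩
      left_inv := fun m => rfl
      right_inv := fun p => rfl }
  rw [Nat.card_congr e, Nat.card_prod, Nat.card_prod, Nat.card_zmod, Nat.card_eq_fintype_card,
    Fintype.card_coe] at h1
  obtain ⟨k, hk⟩ := h1
  rw [Nat.even_iff]
  omega

/-- THE CONSTRAINTS HOLD -/
theorem tab [Finite G] (hG : ∀ H : Subgroup G, H.index ≠ 2) (H : SixY x φ y Y c d r s) :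
    Tab c d r s (bt x φ y Y) where
  hx := by
    rw [bt_iff]
    have : elt x φ y Y (1, 0, 0, 0, 0) 0 0 = x := by simp [elt, pu_zero]
    rw [this]
  hxa := by
    rw [bt_iff]
    have : elt x φ y Y (1, 0, 0, 1, 0) 0 0 = x * φ (pu 1 0 0 0) := by simp [elt]
    rw [this]
    exact H.isConj_x_mul (by decide +kernel)
  hxe := by
    rw [bt_iff]
    have : elt x φ y Y (1, 0, 0, 0, 1) 0 0 = x * φ (pu 0 1 0 0) := by simp [elt]
    rw [this]
    exact H.isConj_x_mul (by decide +kernel)
  ha := by
    rw [bt_false]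
    have : elt x φ y Y (0, 0, 0, 1, 0) 0 0 = φ (pu 1 0 0 0) := by simp [elt]
    rw [this]
    exact H.not_isConj_phi _
  he := by
    rw [bt_false]
    have : elt x φ y Y (0, 0, 0, 0, 1) 0 0 = φ (pu 0 1 0 0) := by simp [elt]
    rw [this]
    exact H.not_isConj_phi _
  h0 := by
    rw [bt_false, H.elt_zero]
    exact H.not_isConj_one
  sqf v hv := by
    rw [bt_false]
    exact fun h => hv (H.sq_of_isConj h).1
  sqz v hv := by
    rw [bt_false]
    exact fun h => hv (H.sq_of_isConj h).2
  ext v hv := by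
    rw [bt_false]
    intro h
    have := H.card_com h
    omega
  clean u v h1 h2 h3 h4 h5 h6 := by
    have h7 := H.clean (d := elt x φ y Y u 0 0) (v := elt x φ y Y v 0 0) ((bt_iff _).1 h6)
      (by rw [H.elt_sq, h2, h3, H.elt_zero])
      (by
        intro h
        rw [← H.elt_zero, H.elt_eq_iff] at h
        exact h4 h.1)
      (by
        intro h
        rw [H.elt_eq_iff] at h
        exact h5 h.1)
      (by
        rw [H.elt_mul, H.elt_mul, add_comm v u, h1.1, h1.2])
    rw [H.elt_mul, H.full_iff (u + v) _ _ 0 0] at h7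
    cases h8 : bt x φ y Y (u + v)
    · rw [bt_false] at h8
      rw [Bool.not_false, bt_iff]
      exact h7.2 h8
    · rw [bt_iff] at h8
      rw [Bool.not_true, bt_false]
      exact fun h => h7.1 h h8
  par := H.even_card hG

end SixY

end Cfsg.Agent.OddHalf.D6.SixU
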