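import Cfsg.Agent.OddHalf.D6.SixU.Frame

/-!
# ODD D6, `q = 9`, case C3a (B): the Sylow subgroup `T` of `C_G(x)` (helper680)
-/

set_option autoImplicit false

namespace Cfsg.Agent.OddHalf.D6.SixU

open Subgroup Equiv

variable {G : Type*} [Group G]

/-- `U = ⟨pa, pe, pf⟩`, of order 16, is the centralizer of `pf` and `pz` -/
def InU (u : P6) : Prop := u * pf = pf * u ∧ u * pz = pz * u

instance : DecidablePred InU := fun u => by unfold InU; infer_instance

theorem InU.mul {u v : P6} (hu : InU u) (hv : InU v) : InU (u * v) :=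
  ⟨by rw [mul_assoc, hv.1, ← mul_assoc, hu.1, mul_assoc], by rw [mul_assoc, hv.2, ← mul_assoc, hu.2, mul_assoc]⟩

theorem InU.inv {u : P6} (hu : InU u) : InU u⁻¹ :=
  ⟨by rw [inv_mul_eq_iff_eq_mul, ← mul_assoc, hu.1, mul_assoc, mul_inv_cancel, mul_one],
    by rw [inv_mul_eq_iff_eq_mul, ← mul_assoc, hu.2, mul_assoc, mul_inv_cancel, mul_one]⟩

theorem inU_one : InU 1 := ⟨by simp, by simp⟩

theorem card_inU : Fintype.card {u : P6 // InU u} = 16 := by decide +kernel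

/-- the Sylow 2-subgroup `T = ⟨x⟩ × φ(U)` of `C_G(x)` -/
def Tee (x : G) (φ : P6 →* G) : Subgroup G := centralizer ({x, φ pf, φ pz} : Set G)

theorem mem_Tee {x : G} {φ : P6 →* G} {g : G} :
    g ∈ Tee x φ ↔ g * x = x * g ∧ g * φ pf = φ pf * g ∧ g * φ pz = φ pz * g := by
  rw [Tee, mem_centralizer_iff]
  simp only [Set.mem_insert_iff, Set.mem_singleton_iff, forall_eq_or_imp, forall_eq]
  exact ⟨fun h => ⟨h.1.symm, h.2.1.symm, h.2.2.symm⟩, fun h => ⟨h.1.symm, h.2.1.symm, h.2.2.symm⟩⟩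

namespace SixB

variable {x : G} {φ : P6 →* G}

theorem mem_Tee_iff (H : SixB x φ) {g : G} : g ∈ Tee x φ ↔ ∃ u, InU u ∧ (g = φ u ∨ g = x * φ u) := by
  rw [mem_Tee]
  constructor
  · rintro ⟨h1, h2, h3⟩
    obtain ⟨u, hu | hu⟩ := H.cases h1
    · refine ⟨u, ⟨H.inj ?_, H.inj ?_⟩, Or.inl hu⟩
      · rw [map_mul, map_mul, ← hu, h2]
      · rw [map_mul, map_mul, ← hu, h3]
    · refine ⟨u, ⟨H.inj ?_, H.inj ?_⟩, Or.inr hu⟩
      · rw [hu] at h2
        rw [map_mul, map_mul]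
        apply mul_left_cancel (a := x)
        rw [← mul_assoc, h2, ← mul_assoc, ← mul_assoc, H.comm]
      · rw [hu] at h3
        rw [map_mul, map_mul]
        apply mul_left_cancel (a := x)
        rw [← mul_assoc, h3, ← mul_assoc, ← mul_assoc, H.comm]
  · rintro ⟨u, ⟨h1, h2⟩, rfl | rfl⟩
    · exact ⟨H.comm' u, by rw [← map_mul, h1, map_mul], by rw [← map_mul, h2, map_mul]⟩
    · refine ⟨by rw [mul_assoc, H.comm' u], ?_, ?_⟩
      · rw [mul_assoc, ← map_mul, h1, map_mul, ← mul_assoc, ← mul_assoc, H.comm]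
      · rw [mul_assoc, ← map_mul, h2, map_mul, ← mul_assoc, ← mul_assoc, H.comm]

theorem phi_mem_Tee (H : SixB x φ) {u : P6} (hu : InU u) : φ u ∈ Tee x φ :=
  H.mem_Tee_iff.2 ⟨u, hu, Or.inl rfl⟩

theorem x_mem_Tee (H : SixB x φ) : x ∈ Tee x φ :=
  H.mem_Tee_iff.2 ⟨1, inU_one, Or.inr (by rw [map_one, mul_one])⟩

theorem Tee_le (_ : SixB x φ) : Tee x φ ≤ centralizer ({x} : Set G) := by
  intro g hg
  exact mem_centralizer_singleton_iff.2 (mem_Tee.1 hg).1

theorem card_Tee (H : SixB x φ) : Nat.card (Tee x φ) = 32 := by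
  have e : Bool × {u : P6 // InU u} ≃ Tee x φ :=
    Equiv.ofBijective (fun p => ⟨(if p.1 then x else 1) * φ p.2.1, by
      rw [H.mem_Tee_iff]
      refine ⟨p.2.1, p.2.2, ?_⟩
      split_ifs
      · exact Or.inr rfl
      · exact Or.inl (one_mul _)⟩)
    ⟨by
      rintro ⟨b, u, hu⟩ ⟨b', u', hu'⟩ h
      have h' : (if b then x else 1) * φ u = (if b' then x else 1) * φ u' := congrArg Subtype.val h
      rcases b <;> rcases b'
      · simp only [Bool.false_eq_true, if_false, one_mul] at h'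
        have := H.inj h'
        subst this
        rfl
      · simp only [Bool.false_eq_true, if_false, one_mul, if_true] at h'
        exact absurd h' (H.xne _ _)
      · simp only [Bool.false_eq_true, if_false, one_mul, if_true] at h'
        exact absurd h'.symm (H.xne _ _)
      · simp only [if_true] at h'
        have := H.inj (mul_left_cancel h')
        subst this
        rfl, by
      rintro ⟨g, hg⟩
      rcases H.mem_Tee_iff.1 hg with ⟨u, hu, h | h⟩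
      · exact ⟨(false, ⟨u, hu⟩), Subtype.ext (by simp [h])⟩
      · exact ⟨(true, ⟨u, hu⟩), Subtype.ext (by simp [h])⟩⟩
  rw [← Nat.card_congr e, Nat.card_prod, Nat.card_eq_fintype_card, Nat.card_eq_fintype_card,
    Fintype.card_bool, card_inU]

/-- every 2-subgroup of `C_G(x)` is conjugate in `C_G(x)` to a subgroup of `T` -/
theorem exists_conj_x [Finite G] (H : SixB x φ) {P : Subgroup G} (hP : IsPGroup 2 P)
    (hPx : ∀ p ∈ P, p * x = x * p) : ∃ g : G, g * x * g⁻¹ = x ∧ ∀ p ∈ P, g⁻¹ * p * g ∈ Tee x φ := by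
  set C := centralizer ({x} : Set G) with hC
  have hPC : P ≤ C := fun p hp => mem_centralizer_singleton_iff.2 (hPx p hp)
  have : Fact (Nat.Prime 2) := ⟨Nat.prime_two⟩
  have hT : Nat.card ((Tee x φ).subgroupOf C) = 2 ^ (Nat.card C).factorization 2 := by
    rw [Nat.card_congr (subgroupOfEquivOfLe H.Tee_le).toEquiv, H.card_Tee, H.card_C]
    have : Nat.factorization 1440 2 = 5 := by
      rw [show (1440 : ℕ) = 2 ^ 5 * 45 by norm_num,
        Nat.factorization_mul (by norm_num) (by norm_num), Nat.Prime.factorization_pow Nat.prime_two,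
        Finsupp.add_apply, Finsupp.single_eq_same, Nat.factorization_eq_zero_of_not_dvd (by norm_num)]
    rw [this]; norm_num
  let S : Sylow 2 C := Sylow.ofCard _ hT
  have hP' : IsPGroup 2 (P.subgroupOf C) := hP.of_equiv (subgroupOfEquivOfLe hPC).symm
  obtain ⟨Q, hQ⟩ := hP'.exists_le_sylow
  obtain ⟨c, hc⟩ := MulAction.exists_smul_eq C S Q
  refine ⟨c, by rw [mem_centralizer_singleton_iff.1 c.2, mul_inv_cancel_right], ?_⟩
  intro p hp
  have h1 : (⟨p, hPC hp⟩ : C) ∈ (Q : Subgroup C) := hQ (mem_subgroupOf.2 hp)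
  rw [← hc, Sylow.coe_subgroup_smul, Subgroup.mem_pointwise_smul_iff_inv_smul_mem] at h1
  have h2 : (c⁻¹ * ⟨p, hPC hp⟩ * c : C) ∈ (Tee x φ).subgroupOf C := by
    have h3 : ((MulAut.conj c)⁻¹ • (⟨p, hPC hp⟩ : C)) = c⁻¹ * ⟨p, hPC hp⟩ * c := by
      rw [← map_inv, MulAut.smul_def, MulAut.conj_apply, inv_inv]
    rw [← h3]
    exact h1
  exact mem_subgroupOf.1 h2

/-- SYLOW: a 2-subgroup centralizing `d ∈ x^G` lies in a conjugate of `T` by an element moving `x` to `d` -/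
theorem exists_conj_T [Finite G] (H : SixB x φ) {P : Subgroup G} (hP : IsPGroup 2 P) {d : G} (hd : IsConj x d)
    (hPd : ∀ p ∈ P, p * d = d * p) : ∃ g : G, g * x * g⁻¹ = d ∧ ∀ p ∈ P, g⁻¹ * p * g ∈ Tee x φ := by
  obtain ⟨g, rfl⟩ := isConj_iff.1 hd
  let P' : Subgroup G := P.map (MulAut.conj g⁻¹).toMonoidHom
  have hP' : IsPGroup 2 P' := hP.map _
  obtain ⟨c, h1, h2⟩ := H.exists_conj_x hP' (by
    rintro _ ⟨p, hp, rfl⟩
    have h := hPd p hp
    show g⁻¹ * p * g⁻¹⁻¹ * x = x * (g⁻¹ * p * g⁻¹⁻¹)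
    rw [inv_inv]
    calc g⁻¹ * p * g * x = g⁻¹ * (p * (g * x * g⁻¹)) * g := by group
      _ = g⁻¹ * (g * x * g⁻¹ * p) * g := by rw [h]
      _ = x * (g⁻¹ * p * g) := by group)
  refine ⟨g * c, ?_, ?_⟩
  · calc g * c * x * (g * c)⁻¹ = g * (c * x * c⁻¹) * g⁻¹ := by group
      _ = g * x * g⁻¹ := by rw [h1]
  · intro p hp
    have h3 := h2 (g⁻¹ * p * g) ⟨p, hp, by
      show g⁻¹ * p * g⁻¹⁻¹ = _
      rw [inv_inv]⟩
    have h4 : (g * c)⁻¹ * p * (g * c) = c⁻¹ * (g⁻¹ * p * g) * c := by group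
    rw [h4]
    exact h3

theorem card_le [Finite G] (H : SixB x φ) {P : Subgroup G} (hP : IsPGroup 2 P) {d : G} (hd : IsConj x d)
    (hPd : ∀ p ∈ P, p * d = d * p) : Nat.card P ≤ 32 := by
  obtain ⟨g, -, h⟩ := H.exists_conj_T hP hd hPd
  rw [← H.card_Tee]
  refine Nat.card_le_card_of_injective (fun p : P => (⟨g⁻¹ * p * g, h p p.2⟩ : Tee x φ)) ?_
  intro p q hpq
  have h1 : g⁻¹ * (p : G) * g = g⁻¹ * q * g := congrArg Subtype.val hpq
  exact Subtype.ext (mul_left_cancel (mul_right_cancel h1))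

/-- if `|P| = 32`, then `P = g T g⁻¹` -/
theorem conj_T_of_card [Finite G] (H : SixB x φ) {P : Subgroup G} (hP : Nat.card P = 32) {d : G}
    (hd : IsConj x d) (hPd : ∀ p ∈ P, p * d = d * p) :
    ∃ g : G, g * x * g⁻¹ = d ∧ ∀ p, p ∈ P ↔ g⁻¹ * p * g ∈ Tee x φ := by
  obtain ⟨g, h0, h⟩ := H.exists_conj_T (IsPGroup.of_card (n := 5) (by rw [hP]; norm_num)) hd hPd
  refine ⟨g, h0, ?_⟩
  have h1 : P.map (MulAut.conj g⁻¹).toMonoidHom = Tee x φ := by
    apply Subgroup.eq_of_le_of_card_ge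
    · rintro _ ⟨p, hp, rfl⟩
      show g⁻¹ * p * g⁻¹⁻¹ ∈ _
      rw [inv_inv]
      exact h p hp
    · rw [H.card_Tee, ← hP]
      exact (Nat.card_congr (P.equivMapOfInjective _ (MulAut.conj g⁻¹).injective).toEquiv).le
  intro p
  refine ⟨h p, fun hp => ?_⟩
  rw [← h1] at hp
  obtain ⟨q, hq, hqp⟩ := hp
  have h2 : g⁻¹ * q * g⁻¹⁻¹ = g⁻¹ * p * g := hqp
  rw [inv_inv] at h2
  rw [← mul_left_cancel (mul_right_cancel h2)]
  exact hq

end SixB

end Cfsg.Agent.OddHalf.D6.SixU
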