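import Cfsg.Agent.OddHalf.D6.SixU.YDefs

/-!
# ODD D6, `q = 9`, case C3a (B): existence of `y` and `Y` (helper680)
-/

set_option autoImplicit false

namespace Cfsg.Agent.OddHalf.D6.SixU

open Subgroup Equiv

/-- `A₂ = ⟨pf, pz, pe⟩` is self-centralizing -/
def InA (u : P6) : Prop := u * pf = pf * u ∧ u * pz = pz * u ∧ u * pe = pe * u

instance : DecidablePred InA := fun u => by unfold InA; infer_instance

theorem inA_pu : ∀ e f z : ZMod 2, InA (pu 0 e f z) := by decide +kernel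

theorem exists_inA : ∀ u : P6, InA u → ∃ e f z : ZMod 2, u = pu 0 e f z := by decide +kernel

theorem three_aux : ∀ t : P6, t * t * t = 1 → t ≠ 1 → InA (t * pf * t⁻¹) → InA (t * pz * t⁻¹) →
    InA (t * pe * t⁻¹) → ∃ p : P6, (InA (p * pf * p⁻¹) ∧ InA (p * pz * p⁻¹) ∧ InA (p * pe * p⁻¹)) ∧
      (InA (p⁻¹ * pf * p) ∧ InA (p⁻¹ * pz * p) ∧ InA (p⁻¹ * pe * p)) ∧ p * t * p⁻¹ = pr := by
  decide +kernel

variable {G : Type*} [Group G]

/-- `g` normalizes `φ(A₂)` -/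
def NA (φ : P6 →* G) (g : G) : Prop := ∀ u, InA u → ∃ u', InA u' ∧ g * φ u * g⁻¹ = φ u'

theorem NA.mul {φ : P6 →* G} {g k : G} (hg : NA φ g) (hk : NA φ k) : NA φ (g * k) := by
  intro u hu
  obtain ⟨v, hv, h1⟩ := hk u hu
  obtain ⟨w, hw, h2⟩ := hg v hv
  refine ⟨w, hw, ?_⟩
  calc g * k * φ u * (g * k)⁻¹ = g * (k * φ u * k⁻¹) * g⁻¹ := by group
    _ = φ w := by rw [h1, h2]

theorem InA.mul {u v : P6} (hu : InA u) (hv : InA v) : InA (u * v) :=
  ⟨by rw [mul_assoc, hv.1, ← mul_assoc, hu.1, mul_assoc],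
    by rw [mul_assoc, hv.2.1, ← mul_assoc, hu.2.1, mul_assoc],
    by rw [mul_assoc, hv.2.2, ← mul_assoc, hu.2.2, mul_assoc]⟩

theorem na_of_gens {φ : P6 →* G} {g : G} (h1 : ∃ u', InA u' ∧ g * φ pf * g⁻¹ = φ u')
    (h2 : ∃ u', InA u' ∧ g * φ pz * g⁻¹ = φ u') (h3 : ∃ u', InA u' ∧ g * φ pe * g⁻¹ = φ u') : NA φ g := by
  have key : ∀ k, (∃ u', InA u' ∧ g * φ k * g⁻¹ = φ u') → ∀ i : ZMod 2,
      ∃ u', InA u' ∧ g * φ (pw k i) * g⁻¹ = φ u' := by
    intro k hk i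
    rcases zmod2 i with rfl | rfl
    · exact ⟨1, ⟨by simp, by simp, by simp⟩, by rw [pw_zero, map_one]; group⟩
    · exact hk
  intro u hu
  obtain ⟨e, f, z, rfl⟩ := exists_inA u hu
  obtain ⟨u2, j2, k2⟩ := key pe h3 e
  obtain ⟨u3, j3, k3⟩ := key pf h1 f
  obtain ⟨u4, j4, k4⟩ := key pz h2 z
  refine ⟨u2 * u3 * u4, (j2.mul j3).mul j4, ?_⟩
  rw [pu, pw_zero, one_mul, map_mul, map_mul, map_mul, map_mul, ← k2, ← k3, ← k4]
  group

theorem gens_aux : InA pf ∧ InA pz ∧ InA pe := by decide +kernel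

theorem na_phi {φ : P6 →* G} {p : P6} (h : InA (p * pf * p⁻¹) ∧ InA (p * pz * p⁻¹) ∧ InA (p * pe * p⁻¹)) :
    NA φ (φ p) := by
  refine na_of_gens ⟨_, h.1, ?_⟩ ⟨_, h.2.1, ?_⟩ ⟨_, h.2.2, ?_⟩ <;> simp only [map_mul, map_inv]

namespace SixB

variable {x : G} {φ : P6 →* G}

theorem cube_aux (H : SixB x φ) (t : P6) : x * φ t * (x * φ t) * (x * φ t) = x * φ (t * t * t) := by
  rw [H.mul_self_eq, ← mul_assoc, H.comm' (t * t), mul_assoc, ← map_mul]

theorem fix_aux : ∀ e f z : ZMod 2, pu 0 e f z * pr = pr * pu 0 e f z → pu 0 e f z = 1 ∨ pu 0 e f z = pf := by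
  decide +kernel

theorem z_aux : ∀ e f z : ZMod 2, pu 0 e f z ≠ 1 →
    pu 0 e f z * (pr * pu 0 e f z * pr⁻¹) * (pr * pr * pu 0 e f z * pr⁻¹ * pr⁻¹) = 1 →
    pu 0 e f z = pz ∨ pu 0 e f z = pr * pz * pr⁻¹ ∨ pu 0 e f z = pr⁻¹ * pz * pr := by
  decide +kernel

theorem z_rel : pz * (pr * pz * pr⁻¹) * (pr * pr * pz * pr⁻¹ * pr⁻¹) = 1 := by decide +kernel

theorem pr_rel : pr⁻¹ * pz * pr = pe := by decide +kernel

theorem pr_pf : pr * pf = pf * pr := by decide +kernel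

theorem pr_ne : pr ≠ 1 := by decide +kernel

theorem pr_cube : pr * pr * pr = 1 := by decide +kernel

/-- existence of `y₁` with `y₁ x y₁⁻¹ = x φ(pf)`, centralizing `A₂` and `pr` -/
theorem exists_y1 (H : SixB x φ) {n : G} (hx : n * x * n⁻¹ = x * φ pf) (h1 : NA φ n) (h2 : NA φ n⁻¹) :
    ∃ y : G, y * x * y⁻¹ = x * φ pf ∧ y * φ pf = φ pf * y ∧ y * φ pz = φ pz * y ∧ y * φ pe = φ pe * y ∧
      y * φ pr = φ pr * y := by
  -- `n⁻¹ ρ n`
  have hc : (n⁻¹ * φ pr * n) * x = x * (n⁻¹ * φ pr * n) := by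
    have e1 : φ pr * (n * x * n⁻¹) = (n * x * n⁻¹) * φ pr := by
      rw [hx, ← mul_assoc, H.comm', mul_assoc, mul_assoc, ← map_mul, ← map_mul, pr_pf]
    calc (n⁻¹ * φ pr * n) * x = n⁻¹ * (φ pr * (n * x * n⁻¹)) * n := by group
      _ = x * (n⁻¹ * φ pr * n) := by rw [e1]; group
  have hcube : (n⁻¹ * φ pr * n) * (n⁻¹ * φ pr * n) * (n⁻¹ * φ pr * n) = 1 := by
    calc (n⁻¹ * φ pr * n) * (n⁻¹ * φ pr * n) * (n⁻¹ * φ pr * n) = n⁻¹ * (φ pr * φ pr * φ pr) * n := by group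
      _ = 1 := by rw [← map_mul, ← map_mul, pr_cube, map_one]; group
  obtain ⟨t, ht | ht⟩ := H.cases hc
  swap
  · exfalso
    rw [ht, H.cube_aux] at hcube
    apply H.xne 1 (t * t * t)
    rw [hcube, map_one]
  have ht3 : t * t * t = 1 := H.phi_eq_one (by rw [map_mul, map_mul, ← ht, hcube])
  have ht1 : t ≠ 1 := by
    rintro rfl
    rw [map_one, mul_assoc, inv_mul_eq_one] at ht
    exact pr_ne (H.phi_eq_one (mul_eq_right.1 ht.symm))
  have hNt : NA φ (φ t) := by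
    have e1 : NA φ (φ pr) := na_phi (by decide +kernel)
    rw [← ht]
    exact (h2.mul e1).mul h1
  have hA : ∀ u, InA u → InA (t * u * t⁻¹) := by
    intro u hu
    obtain ⟨v, hv, h3⟩ := hNt u hu
    rw [← map_mul, ← map_inv, ← map_mul] at h3
    rw [H.inj h3]
    exact hv
  obtain ⟨p, hp1, hp2, hp⟩ := three_aux t ht3 ht1 (hA _ gens_aux.1) (hA _ gens_aux.2.1) (hA _ gens_aux.2.2)
  -- `n' = n φ(p)⁻¹`
  set m := n * φ p⁻¹ with hm
  have hmA : NA φ m := h1.mul (na_phi (by rw [inv_inv]; exact hp2))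
  have hmr : m * φ pr = φ pr * m := by
    have e1 : φ pr = n * φ t * n⁻¹ := by rw [← ht]; group
    have e2 : p⁻¹ * pr = t * p⁻¹ := by rw [← hp]; group
    calc m * φ pr = n * (φ p⁻¹ * φ pr) := by rw [hm, mul_assoc]
      _ = n * (φ t * φ p⁻¹) := by rw [← map_mul, e2, map_mul]
      _ = (n * φ t * n⁻¹) * (n * φ p⁻¹) := by group
      _ = φ pr * m := by rw [← e1]
  have hmx : m * x * m⁻¹ = x * φ pf := by
    calc m * x * m⁻¹ = n * (φ p⁻¹ * x * (φ p⁻¹)⁻¹) * n⁻¹ := by rw [hm]; group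
      _ = x * φ pf := by rw [H.comm', mul_inv_cancel_right, hx]
  -- `m` fixes `f`
  have hmf : m * φ pf * m⁻¹ = φ pf := by
    obtain ⟨u, hu, h3⟩ := hmA pf gens_aux.1
    have e1 : u * pr = pr * u := by
      apply H.inj
      rw [map_mul, map_mul, ← h3]
      calc m * φ pf * m⁻¹ * φ pr = m * φ pf * m⁻¹ * (φ pr * m) * m⁻¹ := by group
        _ = m * φ pf * m⁻¹ * (m * φ pr) * m⁻¹ := by rw [hmr]
        _ = m * (φ pf * φ pr) * m⁻¹ := by group
        _ = m * (φ pr * φ pf) * m⁻¹ := by rw [← map_mul, ← pr_pf, map_mul]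
        _ = (m * φ pr) * φ pf * m⁻¹ := by group
        _ = (φ pr * m) * φ pf * m⁻¹ := by rw [hmr]
        _ = φ pr * (m * φ pf * m⁻¹) := by group
    obtain ⟨e, f, z, rfl⟩ := exists_inA u hu
    rcases fix_aux e f z e1 with h | h
    · exfalso
      rw [h, map_one, mul_inv_eq_one] at h3
      exact absurd (H.phi_eq_one (mul_left_cancel (h3.trans (mul_one m).symm))) (by decide +kernel)
    · rw [h3, h]
  -- `m` maps `z` into the orbit of `pr`
  obtain ⟨u, hu, h3⟩ := hmA pz gens_aux.2.1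
  have hmr' : m * (φ pr)⁻¹ = (φ pr)⁻¹ * m := by
    rw [eq_inv_mul_iff_mul_eq, ← mul_assoc, ← hmr, mul_inv_cancel_right]
  have e1 : m * (φ pr * φ pz * (φ pr)⁻¹) * m⁻¹ = φ (pr * u * pr⁻¹) := by
    calc m * (φ pr * φ pz * (φ pr)⁻¹) * m⁻¹ = (m * φ pr) * φ pz * (φ pr)⁻¹ * m⁻¹ := by group
      _ = (φ pr * m) * φ pz * (φ pr)⁻¹ * m⁻¹ := by rw [hmr]
      _ = φ pr * (m * φ pz * m⁻¹) * (m * (φ pr)⁻¹) * m⁻¹ := by group
      _ = φ pr * φ u * ((φ pr)⁻¹ * m) * m⁻¹ := by rw [h3, hmr']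
      _ = φ (pr * u * pr⁻¹) := by simp only [map_mul, map_inv]; group
  have e2 : m * (φ pr * φ pr * φ pz * (φ pr)⁻¹ * (φ pr)⁻¹) * m⁻¹ = φ (pr * pr * u * pr⁻¹ * pr⁻¹) := by
    calc m * (φ pr * φ pr * φ pz * (φ pr)⁻¹ * (φ pr)⁻¹) * m⁻¹
        = (m * φ pr) * (φ pr * φ pz * (φ pr)⁻¹) * (φ pr)⁻¹ * m⁻¹ := by group
      _ = (φ pr * m) * (φ pr * φ pz * (φ pr)⁻¹) * (φ pr)⁻¹ * m⁻¹ := by rw [hmr]
      _ = φ pr * (m * (φ pr * φ pz * (φ pr)⁻¹) * m⁻¹) * (m * (φ pr)⁻¹) * m⁻¹ := by group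
      _ = φ pr * φ (pr * u * pr⁻¹) * ((φ pr)⁻¹ * m) * m⁻¹ := by rw [e1, hmr']
      _ = φ (pr * pr * u * pr⁻¹ * pr⁻¹) := by simp only [map_mul, map_inv]; group
  have e3 : u * (pr * u * pr⁻¹) * (pr * pr * u * pr⁻¹ * pr⁻¹) = 1 := by
    apply H.phi_eq_one
    rw [map_mul, map_mul, ← h3, ← e1, ← e2]
    have e4 : φ pz * (φ pr * φ pz * (φ pr)⁻¹) * (φ pr * φ pr * φ pz * (φ pr)⁻¹ * (φ pr)⁻¹) = 1 := by
      rw [← map_one φ, ← z_rel]
      simp only [map_mul, map_inv]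
    calc m * φ pz * m⁻¹ * (m * (φ pr * φ pz * (φ pr)⁻¹) * m⁻¹) *
          (m * (φ pr * φ pr * φ pz * (φ pr)⁻¹ * (φ pr)⁻¹) * m⁻¹)
        = m * (φ pz * (φ pr * φ pz * (φ pr)⁻¹) * (φ pr * φ pr * φ pz * (φ pr)⁻¹ * (φ pr)⁻¹)) * m⁻¹ := by group
      _ = 1 := by rw [e4]; group
  have hu1 : u ≠ 1 := by
    rintro rfl
    rw [map_one, mul_inv_eq_one] at h3
    exact pz_ne (H.phi_eq_one (mul_left_cancel (h3.trans (mul_one m).symm)))
  obtain ⟨e, f, z, rfl⟩ := exists_inA u hu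
  -- adjust by a power of `pr`
  have fin : ∀ r : P6, r * pr = pr * r → r * pf = pf * r → pu 0 e f z = r * pz * r⁻¹ →
      ∃ y : G, y * x * y⁻¹ = x * φ pf ∧ y * φ pf = φ pf * y ∧ y * φ pz = φ pz * y ∧ y * φ pe = φ pe * y ∧
        y * φ pr = φ pr * y := by
    intro r hr hrf hur
    have hrr : (φ r)⁻¹ * φ pr = φ pr * (φ r)⁻¹ := by
      rw [inv_mul_eq_iff_eq_mul, ← mul_assoc, ← map_mul, hr, map_mul, mul_inv_cancel_right]
    have hyr : (φ r)⁻¹ * m * φ pr = φ pr * ((φ r)⁻¹ * m) := by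
      calc (φ r)⁻¹ * m * φ pr = (φ r)⁻¹ * (m * φ pr) := by group
        _ = (φ r)⁻¹ * (φ pr * m) := by rw [hmr]
        _ = ((φ r)⁻¹ * φ pr) * m := by group
        _ = φ pr * ((φ r)⁻¹ * m) := by rw [hrr, mul_assoc]
    have hyz : (φ r)⁻¹ * m * φ pz = φ pz * ((φ r)⁻¹ * m) := by
      calc (φ r)⁻¹ * m * φ pz = (φ r)⁻¹ * (m * φ pz * m⁻¹) * m := by group
        _ = φ pz * ((φ r)⁻¹ * m) := by rw [h3, hur]; simp only [map_mul, map_inv]; group
    refine ⟨(φ r)⁻¹ * m, ?_, ?_, hyz, ?_, hyr⟩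
    · calc (φ r)⁻¹ * m * x * ((φ r)⁻¹ * m)⁻¹ = (φ r)⁻¹ * (m * x * m⁻¹) * φ r := by group
        _ = (φ r)⁻¹ * (x * (φ pf * φ r)) := by rw [hmx]; group
        _ = (φ r)⁻¹ * (x * (φ r * φ pf)) := by rw [← map_mul, ← hrf, map_mul]
        _ = (φ r)⁻¹ * ((x * φ r) * φ pf) := by group
        _ = (φ r)⁻¹ * ((φ r * x) * φ pf) := by rw [H.comm]
        _ = x * φ pf := by group
    · calc (φ r)⁻¹ * m * φ pf = (φ r)⁻¹ * (m * φ pf * m⁻¹) * m := by group
        _ = (φ r)⁻¹ * φ pf * m := by rw [hmf]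
        _ = (φ r)⁻¹ * (φ pf * φ r) * (φ r)⁻¹ * m := by group
        _ = (φ r)⁻¹ * (φ r * φ pf) * (φ r)⁻¹ * m := by rw [← map_mul, ← hrf, map_mul]
        _ = φ pf * ((φ r)⁻¹ * m) := by group
    · have hyr' : (φ r)⁻¹ * m * (φ pr)⁻¹ = (φ pr)⁻¹ * ((φ r)⁻¹ * m) := by
        rw [eq_inv_mul_iff_mul_eq, ← mul_assoc, ← hyr, mul_inv_cancel_right]
      have e5 : φ pe = (φ pr)⁻¹ * φ pz * φ pr := by rw [← pr_rel]; simp only [map_mul, map_inv]
      rw [e5]
      calc (φ r)⁻¹ * m * ((φ pr)⁻¹ * φ pz * φ pr) = ((φ r)⁻¹ * m * (φ pr)⁻¹) * φ pz * φ pr := by group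
        _ = (φ pr)⁻¹ * ((φ r)⁻¹ * m * φ pz) * φ pr := by rw [hyr']; group
        _ = (φ pr)⁻¹ * φ pz * ((φ r)⁻¹ * m * φ pr) := by rw [hyz]; group
        _ = (φ pr)⁻¹ * φ pz * φ pr * ((φ r)⁻¹ * m) := by rw [hyr]; group
  rcases z_aux e f z hu1 e3 with h | h | h
  · exact fin 1 (by simp) (by simp) (by rw [h]; simp)
  · exact fin pr rfl (by decide +kernel) h
  · exact fin pr⁻¹ (by simp) (by decide +kernel) (by rw [h, inv_inv])

theorem pf_aux : ∀ e f z : ZMod 2, pu 0 e f z * pr = pr * pu 0 e f z → ∃ i : ZMod 2, pu 0 e f z = pw pf i := by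
  decide +kernel

/-- an element of `C(x)` centralizing `A₂` and `pr` is in `⟨x, φ(pf)⟩` -/
theorem mem_xf (H : SixB x φ) {g : G} (hx : g * x = x * g) (hf : g * φ pf = φ pf * g) (hz : g * φ pz = φ pz * g)
    (he : g * φ pe = φ pe * g) (hr : g * φ pr = φ pr * g) :
    ∃ i : ZMod 2, g = φ (pw pf i) ∨ g = x * φ (pw pf i) := by
  have key : ∀ u, InA u → u * pr = pr * u → ∃ i : ZMod 2, u = pw pf i := by
    intro u hu h
    obtain ⟨e, f, z, rfl⟩ := exists_inA u hu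
    exact pf_aux e f z h
  obtain ⟨u, rfl | rfl⟩ := H.cases hx
  · obtain ⟨i, rfl⟩ := key u ⟨H.inj (by rw [map_mul, map_mul, hf]), H.inj (by rw [map_mul, map_mul, hz]),
      H.inj (by rw [map_mul, map_mul, he])⟩ (H.inj (by rw [map_mul, map_mul, hr]))
    exact ⟨i, Or.inl rfl⟩
  · have h0 : ∀ v, x * φ u * φ v = φ v * (x * φ u) → u * v = v * u := by
      intro v h
      apply H.inj
      apply mul_left_cancel (a := x)
      rw [map_mul, map_mul, ← mul_assoc, h, ← mul_assoc, ← mul_assoc, H.comm v]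
    obtain ⟨i, rfl⟩ := key u ⟨h0 _ hf, h0 _ hz, h0 _ he⟩ (h0 _ hr)
    exact ⟨i, Or.inr rfl⟩

theorem pa_aux : pa * pa = 1 ∧ pa * pf = pf * pa ∧ pa * pe * pa⁻¹ = pe * pz ∧ pa * pz = pz * pa ∧
    pa * pr * pa⁻¹ = pr⁻¹ ∧ pa⁻¹ = pa := by decide +kernel

/-- the element `y` -/
theorem exists_y (H : SixB x φ) {n : G} (hx : n * x * n⁻¹ = x * φ pf) (h1 : NA φ n) (h2 : NA φ n⁻¹) :
    ∃ (y : G) (c : ZMod 2), y * y = 1 ∧ y * x * y⁻¹ = x * φ pf ∧ y * φ pf = φ pf * y ∧ y * φ pz = φ pz * y ∧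
      y * φ pe = φ pe * y ∧ y * φ pr = φ pr * y ∧ y * φ pa * y⁻¹ = φ (pa * pw pf c) := by
  obtain ⟨y, yx, yf, yz, ye, yr⟩ := H.exists_y1 hx h1 h2
  have hff : pf * pf = 1 := invU_aux.2.2.2.2.2.2.1
  -- the square
  have yx' : y * x = x * φ pf * y := by rw [← yx]; group
  have hyyx : y * y * x = x * (y * y) := by
    calc y * y * x = y * (y * x) := by group
      _ = y * (x * φ pf * y) := by rw [yx']
      _ = (y * x) * φ pf * y := by group
      _ = x * φ pf * (y * φ pf) * y := by rw [yx']; group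
      _ = x * (φ pf * φ pf) * (y * y) := by rw [yf]; group
      _ = x * (y * y) := by rw [← map_mul, hff, map_one, mul_one]
  have comm2 : ∀ g, y * g = g * y → y * y * g = g * (y * y) := by
    intro g hg
    calc y * y * g = y * (y * g) := by group
      _ = y * (g * y) := by rw [hg]
      _ = (y * g) * y := by group
      _ = g * (y * y) := by rw [hg]; group
  have hsq : y * y = 1 ∨ y * y = φ pf := by
    obtain ⟨i, h | h⟩ := H.mem_xf hyyx (comm2 _ yf) (comm2 _ yz) (comm2 _ ye) (comm2 _ yr)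
    · rcases zmod2 i with rfl | rfl
      · left; rw [h, pw_zero, map_one]
      · right; rw [h, pw_one]
    · exfalso
      -- `y` commutes with `y y = x φ(..)`
      have h3 : y * (x * φ (pw pf i)) = x * φ (pw pf i) * y := by rw [← h]; group
      have h4 : y * φ (pw pf i) = φ (pw pf i) * y := by
        rcases zmod2 i with rfl | rfl
        · rw [pw_zero, map_one, mul_one, one_mul]
        · exact yf
      have h5 : x * φ pf * y * φ (pw pf i) = x * φ (pw pf i) * y := by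
        rw [← h3, ← yx']; group
      have h6 : x * φ pf * (y * φ (pw pf i)) = x * (y * φ (pw pf i)) := by
        rw [← mul_assoc, h5, h4, mul_assoc]
      have h7 : x * φ pf = x := mul_right_cancel h6
      exact absurd (H.phi_eq_one (mul_eq_left.1 h7)) (by decide +kernel)
  -- correct the square
  obtain ⟨w, ww, wx, wf, wz, we, wr⟩ : ∃ w : G, w * w = 1 ∧ w * x * w⁻¹ = x * φ pf ∧ w * φ pf = φ pf * w ∧
      w * φ pz = φ pz * w ∧ w * φ pe = φ pe * w ∧ w * φ pr = φ pr * w := by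
    rcases hsq with h | h
    · exact ⟨y, h, yx, yf, yz, ye, yr⟩
    · have key : ∀ u, y * φ u = φ u * y → y * x * φ u = φ u * (y * x) := by
        intro u hu
        rw [mul_assoc, H.comm, ← mul_assoc, hu, mul_assoc]
      refine ⟨y * x, ?_, ?_, key _ yf, key _ yz, key _ ye, key _ yr⟩
      · calc y * x * (y * x) = (y * x * y⁻¹) * (y * y) * x := by group
          _ = x * (φ pf * φ pf) * x := by rw [yx, h]; group
          _ = 1 := by rw [← map_mul, hff, map_one, mul_one, H.xx]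
      · calc y * x * x * (y * x)⁻¹ = y * x * y⁻¹ := by group
          _ = x * φ pf := yx
  -- the action on `pa`
  obtain ⟨haa, haf, hae, haz, har, hai⟩ := pa_aux
  have wx' : w * x = x * φ pf * w := by rw [← wx]; group
  have winv : w⁻¹ = w := inv_eq_of_mul_eq_one_left ww
  have hai' : (φ pa)⁻¹ = φ pa := by rw [← map_inv, hai]
  have haa' : φ pa * φ pa = 1 := by rw [← map_mul, haa, map_one]
  have k1 : w * φ pa * w⁻¹ * (φ pa)⁻¹ = w * φ pa * w * φ pa := by rw [winv, hai']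
  have haf' : φ pa * φ pf = φ pf * φ pa := by rw [← map_mul, haf, map_mul]
  have haz' : φ pa * φ pz = φ pz * φ pa := by rw [← map_mul, haz, map_mul]
  have hae' : φ pa * φ pe = φ pe * φ pz * φ pa := by
    rw [← map_mul, ← map_mul, ← map_mul, ← hae]; congr 1; group
  have har' : φ pa * φ pr = φ pr⁻¹ * φ pa := by
    rw [← map_mul, ← map_mul, ← har]; congr 1; group
  have wr' : w * φ pr⁻¹ = φ pr⁻¹ * w := by
    rw [map_inv, eq_inv_mul_iff_mul_eq, ← mul_assoc, ← wr, mul_inv_cancel_right]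
  have har'' : φ pa * φ pr⁻¹ = φ pr * φ pa := by
    have : pa * pr⁻¹ = pr * pa := by decide +kernel
    rw [← map_mul, this, map_mul]
  have wff : φ pf * φ pf = 1 := by rw [← map_mul, hff, map_one]
  have kx : w * φ pa * w * φ pa * x = x * (w * φ pa * w * φ pa) := by
    calc w * φ pa * w * φ pa * x = w * φ pa * w * (φ pa * x) := by group
      _ = w * φ pa * (w * x) * φ pa := by rw [H.comm']; group
      _ = w * (φ pa * x) * φ pf * w * φ pa := by rw [wx']; group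
      _ = (w * x) * (φ pa * φ pf) * w * φ pa := by rw [H.comm']; group
      _ = x * φ pf * (w * φ pf) * φ pa * w * φ pa := by rw [wx', haf']; group
      _ = x * (φ pf * φ pf) * (w * φ pa * w * φ pa) := by rw [wf]; group
      _ = x * (w * φ pa * w * φ pa) := by rw [wff, mul_one]
  have kf : w * φ pa * w * φ pa * φ pf = φ pf * (w * φ pa * w * φ pa) := by
    calc w * φ pa * w * φ pa * φ pf = w * φ pa * w * (φ pa * φ pf) := by group
      _ = w * φ pa * (w * φ pf) * φ pa := by rw [haf']; group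
      _ = w * (φ pa * φ pf) * w * φ pa := by rw [wf]; group
      _ = (w * φ pf) * φ pa * w * φ pa := by rw [haf']; group
      _ = φ pf * (w * φ pa * w * φ pa) := by rw [wf]; group
  have kz : w * φ pa * w * φ pa * φ pz = φ pz * (w * φ pa * w * φ pa) := by
    calc w * φ pa * w * φ pa * φ pz = w * φ pa * w * (φ pa * φ pz) := by group
      _ = w * φ pa * (w * φ pz) * φ pa := by rw [haz']; group
      _ = w * (φ pa * φ pz) * w * φ pa := by rw [wz]; group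
      _ = (w * φ pz) * φ pa * w * φ pa := by rw [haz']; group
      _ = φ pz * (w * φ pa * w * φ pa) := by rw [wz]; group
  have hzz : φ pz * φ pz = 1 := by rw [← map_mul, invU_aux.2.2.2.2.2.2.2, map_one]
  have ke : w * φ pa * w * φ pa * φ pe = φ pe * (w * φ pa * w * φ pa) := by
    calc w * φ pa * w * φ pa * φ pe = w * φ pa * w * (φ pa * φ pe) := by group
      _ = w * φ pa * (w * φ pe) * φ pz * φ pa := by rw [hae']; group
      _ = w * (φ pa * φ pe) * (w * φ pz) * φ pa := by rw [we]; group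
      _ = (w * φ pe) * φ pz * (φ pa * φ pz) * w * φ pa := by rw [wz, hae']; group
      _ = φ pe * w * (φ pz * φ pz) * φ pa * w * φ pa := by rw [we, haz']; group
      _ = φ pe * (w * φ pa * w * φ pa) := by rw [hzz]; group
  have kr : w * φ pa * w * φ pa * φ pr = φ pr * (w * φ pa * w * φ pa) := by
    calc w * φ pa * w * φ pa * φ pr = w * φ pa * w * (φ pa * φ pr) := by group
      _ = w * φ pa * (w * φ pr⁻¹) * φ pa := by rw [har']; group
      _ = w * (φ pa * φ pr⁻¹) * w * φ pa := by rw [wr']; group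
      _ = (w * φ pr) * φ pa * w * φ pa := by rw [har'']; group
      _ = φ pr * (w * φ pa * w * φ pa) := by rw [wr]; group
  obtain ⟨i, hi⟩ := H.mem_xf kx kf kz ke kr
  have hwa : w * φ pa * w⁻¹ = w * φ pa * w * φ pa * φ pa := by
    rw [winv, mul_assoc (w * φ pa * w), haa', mul_one]
  refine ⟨w, i, ww, wx, wf, wz, we, wr, ?_⟩
  have hcomm : pw pf i * pa = pa * pw pf i := by
    rcases zmod2 i with rfl | rfl
    · simp
    · exact haf.symm
  rcases hi with h | h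
  · rw [hwa, h, ← map_mul, hcomm]
  · exfalso
    have hwa' : w * φ pa * w⁻¹ = x * φ (pa * pw pf i) := by
      rw [hwa, h, mul_assoc, ← map_mul, hcomm]
    have h8 : ∀ i : ZMod 2, pa * pw pf i * (pa * pw pf i) = 1 ∧ pa * pw pf i ≠ 1 := by decide +kernel
    apply H.not_isConj_phi pa
    have h9 : IsConj (w * φ pa * w⁻¹) (φ pa) := isConj_iff.2 ⟨w⁻¹, by group⟩
    rw [hwa'] at h9
    exact (H.fus _ (h8 i).1 (h8 i).2).trans h9

end SixB

end Cfsg.Agent.OddHalf.D6.SixU
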